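import Cfsg.Agent.Helper25.CharPos
import Cfsg.Agent.Helper25.BlockThird
import Cfsg.Agent.Helper24.MGroup
import Cfsg.Agent.Helper24.OneNonlinear
import Cfsg.Agent.Helper2.CharLinear
import Cfsg.Agent.Helper2.CharComplete
import Cfsg.Agent.Helper2.CharNat

set_option autoImplicit false

/-!
# Gallagher: extensions of an irreducible character differ by linear characters (helper25)
-/

namespace Cfsg.Agent.Helper25

open Cfsg
open scoped ComplexConjugate

section

variable {G : Type*} [Group G]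

/-- The coset average of `ψ * conj χ`. -/
noncomputable def cosetPair (N : Subgroup G) [Fintype N] (ψ χ : G → ℂ) : G → ℂ :=
  fun g => (Nat.card N : ℂ)⁻¹ * ∑ n : N, ψ ((n : G) * g) * conj (χ ((n : G) * g))

theorem cosetPair_mul_left (N : Subgroup G) [Fintype N] (ψ χ : G → ℂ) (m : N) (g : G) :
    cosetPair N ψ χ ((m : G) * g) = cosetPair N ψ χ g := by
  unfold cosetPair
  congr 1
  refine Fintype.sum_equiv (Equiv.mulRight m) _ _ (fun n => ?_)
  rw [Equiv.coe_mulRight, Subgroup.coe_mul, mul_assoc]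

theorem isClassFunction_cosetPair (N : Subgroup G) [hN : N.Normal] [Fintype N] {ψ χ : G → ℂ}
    (hψ : IsClassFunction G ψ) (hχ : IsClassFunction G χ) :
    IsClassFunction G (cosetPair N ψ χ) := by
  intro g h
  unfold cosetPair
  congr 1
  refine Fintype.sum_equiv (MulAut.conjNormal h⁻¹ : N ≃* N).toEquiv _ _ (fun n => ?_)
  have h1 : (((MulAut.conjNormal h⁻¹ : N ≃* N).toEquiv n : N) : G) * g =
      h⁻¹ * ((n : G) * (h * g * h⁻¹)) * h⁻¹⁻¹ := by
    show ((MulAut.conjNormal h⁻¹ n : N) : G) * g = _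
    rw [MulAut.conjNormal_apply]
    group
  rw [h1, hψ, hχ]

theorem isCharacter_cosetPair [Fintype G] (N : Subgroup G) [hN : N.Normal] [Fintype N]
    {ψ χ : G → ℂ} (hψ : IsCharacter G ψ) (hχ : IsCharacter G χ) :
    IsCharacter G (cosetPair N ψ χ) := by
  refine Helper2.isCharacter_of_classInner_nat
    (isClassFunction_cosetPair N (Helper2.IsCharacter.isClassFunction hψ)
      (Helper2.IsCharacter.isClassFunction hχ)) (fun β hβ => ?_)
  by_cases hk : ∃ x ∈ N, β x ≠ β 1
  · exact ⟨0, by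
      rw [Helper6.classInner_eq_zero_of_not_ker N (cosetPair N ψ χ) β
        (fun m g => cosetPair_mul_left N ψ χ m g) hβ hk]; simp⟩
  · push Not at hk
    have hβc := Helper24.isCharacter_of_irr hβ
    have h1 := Helper6.classInner_cosetAvg N ψ χ β
      (fun m g => Helper6.char_mul_of_eq_degree hβc (hk (m : G) m.2) g)
    obtain ⟨m, hm⟩ := Helper2.classInner_char_nat hψ (Helper2.IsCharacter.mul hβc hχ)
    exact ⟨m, by rw [← hm, ← h1]; rfl⟩

/-- Gallagher: two irreducible characters of `G` with the same irreducible restriction to a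
normal subgroup `N` differ by a linear character of `G / N`. -/
theorem gallagher_unique [Fintype G] (N : Subgroup G) [hN : N.Normal] [Fintype N]
    {χ ψ : G → ℂ} (hχ : IsIrrCharacter G χ) (hψ : IsIrrCharacter G ψ)
    (hres : ∀ n : N, ψ n = χ n) (hirr : IsIrrCharacter N (fun n : N => χ n)) :
    ∃ lam : G →* ℂˣ, (∀ n ∈ N, lam n = 1) ∧ ∀ g, ψ g = ((lam g : ℂˣ) : ℂ) * χ g := by
  have hΛ := isCharacter_cosetPair N (Helper24.isCharacter_of_irr hψ)
    (Helper24.isCharacter_of_irr hχ)
  have hΛ1 : cosetPair N ψ χ 1 = 1 := by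
    have h1 := Helper2.classInner_irr hirr hirr
    rw [if_pos rfl] at h1
    rw [← h1]
    unfold cosetPair classInner
    congr 1
    refine Finset.sum_congr rfl (fun n _ => ?_)
    rw [mul_one, hres]
  obtain ⟨lam, hlam⟩ := Helper24.exists_hom_of_linear hΛ hΛ1
  refine ⟨lam, fun n hn => ?_, ?_⟩
  · have h1 := cosetPair_mul_left N ψ χ ⟨n, hn⟩ 1
    rw [mul_one, hΛ1, hlam] at h1
    exact Units.ext h1
  · have hinvβ : ∀ (m : N) (g : G), (fun g => ((lam g : ℂˣ) : ℂ)) ((m : G) * g)
        = (fun g => ((lam g : ℂˣ) : ℂ)) g := by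
      intro m g
      show ((lam ((m : G) * g) : ℂˣ) : ℂ) = lam g
      rw [← hlam, ← hlam]
      exact cosetPair_mul_left N ψ χ m g
    have h1 := Helper6.classInner_cosetAvg N ψ χ (fun g => ((lam g : ℂˣ) : ℂ)) hinvβ
    have hfun : cosetPair N ψ χ = fun g => ((lam g : ℂˣ) : ℂ) := funext hlam
    have hlirr := Helper2.isIrrCharacter_of_hom lam
    have h2 := Helper2.classInner_irr hlirr hlirr
    rw [if_pos rfl] at h2
    have h3 : classInner ψ (fun g => ((lam g : ℂˣ) : ℂ) * χ g) = 1 := by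
      have h5 : ((fun g => ((lam g : ℂˣ) : ℂ)) * χ) = (fun g => ((lam g : ℂˣ) : ℂ) * χ g) := rfl
      rw [← h5, ← h1]
      show classInner (cosetPair N ψ χ) _ = 1
      rw [hfun]
      exact h2
    have hprod : IsIrrCharacter G (fun g => ((lam g : ℂˣ) : ℂ) * χ g) :=
      Helper24.isIrrCharacter_hom_mul lam hχ
    have h4 := Helper2.classInner_irr hψ hprod
    rw [h3] at h4
    by_cases heq : ψ = fun g => ((lam g : ℂˣ) : ℂ) * χ g
    · intro g
      exact congrFun heq g
    · rw [if_neg heq] at h4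
      exact absurd h4 one_ne_zero

end

/-- For `p = 2`: an irreducible character of odd degree that is real on the elements of odd
order lies in the principal block. -/
theorem mem_principal_of_real_on_regular {G : Type*} [Group G] [Fintype G] {M : Ideal AlgInt}
    (hM : IsPModular 2 M) (χ : IrrCharacter G)
    (hreal : ∀ g : G, ¬ 2 ∣ orderOf g → (χ : G → ℂ) g⁻¹ = (χ : G → ℂ) g)
    (hodd : Odd (charDegree (χ : G → ℂ))) : χ ∈ principalBlock M G := by
  classical
  have hMp : M.IsPrime := hM.2.1.isPrime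
  rw [mem_principal_iff hM χ]
  have hχc := Helper24.isCharacter_of_irr χ.2
  have hd := Helper24.charDegree_spec hχc
  have hdinv : MemLocalRing M ((χ : G → ℂ) 1)⁻¹ := by
    rw [hd]
    refine MemLocalRing.inv (memLocalRing_natCast hMp.ne_top _) (fun h => ?_)
    have h2 := (memLocalIdeal_natCast_iff hM _).mp h
    exact (Nat.not_even_iff_odd.mpr hodd) (even_iff_two_dvd.mpr h2)
  have hχ1 : (χ : G → ℂ) 1 ≠ 0 := irr_one_ne_zero χ.2
  have hJ : MemLocalIdeal M (∑ g : G, (if (2 ∣ orderOf g ∨ g = 1) then 0 else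
      (χ : G → ℂ) g / (χ : G → ℂ) 1)) := by
    refine invol_sum_mem (fun g : G => g⁻¹) inv_inv (localIdeal M hMp) _
      (fun g hg => ?_) (fun g hg => ?_)
    · show (if (2 ∣ orderOf g ∨ g = 1) then (0 : ℂ) else (χ : G → ℂ) g / (χ : G → ℂ) 1)
        + (if (2 ∣ orderOf g⁻¹ ∨ g⁻¹ = 1) then (0 : ℂ) else
          (χ : G → ℂ) g⁻¹ / (χ : G → ℂ) 1) ∈ localIdeal M hMp
      rw [orderOf_inv, inv_eq_one]
      by_cases hcond : (2 ∣ orderOf g ∨ g = 1)
      · rw [if_pos hcond, if_pos hcond, add_zero]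
        exact MemLocalIdeal.zero hMp.ne_top
      · rw [if_neg hcond, if_neg hcond, hreal g (fun h => hcond (Or.inl h))]
        have e : (χ : G → ℂ) g / (χ : G → ℂ) 1 + (χ : G → ℂ) g / (χ : G → ℂ) 1
            = ((2 : ℕ) : ℂ) * ((χ : G → ℂ) g * ((χ : G → ℂ) 1)⁻¹) := by
          push_cast
          ring
        rw [e]
        exact MemLocalIdeal.mul_right hMp ((memLocalIdeal_natCast_iff hM 2).mpr (dvd_refl 2))
          (MemLocalRing.mul hMp (memLocalRing_of_isIntegral hMp.ne_top
            (Helper2.IsCharacter.isIntegral hχc g)) hdinv)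
    · show (if (2 ∣ orderOf g ∨ g = 1) then (0 : ℂ) else (χ : G → ℂ) g / (χ : G → ℂ) 1)
        ∈ localIdeal M hMp
      have hg' : g⁻¹ = g := hg
      have hcond : 2 ∣ orderOf g ∨ g = 1 := by
        have h2 : g ^ 2 = 1 := by
          rw [pow_two]
          nth_rewrite 1 [← hg']
          exact inv_mul_cancel g
        have h3 := orderOf_dvd_of_pow_eq_one h2
        rcases (Nat.dvd_prime Nat.prime_two).mp h3 with h | h
        · right
          exact orderOf_eq_one_iff.mp h
        · left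
          rw [h]
      rw [if_pos hcond]
      exact MemLocalIdeal.zero hMp.ne_top
  intro hcon
  have e : ∑ g : G, (if 2 ∣ orderOf g then 0 else (χ : G → ℂ) g / (χ : G → ℂ) 1)
      = 1 + ∑ g : G, (if (2 ∣ orderOf g ∨ g = 1) then 0 else
        (χ : G → ℂ) g / (χ : G → ℂ) 1) := by
    have e1 : (1 : ℂ) = ∑ g : G, (if g = 1 then (1 : ℂ) else 0) := by
      rw [Finset.sum_ite_eq' Finset.univ (1 : G) (fun _ => (1 : ℂ)), if_pos (Finset.mem_univ _)]
    rw [e1, ← Finset.sum_add_distrib]
    refine Finset.sum_congr rfl (fun g _ => ?_)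
    by_cases hg1 : g = 1
    · subst hg1
      rw [if_pos rfl, if_pos (Or.inr rfl), add_zero, orderOf_one, if_neg (by decide),
        div_self hχ1]
    · by_cases h2 : 2 ∣ orderOf g
      · rw [if_pos h2, if_neg hg1, if_pos (Or.inl h2), add_zero]
      · rw [if_neg h2, if_neg hg1, if_neg (not_or.2 ⟨h2, hg1⟩), zero_add]
  rw [e] at hcon
  apply not_memLocalIdeal_one (M := M)
  have e2 : (1 : ℂ) = (1 + ∑ g : G, (if (2 ∣ orderOf g ∨ g = 1) then 0 else
        (χ : G → ℂ) g / (χ : G → ℂ) 1))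
      - ∑ g : G, (if (2 ∣ orderOf g ∨ g = 1) then 0 else
        (χ : G → ℂ) g / (χ : G → ℂ) 1) := by ring
  rw [e2]
  exact MemLocalIdeal.sub hMp hcon hJ

end Cfsg.Agent.Helper25
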