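import Mathlib
import Cfsg.Prelude.Def_RootSubgroups

set_option autoImplicit false

namespace Cfsg.Agent.Helper25

open Cfsg

variable {G : Type*} [Group G]

theorem mem_conjBy {A : Subgroup G} {g x : G} : x ∈ conjBy A g ↔ g⁻¹ * x * g ∈ A := by
  unfold conjBy
  rw [Subgroup.mem_map]
  constructor
  · rintro ⟨a, ha, rfl⟩
    simpa [MulAut.conj_apply, mul_assoc] using ha
  · intro h
    exact ⟨g⁻¹ * x * g, h, by simp [MulAut.conj_apply, mul_assoc]⟩

theorem conj_mem_conjBy {A : Subgroup G} {g a : G} (ha : a ∈ A) : g * a * g⁻¹ ∈ conjBy A g := by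
  rw [mem_conjBy]
  simpa [mul_assoc] using ha

theorem conjBy_one (A : Subgroup G) : conjBy A 1 = A := by
  ext x
  rw [mem_conjBy]
  simp

theorem conjBy_conjBy (A : Subgroup G) (g h : G) : conjBy (conjBy A h) g = conjBy A (g * h) := by
  ext x
  rw [mem_conjBy, mem_conjBy, mem_conjBy]
  simp [mul_assoc]

theorem conjBy_of_mem {A : Subgroup G} {g : G} (hg : g ∈ A) : conjBy A g = A := by
  ext x
  rw [mem_conjBy]
  constructor
  · intro h
    have := A.mul_mem (A.mul_mem hg h) (A.inv_mem hg)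
    simpa [mul_assoc] using this
  · intro h
    exact A.mul_mem (A.mul_mem (A.inv_mem hg) h) hg

theorem conjBy_eq_iff {A B : Subgroup G} {g : G} : conjBy A g = B ↔ A = conjBy B g⁻¹ := by
  constructor
  · rintro rfl
    rw [conjBy_conjBy]
    simp [conjBy_one]
  · intro h
    rw [h, conjBy_conjBy]
    simp [conjBy_one]

theorem conjBy_injective (g : G) {A B : Subgroup G} (h : conjBy A g = conjBy B g) : A = B := by
  rw [conjBy_eq_iff, conjBy_conjBy] at h
  simpa [conjBy_one] using h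

theorem conjBy_mono {A B : Subgroup G} (h : A ≤ B) (g : G) : conjBy A g ≤ conjBy B g :=
  Subgroup.map_mono h

theorem conjBy_le_of_mem {A Y : Subgroup G} (h : A ≤ Y) {g : G} (hg : g ∈ Y) : conjBy A g ≤ Y := by
  intro x hx
  rw [mem_conjBy] at hx
  have := Y.mul_mem (Y.mul_mem hg (h hx)) (Y.inv_mem hg)
  simpa [mul_assoc] using this

theorem conjBy_sup (A B : Subgroup G) (g : G) : conjBy (A ⊔ B) g = conjBy A g ⊔ conjBy B g :=
  Subgroup.map_sup A B _

theorem conjBy_eq_self_iff {A : Subgroup G} {g : G} :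
    conjBy A g = A ↔ g ∈ Subgroup.normalizer (A : Set G) := by
  rw [Subgroup.mem_normalizer_iff]
  constructor
  · intro h x
    constructor
    · intro hx
      rw [← h]
      exact conj_mem_conjBy hx
    · intro hx
      rw [← h, mem_conjBy] at hx
      simpa [mul_assoc] using hx
  · intro h
    ext x
    rw [mem_conjBy, h (g⁻¹ * x * g)]
    simp [mul_assoc]

theorem conjBy_eq_self_of_comm {A : Subgroup G} {g : G} (h : ∀ a ∈ A, g * a = a * g) :
    conjBy A g = A := by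
  ext x
  rw [mem_conjBy]
  constructor
  · intro hx
    have h1 := h _ hx
    have h2 : g⁻¹ * x * g = x := by
      have : g * (g⁻¹ * x * g) = x * g := by group
      rw [h1] at this
      exact mul_right_cancel this
    rw [← h2]; exact hx
  · intro hx
    have h1 := h _ hx
    have : g⁻¹ * x * g = x := by
      rw [mul_assoc, ← h1]; group
    rw [this]; exact hx


theorem sup_induction' {A B : Subgroup G} {p : G → Prop} (hA : ∀ a ∈ A, p a) (hB : ∀ b ∈ B, p b)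
    (hmul : ∀ x y, p x → p y → p (x * y)) {x : G} (hx : x ∈ A ⊔ B) : p x := by
  have key : p x ∧ p x⁻¹ := by
    rw [Subgroup.sup_eq_closure] at hx
    induction hx using Subgroup.closure_induction with
    | mem y hy =>
      rcases hy with hy | hy
      · exact ⟨hA y hy, hA _ (A.inv_mem hy)⟩
      · exact ⟨hB y hy, hB _ (B.inv_mem hy)⟩
    | one => exact ⟨hA 1 A.one_mem, by simpa using hA 1 A.one_mem⟩
    | mul y z _ _ hy hz =>
      refine ⟨hmul _ _ hy.1 hz.1, ?_⟩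
      rw [mul_inv_rev]
      exact hmul _ _ hz.2 hy.2
    | inv y _ hy => exact ⟨hy.2, by simpa using hy.1⟩
  exact key.1

section RankOne

variable {A B : Subgroup G}

theorem exists_ne_one_of_ne_bot {A : Subgroup G} (h : A ≠ ⊥) : ∃ a ∈ A, a ≠ 1 := by
  rw [Subgroup.ne_bot_iff_exists_ne_one] at h
  obtain ⟨a, ha⟩ := h
  exact ⟨a, a.2, fun h1 => ha (Subtype.ext h1)⟩

theorem rankOne_ne_bot_left (h : IsRankOnePair A B) : A ≠ ⊥ := by
  intro hA
  have hB : B ≠ ⊥ := fun hB => h.ne (hA.trans hB.symm)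
  obtain ⟨b, hb, hb1⟩ := exists_ne_one_of_ne_bot hB
  obtain ⟨a, ha, ha1, _⟩ := h.cond_right b hb hb1
  rw [hA, Subgroup.mem_bot] at ha
  exact ha1 ha

theorem rankOne_ne_bot_right (h : IsRankOnePair A B) : B ≠ ⊥ :=
  rankOne_ne_bot_left (RankOnePair_symm h)

theorem rankOne_eq_one_of_mem_normalizer (h : IsRankOnePair A B) {a : G} (ha : a ∈ A)
    (hn : a ∈ Subgroup.normalizer (B : Set G)) : a = 1 := by
  by_contra ha1
  obtain ⟨b, hb, hb1, hab⟩ := h.cond_left a ha ha1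
  have h1 : conjBy B a⁻¹ = B := conjBy_eq_self_iff.mpr (inv_mem hn)
  rw [h1, conjBy_eq_iff, inv_inv, conjBy_of_mem hb] at hab
  exact h.ne hab

theorem rankOne_eq_one_of_conjBy_eq (h : IsRankOnePair A B) {a : G} (ha : a ∈ A)
    (hn : conjBy B a = B) : a = 1 :=
  rankOne_eq_one_of_mem_normalizer h ha (conjBy_eq_self_iff.mp hn)

theorem rankOne_exists_conj_left (h : IsRankOnePair A B) {a : G} (ha : a ∈ A) (ha1 : a ≠ 1) :
    ∃ b ∈ B, b ≠ 1 ∧ conjBy B a = conjBy A b := by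
  obtain ⟨b, hb, hb1, hab⟩ := h.cond_left a⁻¹ (inv_mem ha) (inv_ne_one.mpr ha1)
  rw [inv_inv] at hab
  exact ⟨b⁻¹, inv_mem hb, inv_ne_one.mpr hb1, hab.symm⟩

theorem rankOne_exists_conj_right (h : IsRankOnePair A B) {b : G} (hb : b ∈ B) (hb1 : b ≠ 1) :
    ∃ a ∈ A, a ≠ 1 ∧ conjBy A b = conjBy B a :=
  rankOne_exists_conj_left (RankOnePair_symm h) hb hb1

theorem rankOne_exists_conj_eq (h : IsRankOnePair A B) : ∃ x ∈ A ⊔ B, B = conjBy A x := by
  obtain ⟨a, ha, ha1⟩ := exists_ne_one_of_ne_bot (rankOne_ne_bot_left h)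
  obtain ⟨b, hb, hb1, hab⟩ := rankOne_exists_conj_left h ha ha1
  refine ⟨a⁻¹ * b, mul_mem (inv_mem (Subgroup.mem_sup_left ha)) (Subgroup.mem_sup_right hb), ?_⟩
  rw [← conjBy_conjBy, ← hab, conjBy_conjBy]
  simp [conjBy_one]

theorem rankOne_delta_conj_left {C : Subgroup G}
    (hC : C = A ∨ ∃ a ∈ A, C = conjBy B a) {a : G} (ha : a ∈ A) :
    conjBy C a = A ∨ ∃ a' ∈ A, conjBy C a = conjBy B a' := by
  rcases hC with rfl | ⟨a₁, ha₁, rfl⟩
  · left; exact conjBy_of_mem ha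
  · right; exact ⟨a * a₁, mul_mem ha ha₁, conjBy_conjBy _ _ _⟩

theorem rankOne_delta_conj_right (h : IsRankOnePair A B) {C : Subgroup G}
    (hC : C = A ∨ ∃ a ∈ A, C = conjBy B a) {b : G} (hb : b ∈ B) :
    conjBy C b = A ∨ ∃ a' ∈ A, conjBy C b = conjBy B a' := by
  have key : ∀ b ∈ B, conjBy A b = A ∨ ∃ a' ∈ A, conjBy A b = conjBy B a' := by
    intro b hb
    by_cases hb1 : b = 1
    · left; rw [hb1, conjBy_one]
    · obtain ⟨a', ha', _, h'⟩ := rankOne_exists_conj_right h hb hb1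
      exact Or.inr ⟨a', ha', h'⟩
  rcases hC with rfl | ⟨a₁, ha₁, rfl⟩
  · exact key b hb
  · by_cases ha1 : a₁ = 1
    · right
      refine ⟨1, one_mem _, ?_⟩
      rw [ha1, conjBy_one, conjBy_of_mem hb]
    · obtain ⟨b', hb', _, h'⟩ := rankOne_exists_conj_left h ha₁ ha1
      rw [h', conjBy_conjBy]
      exact key _ (mul_mem hb hb')

theorem rankOne_mem_unipotent_iff (h : IsRankOnePair A B) {C : Subgroup G} :
    C ∈ unipotentSubgroups A B ↔ (C = A ∨ ∃ a ∈ A, C = conjBy B a) := by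
  constructor
  · rintro ⟨x, hx, rfl⟩
    have key : ∀ C : Subgroup G, (C = A ∨ ∃ a ∈ A, C = conjBy B a) →
        (conjBy C x = A ∨ ∃ a ∈ A, conjBy C x = conjBy B a) := by
      refine sup_induction' (p := fun x => ∀ C : Subgroup G, (C = A ∨ ∃ a ∈ A, C = conjBy B a) →
        (conjBy C x = A ∨ ∃ a ∈ A, conjBy C x = conjBy B a)) ?_ ?_ ?_ hx
      · intro a ha C hC
        exact rankOne_delta_conj_left hC ha
      · intro b hb C hC
        exact rankOne_delta_conj_right h hC hb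
      · intro x y hx hy C hC
        rw [← conjBy_conjBy]
        exact hx _ (hy C hC)
    exact key A (Or.inl rfl)
  · rintro (rfl | ⟨a, ha, rfl⟩)
    · exact ⟨1, one_mem _, (conjBy_one _).symm⟩
    · obtain ⟨x, hx, hB⟩ := rankOne_exists_conj_eq h
      refine ⟨a * x, mul_mem (Subgroup.mem_sup_left ha) hx, ?_⟩
      rw [← conjBy_conjBy, ← hB]

theorem rankOne_left_mem_unipotent (A B : Subgroup G) : A ∈ unipotentSubgroups A B :=
  ⟨1, one_mem _, (conjBy_one _).symm⟩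

theorem rankOne_right_mem_unipotent (h : IsRankOnePair A B) : B ∈ unipotentSubgroups A B :=
  (rankOne_mem_unipotent_iff h).mpr (Or.inr ⟨1, one_mem _, (conjBy_one _).symm⟩)

theorem rankOne_conj_mem_unipotent {C : Subgroup G} (hC : C ∈ unipotentSubgroups A B) {x : G}
    (hx : x ∈ A ⊔ B) : conjBy C x ∈ unipotentSubgroups A B := by
  obtain ⟨y, hy, rfl⟩ := hC
  exact ⟨x * y, mul_mem hx hy, conjBy_conjBy _ _ _⟩

theorem rankOne_unipotent_le {C : Subgroup G} (hC : C ∈ unipotentSubgroups A B) : C ≤ A ⊔ B := by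
  obtain ⟨y, hy, rfl⟩ := hC
  exact conjBy_le_of_mem le_sup_left hy

theorem rankOne_unipotent_symm (h : IsRankOnePair A B) :
    unipotentSubgroups A B = unipotentSubgroups B A := by
  obtain ⟨x₀, hx₀, hB⟩ := rankOne_exists_conj_eq h
  ext C
  constructor
  · rintro ⟨x, hx, rfl⟩
    refine ⟨x * x₀⁻¹, ?_, ?_⟩
    · rw [sup_comm]; exact mul_mem hx (inv_mem hx₀)
    · rw [hB, conjBy_conjBy]; simp [mul_assoc]
  · rintro ⟨x, hx, rfl⟩
    refine ⟨x * x₀, ?_, ?_⟩
    · rw [sup_comm] at hx; exact mul_mem hx hx₀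
    · rw [hB, conjBy_conjBy]

theorem rankOne_conjBy_ne_left (h : IsRankOnePair A B) {a : G} (ha : a ∈ A) : conjBy B a ≠ A := by
  intro hh
  rw [conjBy_eq_iff, conjBy_of_mem (inv_mem ha)] at hh
  exact h.ne hh.symm

/-- `A` acts regularly on the unipotent subgroups other than `A`. -/
theorem rankOne_regular (h : IsRankOnePair A B) {C D : Subgroup G}
    (hC : C ∈ unipotentSubgroups A B) (hD : D ∈ unipotentSubgroups A B) (hCA : C ≠ A) (hDA : D ≠ A) :
    ∃! a : G, a ∈ A ∧ conjBy C a = D := by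
  rw [rankOne_mem_unipotent_iff h] at hC hD
  rcases hC with hC | ⟨a₁, ha₁, rfl⟩
  · exact absurd hC hCA
  rcases hD with hD | ⟨a₂, ha₂, rfl⟩
  · exact absurd hD hDA
  refine ⟨a₂ * a₁⁻¹, ⟨mul_mem ha₂ (inv_mem ha₁), ?_⟩, ?_⟩
  · rw [conjBy_conjBy]; simp [mul_assoc]
  · rintro a ⟨ha, haD⟩
    rw [conjBy_conjBy] at haD
    have h1 : conjBy B (a₂⁻¹ * (a * a₁)) = B := by
      rw [← conjBy_conjBy, haD, conjBy_conjBy]; simp [conjBy_one]
    have h2 := rankOne_eq_one_of_conjBy_eq h (mul_mem (inv_mem ha₂) (mul_mem ha ha₁)) h1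
    have : a * a₁ = a₂ := by
      have := congrArg (fun t => a₂ * t) h2
      simpa using this
    rw [← this]; simp

theorem rankOne_eq_one_of_conjBy_unipotent (h : IsRankOnePair A B) {C : Subgroup G}
    (hC : C ∈ unipotentSubgroups A B) (hCA : C ≠ A) {a : G} (ha : a ∈ A) (hn : conjBy C a = C) :
    a = 1 := by
  obtain ⟨a₀, _, huniq⟩ := rankOne_regular h hC hC hCA hCA
  rw [huniq a ⟨ha, hn⟩, huniq 1 ⟨one_mem _, conjBy_one _⟩]

/-- double transitivity, normalised form -/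
theorem rankOne_two_trans_aux (h : IsRankOnePair A B) {C₁ C₂ : Subgroup G}
    (h₁ : C₁ ∈ unipotentSubgroups A B) (h₂ : C₂ ∈ unipotentSubgroups A B) (hne : C₁ ≠ C₂) :
    ∃ x ∈ A ⊔ B, conjBy C₁ x = A ∧ conjBy C₂ x = B := by
  obtain ⟨y, hy, rfl⟩ := h₁
  have h₂' : conjBy C₂ y⁻¹ ∈ unipotentSubgroups A B := rankOne_conj_mem_unipotent h₂ (inv_mem hy)
  have hne' : conjBy C₂ y⁻¹ ≠ A := by
    intro hh
    rw [conjBy_eq_iff, inv_inv] at hh
    exact hne hh.symm
  obtain ⟨a, ⟨ha, haB⟩, _⟩ := rankOne_regular h h₂' (rankOne_right_mem_unipotent h) hne' h.ne.symm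
  refine ⟨a * y⁻¹, mul_mem (Subgroup.mem_sup_left ha) (inv_mem hy), ?_, ?_⟩
  · rw [conjBy_conjBy]
    have : a * y⁻¹ * y = a := by group
    rw [this, conjBy_of_mem ha]
  · rw [← conjBy_conjBy]; exact haB

theorem rankOne_two_trans (h : IsRankOnePair A B) {C₁ C₂ D₁ D₂ : Subgroup G}
    (h₁ : C₁ ∈ unipotentSubgroups A B) (h₂ : C₂ ∈ unipotentSubgroups A B)
    (h₃ : D₁ ∈ unipotentSubgroups A B) (h₄ : D₂ ∈ unipotentSubgroups A B)
    (hne : C₁ ≠ C₂) (hne' : D₁ ≠ D₂) :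
    ∃ x ∈ A ⊔ B, conjBy C₁ x = D₁ ∧ conjBy C₂ x = D₂ := by
  obtain ⟨x, hx, hx1, hx2⟩ := rankOne_two_trans_aux h h₁ h₂ hne
  obtain ⟨y, hy, hy1, hy2⟩ := rankOne_two_trans_aux h h₃ h₄ hne'
  refine ⟨y⁻¹ * x, mul_mem (inv_mem hy) hx, ?_, ?_⟩
  · rw [← conjBy_conjBy, hx1, ← hy1, conjBy_conjBy]; simp [conjBy_one]
  · rw [← conjBy_conjBy, hx2, ← hy2, conjBy_conjBy]; simp [conjBy_one]

end RankOne

end Cfsg.Agent.Helper25
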