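import Mathlib
import Cfsg.Prelude.Def_RootSubgroups
import Cfsg.Agent.Helper25.RankOne

set_option autoImplicit false

namespace Cfsg.Agent.Helper25

open Cfsg Matrix

variable {k : Type*} [Field k]

/-- The lower unitriangular matrices as an explicit subgroup. -/
def lowerSub (k : Type*) [Field k] : Subgroup (Matrix.SpecialLinearGroup (Fin 2) k) where
  carrier := {g | (g : Matrix (Fin 2) (Fin 2) k) 0 1 = 0 ∧ (g : Matrix (Fin 2) (Fin 2) k) 0 0 = 1 ∧
    (g : Matrix (Fin 2) (Fin 2) k) 1 1 = 1}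
  mul_mem' := by
    rintro g h ⟨g1, g2, g3⟩ ⟨h1, h2, h3⟩
    simp only [Set.mem_ofPred_eq, Matrix.SpecialLinearGroup.coe_mul, Matrix.mul_apply,
      Fin.sum_univ_two, g1, g2, g3, h1, h2, h3]
    simp
  one_mem' := by simp
  inv_mem' := by
    rintro g ⟨g1, g2, g3⟩
    simp only [Set.mem_ofPred_eq, Matrix.SpecialLinearGroup.coe_inv, Matrix.adjugate_fin_two,
      g1, g2, g3]
    simp

/-- The upper unitriangular matrices as an explicit subgroup. -/
def upperSub (k : Type*) [Field k] : Subgroup (Matrix.SpecialLinearGroup (Fin 2) k) where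
  carrier := {g | (g : Matrix (Fin 2) (Fin 2) k) 1 0 = 0 ∧ (g : Matrix (Fin 2) (Fin 2) k) 0 0 = 1 ∧
    (g : Matrix (Fin 2) (Fin 2) k) 1 1 = 1}
  mul_mem' := by
    rintro g h ⟨g1, g2, g3⟩ ⟨h1, h2, h3⟩
    simp only [Set.mem_ofPred_eq, Matrix.SpecialLinearGroup.coe_mul, Matrix.mul_apply,
      Fin.sum_univ_two, g1, g2, g3, h1, h2, h3]
    simp
  one_mem' := by simp
  inv_mem' := by
    rintro g ⟨g1, g2, g3⟩
    simp only [Set.mem_ofPred_eq, Matrix.SpecialLinearGroup.coe_inv, Matrix.adjugate_fin_two,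
      g1, g2, g3]
    simp

theorem lowerUnipotent_eq (k : Type*) [Field k] : lowerUnipotentSL2 k = lowerSub k :=
  Subgroup.closure_eq (lowerSub k)

theorem upperUnipotent_eq (k : Type*) [Field k] : upperUnipotentSL2 k = upperSub k :=
  Subgroup.closure_eq (upperSub k)

theorem mem_lower {g : Matrix.SpecialLinearGroup (Fin 2) k} :
    g ∈ lowerUnipotentSL2 k ↔ (g : Matrix (Fin 2) (Fin 2) k) 0 1 = 0 ∧
      (g : Matrix (Fin 2) (Fin 2) k) 0 0 = 1 ∧ (g : Matrix (Fin 2) (Fin 2) k) 1 1 = 1 := by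
  rw [lowerUnipotent_eq]; rfl

theorem mem_upper {g : Matrix.SpecialLinearGroup (Fin 2) k} :
    g ∈ upperUnipotentSL2 k ↔ (g : Matrix (Fin 2) (Fin 2) k) 1 0 = 0 ∧
      (g : Matrix (Fin 2) (Fin 2) k) 0 0 = 1 ∧ (g : Matrix (Fin 2) (Fin 2) k) 1 1 = 1 := by
  rw [upperUnipotent_eq]; rfl

/-- lower unitriangular element -/
def lowerElt (t : k) : Matrix.SpecialLinearGroup (Fin 2) k :=
  ⟨!![1, 0; t, 1], by simp [Matrix.det_fin_two]⟩

/-- upper unitriangular element -/
def upperElt (s : k) : Matrix.SpecialLinearGroup (Fin 2) k :=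
  ⟨!![1, s; 0, 1], by simp [Matrix.det_fin_two]⟩

theorem lowerElt_mem (t : k) : lowerElt t ∈ lowerUnipotentSL2 k := by
  rw [mem_lower]; simp [lowerElt]

theorem upperElt_mem (s : k) : upperElt s ∈ upperUnipotentSL2 k := by
  rw [mem_upper]; simp [upperElt]

theorem sl2_ext {g h : Matrix.SpecialLinearGroup (Fin 2) k}
    (h00 : (g : Matrix (Fin 2) (Fin 2) k) 0 0 = (h : Matrix (Fin 2) (Fin 2) k) 0 0)
    (h01 : (g : Matrix (Fin 2) (Fin 2) k) 0 1 = (h : Matrix (Fin 2) (Fin 2) k) 0 1)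
    (h10 : (g : Matrix (Fin 2) (Fin 2) k) 1 0 = (h : Matrix (Fin 2) (Fin 2) k) 1 0)
    (h11 : (g : Matrix (Fin 2) (Fin 2) k) 1 1 = (h : Matrix (Fin 2) (Fin 2) k) 1 1) : g = h := by
  apply Subtype.ext
  ext i j
  fin_cases i <;> fin_cases j <;> assumption

theorem sl2_det (g : Matrix.SpecialLinearGroup (Fin 2) k) :
    (g : Matrix (Fin 2) (Fin 2) k) 0 0 * (g : Matrix (Fin 2) (Fin 2) k) 1 1 -
      (g : Matrix (Fin 2) (Fin 2) k) 0 1 * (g : Matrix (Fin 2) (Fin 2) k) 1 0 = 1 := by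
  have := g.2
  rwa [Matrix.det_fin_two] at this

theorem eq_lowerElt {g : Matrix.SpecialLinearGroup (Fin 2) k} (hg : g ∈ lowerUnipotentSL2 k) :
    g = lowerElt ((g : Matrix (Fin 2) (Fin 2) k) 1 0) := by
  rw [mem_lower] at hg
  apply sl2_ext <;> simp [lowerElt, hg.1, hg.2.1, hg.2.2]

theorem eq_upperElt {g : Matrix.SpecialLinearGroup (Fin 2) k} (hg : g ∈ upperUnipotentSL2 k) :
    g = upperElt ((g : Matrix (Fin 2) (Fin 2) k) 0 1) := by
  rw [mem_upper] at hg
  apply sl2_ext <;> simp [upperElt, hg.1, hg.2.1, hg.2.2]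

theorem lowerElt_eq_one_iff {t : k} : lowerElt t = 1 ↔ t = 0 := by
  constructor
  · intro h
    have := congrArg (fun g : Matrix.SpecialLinearGroup (Fin 2) k =>
      (g : Matrix (Fin 2) (Fin 2) k) 1 0) h
    simpa [lowerElt] using this
  · rintro rfl
    apply sl2_ext <;> simp [lowerElt]

theorem upperElt_eq_one_iff {s : k} : upperElt s = 1 ↔ s = 0 := by
  constructor
  · intro h
    have := congrArg (fun g : Matrix.SpecialLinearGroup (Fin 2) k =>
      (g : Matrix (Fin 2) (Fin 2) k) 0 1) h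
    simpa [upperElt] using this
  · rintro rfl
    apply sl2_ext <;> simp [upperElt]

@[simp] theorem upperElt_coe (s : k) :
    (upperElt s : Matrix (Fin 2) (Fin 2) k) = !![1, s; 0, 1] := rfl

@[simp] theorem lowerElt_coe (t : k) :
    (lowerElt t : Matrix (Fin 2) (Fin 2) k) = !![1, 0; t, 1] := rfl

theorem upperElt_inv (s : k) : (upperElt s)⁻¹ = upperElt (-s) := by
  apply sl2_ext <;> simp [Matrix.SpecialLinearGroup.coe_inv, Matrix.adjugate_fin_two]

theorem lowerElt_inv (t : k) : (lowerElt t)⁻¹ = lowerElt (-t) := by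
  apply sl2_ext <;> simp [Matrix.SpecialLinearGroup.coe_inv, Matrix.adjugate_fin_two]

/-- conjugation of the lower group by `upperElt (-s)` equals conjugation of the upper group by
`lowerElt (-t)` when `s * t = 1`. -/
theorem sl2_conj_eq {s t : k} (hst : s * t = 1) :
    conjBy (lowerUnipotentSL2 k) (upperElt s)⁻¹ = conjBy (upperUnipotentSL2 k) (lowerElt t)⁻¹ := by
  ext x
  rw [mem_conjBy, mem_conjBy, inv_inv, inv_inv, mem_lower, mem_upper, upperElt_inv, lowerElt_inv]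
  have hd := sl2_det x
  simp only [Matrix.SpecialLinearGroup.coe_mul, Matrix.mul_apply, Fin.sum_univ_two, upperElt_coe,
    lowerElt_coe, Matrix.of_apply, Matrix.cons_val', Matrix.cons_val_zero, Matrix.cons_val_one,
    Matrix.cons_val_fin_one]
  constructor
  · rintro ⟨h1, h2, h3⟩
    refine ⟨?_, ?_, ?_⟩
    · linear_combination (-t ^ 2) * h1 -
        ((x : Matrix (Fin 2) (Fin 2) k) 1 0 + t * ((x : Matrix (Fin 2) (Fin 2) k) 0 0 +
          s * (x : Matrix (Fin 2) (Fin 2) k) 1 0 - (x : Matrix (Fin 2) (Fin 2) k) 1 1)) * hst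
    · linear_combination h3 - t * h1 -
        ((x : Matrix (Fin 2) (Fin 2) k) 0 0 +
          s * (x : Matrix (Fin 2) (Fin 2) k) 1 0 - (x : Matrix (Fin 2) (Fin 2) k) 1 1) * hst
    · linear_combination t * h1 + h2 +
        ((x : Matrix (Fin 2) (Fin 2) k) 0 0 +
          s * (x : Matrix (Fin 2) (Fin 2) k) 1 0 - (x : Matrix (Fin 2) (Fin 2) k) 1 1) * hst
  · rintro ⟨g1, g2, g3⟩
    refine ⟨?_, ?_, ?_⟩
    · linear_combination (-s ^ 2) * g1 -
        ((x : Matrix (Fin 2) (Fin 2) k) 0 1 - s * ((x : Matrix (Fin 2) (Fin 2) k) 0 0 -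
          t * (x : Matrix (Fin 2) (Fin 2) k) 0 1 - (x : Matrix (Fin 2) (Fin 2) k) 1 1)) * hst
    · linear_combination s * g1 + g3 -
        ((x : Matrix (Fin 2) (Fin 2) k) 0 0 -
          t * (x : Matrix (Fin 2) (Fin 2) k) 0 1 - (x : Matrix (Fin 2) (Fin 2) k) 1 1) * hst
    · linear_combination (-s) * g1 + g2 +
        ((x : Matrix (Fin 2) (Fin 2) k) 0 0 -
          t * (x : Matrix (Fin 2) (Fin 2) k) 0 1 - (x : Matrix (Fin 2) (Fin 2) k) 1 1) * hst

theorem sl2_special {s t : k} (hst : s * t = 1) :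
    (upperElt s)⁻¹ * lowerElt t * upperElt s = (lowerElt t)⁻¹ * (upperElt s)⁻¹ * lowerElt t := by
  rw [upperElt_inv, lowerElt_inv]
  apply sl2_ext <;>
  simp only [Matrix.SpecialLinearGroup.coe_mul, Matrix.mul_apply, Fin.sum_univ_two, upperElt_coe,
    lowerElt_coe, Matrix.of_apply, Matrix.cons_val', Matrix.cons_val_zero, Matrix.cons_val_one,
    Matrix.cons_val_fin_one]
  · ring
  · linear_combination (-s) * hst
  · linear_combination (-t) * hst
  · ring

theorem sl2_gen (k : Type*) [Field k] : lowerUnipotentSL2 k ⊔ upperUnipotentSL2 k = ⊤ := by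
  have key : ∀ g : Matrix.SpecialLinearGroup (Fin 2) k, (g : Matrix (Fin 2) (Fin 2) k) 1 0 ≠ 0 →
      g ∈ lowerUnipotentSL2 k ⊔ upperUnipotentSL2 k := by
    intro g hc
    have hd := sl2_det g
    have hg : g = upperElt (((g : Matrix (Fin 2) (Fin 2) k) 0 0 - 1) /
        (g : Matrix (Fin 2) (Fin 2) k) 1 0) * lowerElt ((g : Matrix (Fin 2) (Fin 2) k) 1 0) *
        upperElt (((g : Matrix (Fin 2) (Fin 2) k) 1 1 - 1) /
        (g : Matrix (Fin 2) (Fin 2) k) 1 0) := by
      apply sl2_ext <;>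
      simp only [Matrix.SpecialLinearGroup.coe_mul, Matrix.mul_apply, Fin.sum_univ_two,
        upperElt_coe, lowerElt_coe, Matrix.of_apply, Matrix.cons_val', Matrix.cons_val_zero,
        Matrix.cons_val_one, Matrix.cons_val_fin_one]
      · field_simp
        ring
      · field_simp
        linear_combination (-1 : k) * hd
      · ring
      · field_simp
        ring
    rw [hg]
    exact mul_mem (mul_mem (Subgroup.mem_sup_right (upperElt_mem _))
      (Subgroup.mem_sup_left (lowerElt_mem _))) (Subgroup.mem_sup_right (upperElt_mem _))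
  rw [eq_top_iff]
  intro g _
  by_cases hc : (g : Matrix (Fin 2) (Fin 2) k) 1 0 = 0
  · have hd := sl2_det g
    rw [hc, mul_zero, sub_zero] at hd
    have ha : (g : Matrix (Fin 2) (Fin 2) k) 0 0 ≠ 0 := by
      intro h0
      rw [h0, zero_mul] at hd
      exact zero_ne_one hd
    have h1 : lowerElt 1 * g ∈ lowerUnipotentSL2 k ⊔ upperUnipotentSL2 k := by
      apply key
      simp only [Matrix.SpecialLinearGroup.coe_mul, Matrix.mul_apply, Fin.sum_univ_two,
        lowerElt_coe, Matrix.of_apply, Matrix.cons_val', Matrix.cons_val_zero,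
        Matrix.cons_val_one, Matrix.cons_val_fin_one]
      rw [hc]
      simpa using ha
    have h2 : g = (lowerElt 1)⁻¹ * (lowerElt 1 * g) := by group
    rw [h2]
    exact mul_mem (inv_mem (Subgroup.mem_sup_left (lowerElt_mem _))) h1
  · exact key g hc

theorem sl2_lower_comm (k : Type*) [Field k] : IsMulCommutative (lowerUnipotentSL2 k) := by
  rw [isMulCommutative_iff]
  rintro ⟨a, ha⟩ ⟨b, hb⟩
  apply Subtype.ext
  rw [mem_lower] at ha hb
  show a * b = b * a
  apply sl2_ext <;>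
  simp only [Matrix.SpecialLinearGroup.coe_mul, Matrix.mul_apply, Fin.sum_univ_two, ha.1, ha.2.1,
    ha.2.2, hb.1, hb.2.1, hb.2.2] <;> ring

theorem sl2_upper_comm (k : Type*) [Field k] : IsMulCommutative (upperUnipotentSL2 k) := by
  rw [isMulCommutative_iff]
  rintro ⟨a, ha⟩ ⟨b, hb⟩
  apply Subtype.ext
  rw [mem_upper] at ha hb
  show a * b = b * a
  apply sl2_ext <;>
  simp only [Matrix.SpecialLinearGroup.coe_mul, Matrix.mul_apply, Fin.sum_univ_two, ha.1, ha.2.1,
    ha.2.2, hb.1, hb.2.1, hb.2.2] <;> ring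

theorem sl2_rankOnePair (k : Type*) [Field k] :
    IsRankOnePair (lowerUnipotentSL2 k) (upperUnipotentSL2 k) := by
  refine ⟨?_, ?_, ?_, ?_, ?_⟩
  · intro h
    have h1 : lowerElt (1 : k) ∈ upperUnipotentSL2 k := h ▸ lowerElt_mem 1
    rw [mem_upper] at h1
    simp at h1
  · have := sl2_lower_comm k
    exact ⟨⟨1, Subgroup.upperCentralSeries_one_eq_top_iff.mpr inferInstance⟩⟩
  · have := sl2_upper_comm k
    exact ⟨⟨1, Subgroup.upperCentralSeries_one_eq_top_iff.mpr inferInstance⟩⟩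
  · intro a ha ha1
    rw [eq_lowerElt ha] at ha1 ⊢
    have ht : (a : Matrix (Fin 2) (Fin 2) k) 1 0 ≠ 0 := fun h0 => ha1 (lowerElt_eq_one_iff.mpr h0)
    refine ⟨upperElt ((a : Matrix (Fin 2) (Fin 2) k) 1 0)⁻¹, upperElt_mem _, ?_, ?_⟩
    · rw [Ne, upperElt_eq_one_iff]
      exact inv_ne_zero ht
    · exact sl2_conj_eq (inv_mul_cancel₀ ht)
  · intro b hb hb1
    rw [eq_upperElt hb] at hb1 ⊢
    have hs : (b : Matrix (Fin 2) (Fin 2) k) 0 1 ≠ 0 := fun h0 => hb1 (upperElt_eq_one_iff.mpr h0)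
    refine ⟨lowerElt ((b : Matrix (Fin 2) (Fin 2) k) 0 1)⁻¹, lowerElt_mem _, ?_, ?_⟩
    · rw [Ne, lowerElt_eq_one_iff]
      exact inv_ne_zero hs
    · exact (sl2_conj_eq (mul_inv_cancel₀ hs)).symm

theorem sl2_specialPair (k : Type*) [Field k] :
    IsSpecialRankOnePair (lowerUnipotentSL2 k) (upperUnipotentSL2 k) := by
  refine ⟨sl2_rankOnePair k, ?_⟩
  intro a ha ha1 b hb hb1 hab
  have hp := sl2_rankOnePair k
  rw [eq_lowerElt ha] at ha1 hab ⊢
  have ht : (a : Matrix (Fin 2) (Fin 2) k) 1 0 ≠ 0 := fun h0 => ha1 (lowerElt_eq_one_iff.mpr h0)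
  have hab₀ := sl2_conj_eq (inv_mul_cancel₀ ht)
  have h1 : conjBy (lowerUnipotentSL2 k)
      (b * (upperElt ((a : Matrix (Fin 2) (Fin 2) k) 1 0)⁻¹)⁻¹) = lowerUnipotentSL2 k := by
    rw [← conjBy_conjBy, hab₀, ← hab, conjBy_conjBy]
    simp [conjBy_one]
  have h2 := rankOne_eq_one_of_conjBy_eq (RankOnePair_symm hp)
    (mul_mem hb (inv_mem (upperElt_mem _))) h1
  have h3 : b = upperElt ((a : Matrix (Fin 2) (Fin 2) k) 1 0)⁻¹ := mul_inv_eq_one.mp h2
  rw [h3]
  exact sl2_special (inv_mul_cancel₀ ht)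

end Cfsg.Agent.Helper25
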