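import Cfsg.Agent.Helper25.BlockCover
import Cfsg.Agent.Helper25.BlockPPrime
import Cfsg.Agent.Helper6.Inflate
import Cfsg.Prelude.Def_BrauerPairs

set_option autoImplicit false

/-!
# Blocks and group automorphisms (helper25)
-/

namespace Cfsg.Agent.Helper25

open Cfsg

theorem centralChar_comp_mulEquiv {K K' : Type*} [Group K] [Group K'] (φ : K ≃* K')
    (χ : K' → ℂ) (k : K) : centralChar (χ ∘ φ) k = centralChar χ (φ k) := by
  unfold centralChar
  rw [Function.comp_apply, Function.comp_apply, map_one, index_centralizer_mulEquiv φ k]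

theorem sameBlock_comp_mulEquiv {M : Ideal AlgInt} {K K' : Type*} [Group K] [Group K']
    (φ : K ≃* K') {χ ψ : K' → ℂ} (h : SameBlock M χ ψ) : SameBlock M (χ ∘ φ) (ψ ∘ φ) := by
  intro k
  rw [centralChar_comp_mulEquiv, centralChar_comp_mulEquiv]
  exact h (φ k)

/-- Transport of an irreducible character along an automorphism. -/
noncomputable def autIrr {K : Type*} [Group K] [Finite K] (φ : K ≃* K) (χ : IrrCharacter K) :
    IrrCharacter K :=
  ⟨(χ : K → ℂ) ∘ φ, by
    classical
    have : Fintype K := Fintype.ofFinite K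
    exact Helper6.isIrrCharacter_comp_surjective φ.toMonoidHom φ.surjective χ.2⟩

theorem autIrr_apply {K : Type*} [Group K] [Finite K] (φ : K ≃* K) (χ : IrrCharacter K) (k : K) :
    (autIrr φ χ : K → ℂ) k = (χ : K → ℂ) (φ k) := rfl

theorem autIrr_mem_principal {M : Ideal AlgInt} {K : Type*} [Group K] [Finite K] (φ : K ≃* K)
    (χ : IrrCharacter K) (h : χ ∈ principalBlock M K) : autIrr φ χ ∈ principalBlock M K := by
  have h1 : SameBlock M (fun _ : K => (1 : ℂ)) (χ : K → ℂ) := h
  exact sameBlock_comp_mulEquiv φ h1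

/-- Conjugation by an element normalising `X`, as an automorphism of the centralizer of `X`. -/
def conjCentralizer {G : Type*} [Group G] (X : Subgroup G) (g : G)
    (hg : g ∈ Subgroup.normalizer (X : Set G)) :
    Subgroup.centralizer (X : Set G) ≃* Subgroup.centralizer (X : Set G) where
  toFun k := ⟨g⁻¹ * (k : G) * g, by
    rw [Subgroup.mem_centralizer_iff]
    intro x hx
    have h1 : g * x * g⁻¹ ∈ X := (Subgroup.mem_normalizer_iff.mp hg x).mp hx
    have h2 := Subgroup.mem_centralizer_iff.mp k.2 _ h1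
    calc x * (g⁻¹ * (k : G) * g) = g⁻¹ * ((g * x * g⁻¹) * (k : G)) * g := by group
      _ = g⁻¹ * ((k : G) * (g * x * g⁻¹)) * g := by rw [h2]
      _ = g⁻¹ * (k : G) * g * x := by group⟩
  invFun k := ⟨g * (k : G) * g⁻¹, by
    rw [Subgroup.mem_centralizer_iff]
    intro x hx
    have h1 : g⁻¹ * x * g⁻¹⁻¹ ∈ X :=
      (Subgroup.mem_normalizer_iff.mp (Subgroup.inv_mem _ hg) x).mp hx
    rw [inv_inv] at h1
    have h2 := Subgroup.mem_centralizer_iff.mp k.2 _ h1
    calc x * (g * (k : G) * g⁻¹) = g * ((g⁻¹ * x * g) * (k : G)) * g⁻¹ := by group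
      _ = g * ((k : G) * (g⁻¹ * x * g)) * g⁻¹ := by rw [h2]
      _ = g * (k : G) * g⁻¹ * x := by group⟩
  left_inv k := by
    apply Subtype.ext
    show g * (g⁻¹ * (k : G) * g) * g⁻¹ = k
    group
  right_inv k := by
    apply Subtype.ext
    show g⁻¹ * (g * (k : G) * g⁻¹) * g = k
    group
  map_mul' a b := by
    apply Subtype.ext
    show g⁻¹ * ((a : G) * (b : G)) * g = g⁻¹ * (a : G) * g * (g⁻¹ * (b : G) * g)
    group

theorem conjCentralizer_apply {G : Type*} [Group G] (X : Subgroup G) (g : G)
    (hg : g ∈ Subgroup.normalizer (X : Set G)) (k : Subgroup.centralizer (X : Set G)) :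
    ((conjCentralizer X g hg k : Subgroup.centralizer (X : Set G)) : G) = g⁻¹ * (k : G) * g :=
  rfl

/-- The normalizer of `X` normalizes the centralizer of `X`. -/
theorem normalizer_le_normalizer_centralizer {G : Type*} [Group G] (X : Subgroup G) (g : G)
    (hg : g ∈ Subgroup.normalizer (X : Set G)) :
    g ∈ Subgroup.normalizer ((Subgroup.centralizer (X : Set G) : Subgroup G) : Set G) := by
  rw [Subgroup.mem_normalizer_iff]
  intro k
  constructor
  · intro hk
    exact ((conjCentralizer X g hg).symm ⟨k, hk⟩).2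
  · intro hk
    have h := (conjCentralizer X g hg ⟨g * k * g⁻¹, hk⟩).2
    have e : ((conjCentralizer X g hg ⟨g * k * g⁻¹, hk⟩ : Subgroup.centralizer (X : Set G)) : G)
        = k := by
      rw [conjCentralizer_apply]
      group
    rwa [e] at h

/-- Every element of the normalizer of `X` stabilizes the principal block of the centralizer. -/
theorem stabilizesBlock_principal {M : Ideal AlgInt} {G : Type*} [Group G] [Finite G]
    (X : Subgroup G) (g : G) (hg : g ∈ Subgroup.normalizer (X : Set G)) :
    StabilizesBlock (Subgroup.centralizer (X : Set G))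
      (principalBlock M (Subgroup.centralizer (X : Set G))) g := by
  refine ⟨normalizer_le_normalizer_centralizer X g hg, fun χ hχ => ?_⟩
  refine ⟨autIrr (conjCentralizer X g hg) χ, autIrr_mem_principal _ χ hχ, ?_⟩
  intro k k' hkk'
  rw [autIrr_apply]
  have e : conjCentralizer X g hg k' = k := by
    apply Subtype.ext
    rw [conjCentralizer_apply, hkk']
    group
  rw [e]

end Cfsg.Agent.Helper25
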