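import Cfsg.Agent.Helper25.HeightZero2
import Cfsg.Agent.Helper25.BlockPPrime
import Cfsg.Agent.Helper2.CharOrtho

set_option autoImplicit false
set_option linter.unusedSectionVars false

/-!
# The `p`-part of the sum of the squares of the degrees in a block (helper25)
-/

namespace Cfsg.Agent.Helper25

open Cfsg
open scoped ComplexConjugate

theorem finsum_mem_eq_sum_ite_nat {ι : Type*} [Fintype ι] (s : Set ι) [DecidablePred (· ∈ s)]
    (f : ι → ℕ) : ∑ᶠ i ∈ s, f i = ∑ i, if i ∈ s then f i else 0 := by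
  rw [finsum_mem_eq_finite_toFinset_sum f (Set.toFinite s), ← Finset.sum_filter]
  refine Finset.sum_congr ?_ fun _ _ => rfl
  ext i
  simp

section

variable {G : Type*} [Group G] [Fintype G] {M : Ideal AlgInt} {p : ℕ}

/-- A generalized character vanishing on the `p`-singular elements has degree divisible by the
order of a Sylow `p`-subgroup. -/
theorem gen_char_one_dvd [Fact p.Prime] (θ : G → ℂ) (hθ : IsGeneralizedCharacter G θ)
    (hv : ∀ g : G, p ∣ orderOf g → θ g = 0) :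
    ∃ n : ℤ, θ 1 = ((p ^ (Nat.card G).factorization p : ℕ) : ℂ) * (n : ℂ) := by
  classical
  obtain ⟨P⟩ := (inferInstance : Nonempty (Sylow p G))
  let _ : Fintype (P : Subgroup G) := Fintype.ofFinite _
  have hres : IsGeneralizedCharacter (P : Subgroup G) (fun u : (P : Subgroup G) => θ u) := by
    obtain ⟨χ₁, χ₂, h1, h2, rfl⟩ := hθ
    exact ⟨fun c : (P : Subgroup G) => χ₁ c, fun c : (P : Subgroup G) => χ₂ c,
      Helper24.isCharacter_restrict _ h1, Helper24.isCharacter_restrict _ h2, rfl⟩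
  obtain ⟨n, hn⟩ := Cfsg.Agent.Helper10.gen_inner_int hres
    (Cfsg.Agent.Helper10.isGeneralizedCharacter_of_irr (oneIrr ↥(P : Subgroup G)).2)
  refine ⟨n, ?_⟩
  have hcard : Nat.card (P : Subgroup G) = p ^ (Nat.card G).factorization p :=
    Sylow.card_eq_multiplicity P
  have h2 : classInner (fun u : (P : Subgroup G) => θ u)
      (oneIrr ↥(P : Subgroup G) : ↥(P : Subgroup G) → ℂ)
      = (Nat.card (P : Subgroup G) : ℂ)⁻¹ * θ 1 := by
    unfold classInner
    congr 1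
    rw [Finset.sum_eq_single (1 : (P : Subgroup G))]
    · show θ ((1 : ↥(P : Subgroup G)) : G) * _ = θ 1
      rw [oneIrr_apply, map_one, mul_one]
      rfl
    · intro u _ hu
      obtain ⟨j, hj⟩ := (IsPGroup.iff_orderOf.mp P.isPGroup') u
      have hj0 : j ≠ 0 := by
        intro h
        rw [h, pow_zero, orderOf_eq_one_iff] at hj
        exact hu hj
      have ho : orderOf ((u : G)) = p ^ j := by
        rw [Subgroup.orderOf_coe, hj]
      show θ (u : G) * _ = 0
      rw [hv (u : G) (by rw [ho]; exact dvd_pow_self p hj0), zero_mul]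
    · intro h
      exact absurd (Finset.mem_univ _) h
  rw [h2, hcard] at hn
  have hp0 : ((p ^ (Nat.card G).factorization p : ℕ) : ℂ) ≠ 0 :=
    Nat.cast_ne_zero.mpr (pow_ne_zero _ (Fact.out : p.Prime).ne_zero)
  rw [← hn]
  field_simp

/-- The exact power of `p` dividing the sum of the squares of the degrees in a block. -/
theorem block_sum_sq_val [Fact p.Prime] (hpM : IsPModular p M) {B : Set (IrrCharacter G)}
    (hB : IsPBlock M B) [Fintype (IrrCharacter G)] [DecidablePred (· ∈ B)] :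
    (∑ ψ : IrrCharacter G, if ψ ∈ B then charDegree (ψ : G → ℂ) ^ 2 else 0).factorization p
      = 2 * (Nat.card G).factorization p - blockDefect p B := by
  have hM := hpM.2.1.isPrime
  have hp := hpM.1
  have hp0 : (p : ℂ) ≠ 0 := by exact_mod_cast hp.ne_zero
  obtain ⟨χ₁, hχ₁⟩ : ∃ χ₁ : IrrCharacter G, χ₁ ∈ B := by
    obtain ⟨χ₁, hBeq⟩ := id hB
    exact ⟨χ₁, by rw [hBeq]; exact mem_blockOf_self hM.ne_top χ₁⟩
  obtain ⟨χ, hχ, h0⟩ := exists_height_zero p (B := B) ⟨χ₁, hχ₁⟩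
  obtain ⟨a, ha⟩ : ∃ a, a = (Nat.card G).factorization p := ⟨_, rfl⟩
  obtain ⟨D, hD⟩ : ∃ D, D = charDegree (χ : G → ℂ) := ⟨_, rfl⟩
  obtain ⟨e, he⟩ : ∃ e, e = D.factorization p := ⟨_, rfl⟩
  have hD0 : D ≠ 0 := by
    rw [hD]
    exact charDegree_irr_ne_zero χ
  have hes : sInf ((fun χ : IrrCharacter G => (charDegree (χ : G → ℂ)).factorization p) '' B)
      = e := by
    rw [he, hD]
    refine le_antisymm (Nat.sInf_le ⟨χ, hχ, rfl⟩) ?_
    unfold blockHeight at h0
    exact Nat.sub_eq_zero_iff_le.1 h0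
  have hea : e ≤ a := by
    rw [he, ha]
    have hdvd : D ∣ Nat.card G := by
      rw [hD]
      exact Helper2.irr_degree_dvd_card χ.2
    exact (Nat.factorization_le_iff_dvd hD0 Nat.card_pos.ne').2 hdvd p
  have hgoal : 2 * (Nat.card G).factorization p - blockDefect p B = a + e := by
    unfold blockDefect
    rw [hes, ← ha]
    omega
  rw [hgoal]
  obtain ⟨n₀, hn₀, hn₀0, hn₀v⟩ := (height_zero_iff_val hpM hB χ hχ χ hχ).1 h0
  rw [← hD, ← he] at hn₀v
  obtain ⟨m, hm⟩ : ∃ m : IrrCharacter G → ℤ,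
      m = fun ψ : IrrCharacter G =>
        Cfsg.Agent.Helper10.irrCoeff (tildeFun p (χ : G → ℂ)) (ψ : G → ℂ) :=
    ⟨_, rfl⟩
  have hmψ : ∀ ψ : IrrCharacter G,
      Cfsg.Agent.Helper10.irrCoeff (tildeFun p (χ : G → ℂ)) (ψ : G → ℂ) = m ψ := by
    intro ψ
    rw [hm]
  have hmχ : m χ = n₀ := by
    have h1 := tildeFun_inner (p := p) χ χ
    rw [hn₀, hmψ] at h1
    exact_mod_cast h1.symm
  obtain ⟨c, hc⟩ : ∃ c : IrrCharacter G → ℤ, c = fun ψ => (D : ℤ) * m ψ
      - (if ψ ∈ B then n₀ * (charDegree (ψ : G → ℂ) : ℤ) else 0) := ⟨_, rfl⟩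
  have hcψ : ∀ ψ : IrrCharacter G, c ψ = (D : ℤ) * m ψ
      - (if ψ ∈ B then n₀ * (charDegree (ψ : G → ℂ) : ℤ) else 0) := by
    intro ψ
    rw [hc]
  have hdiv : ∀ ψ : IrrCharacter G, (p : ℤ) ^ (2 * e + 1) ∣ c ψ := by
    intro ψ
    by_cases hψ : ψ ∈ B
    · by_cases hc0 : c ψ = 0
      · rw [hc0]
        exact dvd_zero _
      · have hsub := tildeRatio_sub_mem hpM χ (sameBlock_of_mem_block hM hB hψ hχ)
        rw [tildeRatio_eq, tildeRatio_eq, hmψ, hmψ, hmχ, ← hD] at hsub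
        have hd0 : (charDegree (ψ : G → ℂ) : ℂ) ≠ 0 :=
          Nat.cast_ne_zero.mpr (charDegree_irr_ne_zero ψ)
        have hD0' : (D : ℂ) ≠ 0 := Nat.cast_ne_zero.mpr hD0
        have hJ : MemLocalIdeal M (((c ψ : ℤ) : ℂ)
            / ((D * charDegree (ψ : G → ℂ) : ℕ) : ℂ)) := by
          have e1 : ((c ψ : ℤ) : ℂ) / ((D * charDegree (ψ : G → ℂ) : ℕ) : ℂ)
              = (m ψ : ℂ) / (charDegree (ψ : G → ℂ) : ℂ) - (n₀ : ℂ) / (D : ℂ) := by
            rw [hcψ ψ, if_pos hψ]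
            push_cast
            field_simp
          rw [e1]
          exact hsub
        have hDd : D * charDegree (ψ : G → ℂ) ≠ 0 :=
          mul_ne_zero hD0 (charDegree_irr_ne_zero ψ)
        have hle := int_ratio_val_le hpM _ hc0 _ hDd (MemLocalIdeal.memLocalRing hJ)
        have hne : padicValInt p (c ψ)
            ≠ (D * charDegree (ψ : G → ℂ)).factorization p := fun h =>
          ((int_ratio_val hpM _ _ hDd (MemLocalIdeal.memLocalRing hJ)).2 ⟨hc0, h⟩) hJ
        have hfac : (D * charDegree (ψ : G → ℂ)).factorization p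
            = e + (charDegree (ψ : G → ℂ)).factorization p := by
          rw [Nat.factorization_mul hD0 (charDegree_irr_ne_zero ψ), Finsupp.add_apply, he]
        have hge : e ≤ (charDegree (ψ : G → ℂ)).factorization p := by
          rw [he, hD]
          exact height_zero_le_of_mem χ ψ hψ h0
        rw [padicValInt_dvd_iff]
        right
        omega
    · have hns : ¬ SameBlock M (χ : G → ℂ) (ψ : G → ℂ) :=
        fun hs => hψ (mem_block_of_sameBlock hM hB hχ hs)
      have h1 := classInner_tildeFun_eq_zero hpM χ ψ hns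
      rw [tildeFun_inner, hmψ] at h1
      have h2 : m ψ = 0 := by exact_mod_cast h1
      rw [hcψ ψ, if_neg hψ, h2, mul_zero, sub_zero]
      exact dvd_zero _
  obtain ⟨θ, hθdef⟩ : ∃ θ : G → ℂ,
      θ = ∑ ψ : IrrCharacter G, (c ψ / (p : ℤ) ^ (2 * e + 1)) • (ψ : G → ℂ) := ⟨_, rfl⟩
  have hθ : IsGeneralizedCharacter G θ := by
    rw [hθdef]
    exact Cfsg.Agent.Helper10.IsGeneralizedCharacter.sum _ _ fun ψ _ =>
      Cfsg.Agent.Helper10.IsGeneralizedCharacter.zsmul _
        (Cfsg.Agent.Helper10.isGeneralizedCharacter_of_irr ψ.2)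
  have hL : ∀ g : G, (p : ℂ) ^ (2 * e + 1) * θ g
      = (D : ℂ) * tildeFun p (χ : G → ℂ) g - (n₀ : ℂ) * ∑ ψ : IrrCharacter G,
        if ψ ∈ B then (ψ : G → ℂ) 1 * (ψ : G → ℂ) g else 0 := by
    intro g
    have h1 := congrFun (Cfsg.Agent.Helper10.gen_expansion (tildeFun_gen (p := p) χ)) g
    rw [Finset.sum_apply] at h1
    rw [h1, hθdef, Finset.sum_apply, Finset.mul_sum, Finset.mul_sum, Finset.mul_sum,
      ← Finset.sum_sub_distrib]
    refine Finset.sum_congr rfl fun ψ _ => ?_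
    have h2 := Int.mul_ediv_cancel' (hdiv ψ)
    have h3 : ((p : ℂ) ^ (2 * e + 1)) * ((c ψ / (p : ℤ) ^ (2 * e + 1) : ℤ) : ℂ)
        = (c ψ : ℂ) := by
      exact_mod_cast h2
    simp only [Pi.smul_apply, zsmul_eq_mul, smul_eq_mul]
    rw [← mul_assoc, h3, hcψ ψ, hmψ]
    by_cases hψ : ψ ∈ B
    · rw [if_pos hψ, if_pos hψ, Helper24.charDegree_spec (Helper24.isCharacter_of_irr ψ.2)]
      push_cast
      ring
    · rw [if_neg hψ, if_neg hψ]
      push_cast
      ring
  have hvan : ∀ g : G, p ∣ orderOf g → θ g = 0 := by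
    intro g hg
    have h1 := hL g
    have h2 : tildeFun p (χ : G → ℂ) g = 0 := by
      unfold tildeFun
      rw [if_pos hg]
    have h3 : ∑ ψ : IrrCharacter G, (if ψ ∈ B then (ψ : G → ℂ) 1 * (ψ : G → ℂ) g else 0)
        = 0 := by
      have h4 := osima hpM hB g⁻¹ (by rw [orderOf_inv]; exact hg)
      unfold blockCoeff at h4
      rw [finsum_mem_eq_sum_ite] at h4
      have hG : (Nat.card G : ℂ)⁻¹ ≠ 0 :=
        inv_ne_zero (Nat.cast_ne_zero.mpr Nat.card_pos.ne')
      rcases mul_eq_zero.1 h4 with h | h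
      · exact absurd h hG
      · have h' : ∑ ψ : IrrCharacter G, (if ψ ∈ B then (ψ : G → ℂ) 1 * (ψ : G → ℂ) g else 0)
            = ∑ ψ : IrrCharacter G, (if ψ ∈ B then
              (ψ : G → ℂ) 1 * conj ((ψ : G → ℂ) g⁻¹) else 0) := by
          refine Finset.sum_congr rfl fun ψ _ => ?_
          rw [char_conj_eq_inv, inv_inv]
        rw [h', h]
    rw [h2, h3, mul_zero, mul_zero, sub_zero] at h1
    rcases mul_eq_zero.1 h1 with h | h
    · exact absurd h (pow_ne_zero _ hp0)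
    · exact h
  obtain ⟨n, hn⟩ := gen_char_one_dvd θ hθ hvan
  have h1 := hL 1
  have ht1 : tildeFun p (χ : G → ℂ) 1 = ((p ^ a : ℕ) : ℂ) * (D : ℂ) := by
    unfold tildeFun
    rw [orderOf_one, if_neg (Nat.Prime.not_dvd_one hp), ← ha, hD,
      Helper24.charDegree_spec (Helper24.isCharacter_of_irr χ.2)]
  obtain ⟨S, hS⟩ : ∃ S : ℕ, S = ∑ ψ : IrrCharacter G,
      if ψ ∈ B then charDegree (ψ : G → ℂ) ^ 2 else 0 := ⟨_, rfl⟩
  have hS1 : ∑ ψ : IrrCharacter G, (if ψ ∈ B then (ψ : G → ℂ) 1 * (ψ : G → ℂ) 1 else 0)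
      = (S : ℂ) := by
    rw [hS]
    push_cast
    refine Finset.sum_congr rfl fun ψ _ => ?_
    split_ifs
    · rw [Helper24.charDegree_spec (Helper24.isCharacter_of_irr ψ.2)]
      ring
    · rfl
  rw [ht1, hS1, hn, ← ha] at h1
  have hZ : (p : ℤ) ^ (2 * e + 1) * ((p : ℤ) ^ a * n)
      = (D : ℤ) * ((p : ℤ) ^ a * D) - n₀ * (S : ℤ) := by
    exact_mod_cast h1
  rw [← hS]
  have hS0 : S ≠ 0 := by
    rw [hS]
    intro h
    have h5 := (Finset.sum_eq_zero_iff.1 h) χ (Finset.mem_univ _)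
    rw [if_pos hχ, ← hD] at h5
    exact hD0 (pow_eq_zero_iff (two_ne_zero)|>.1 h5)
  have hS0' : (S : ℤ) ≠ 0 := by exact_mod_cast hS0
  have hD0' : (D : ℤ) ≠ 0 := by exact_mod_cast hD0
  have hpZ : (p : ℤ) ≠ 0 := by exact_mod_cast hp.ne_zero
  have hvS : padicValInt p (S : ℤ) = S.factorization p := by
    rw [padicValInt.of_nat, Nat.factorization_def S hp]
  have hmul : padicValInt p (n₀ * (S : ℤ)) = e + S.factorization p := by
    rw [padicValInt.mul hn₀0 hS0', hn₀v, hvS]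
  have hvD : padicValInt p ((D : ℤ) * ((p : ℤ) ^ a * D)) = a + 2 * e := by
    have h2 : ((D : ℤ) * ((p : ℤ) ^ a * D)) = ((D * (p ^ a * D) : ℕ) : ℤ) := by
      push_cast
      ring
    rw [h2, padicValInt.of_nat, ← Nat.factorization_def _ hp,
      Nat.factorization_mul hD0 (mul_ne_zero (pow_ne_zero _ hp.ne_zero) hD0),
      Nat.factorization_mul (pow_ne_zero _ hp.ne_zero) hD0, Nat.Prime.factorization_pow hp,
      Finsupp.add_apply, Finsupp.add_apply, Finsupp.single_eq_same, ← he]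
    omega
  apply le_antisymm
  · by_contra hlt
    push Not at hlt
    have h6 : (p : ℤ) ^ (a + 2 * e + 1) ∣ n₀ * (S : ℤ) := by
      rw [padicValInt_dvd_iff]
      right
      omega
    have h7 : (p : ℤ) ^ (a + 2 * e + 1) ∣ (D : ℤ) * ((p : ℤ) ^ a * D) := by
      have h8 : (D : ℤ) * ((p : ℤ) ^ a * D)
          = (p : ℤ) ^ (2 * e + 1) * ((p : ℤ) ^ a * n) + n₀ * (S : ℤ) := by
        rw [hZ]
        ring
      rw [h8]
      refine dvd_add ⟨n, by ring⟩ h6
    rw [padicValInt_dvd_iff] at h7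
    rcases h7 with h | h
    · exact (mul_ne_zero hD0' (mul_ne_zero (pow_ne_zero _ hpZ) hD0')) h
    · omega
  · have h6 : (p : ℤ) ^ (a + 2 * e) ∣ n₀ * (S : ℤ) := by
      have h8 : n₀ * (S : ℤ) = (D : ℤ) * ((p : ℤ) ^ a * D)
          - (p : ℤ) ^ (2 * e + 1) * ((p : ℤ) ^ a * n) := by
        rw [hZ]
        ring
      rw [h8]
      refine dvd_sub ?_ ⟨p * n, by ring⟩
      rw [padicValInt_dvd_iff]
      right
      omega
    rw [padicValInt_dvd_iff] at h6
    rcases h6 with h | h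
    · exact absurd h (mul_ne_zero hn₀0 hS0')
    · omega

end

end Cfsg.Agent.Helper25
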