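import Cfsg.Agent.Helper25.InducedPart
import Cfsg.Agent.Helper2.CharOrtho
import Cfsg.Agent.Helper2.DefectZero

set_option autoImplicit false
set_option linter.unusedSectionVars false

/-!
# Induced blocks: multiplicities and defect zero (helper25)
-/

namespace Cfsg.Agent.Helper25

open Cfsg
open scoped ComplexConjugate

section

variable {G : Type*} [Group G] [Fintype G] {M : Ideal AlgInt} {p : ℕ}

theorem irr_val_le_card (p : ℕ) (χ : IrrCharacter G) :
    (charDegree (χ : G → ℂ)).factorization p ≤ (Nat.card G).factorization p :=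
  (Nat.factorization_le_iff_dvd (charDegree_irr_ne_zero χ) Nat.card_pos.ne').2
    (Helper2.irr_degree_dvd_card χ.2) p

theorem sInf_val_le_card (p : ℕ) {B : Set (IrrCharacter G)} (hne : B.Nonempty) :
    sInf ((fun χ : IrrCharacter G => (charDegree (χ : G → ℂ)).factorization p) '' B)
      ≤ (Nat.card G).factorization p := by
  obtain ⟨χ, hχ⟩ := hne
  have h1 : sInf ((fun χ : IrrCharacter G => (charDegree (χ : G → ℂ)).factorization p) '' B)
      ≤ (charDegree (χ : G → ℂ)).factorization p := Nat.sInf_le ⟨χ, hχ, rfl⟩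
  exact h1.trans (irr_val_le_card p χ)

theorem block_nonempty (hM : M.IsPrime) {B : Set (IrrCharacter G)} (hB : IsPBlock M B) :
    B.Nonempty := by
  obtain ⟨χ₁, hBeq⟩ := id hB
  exact ⟨χ₁, by rw [hBeq]; exact mem_blockOf_self hM.ne_top χ₁⟩

/-- The value at `1` of a block part of an induced character as an explicit sum. -/
theorem blockPart_ind_eq_sum [Fintype (IrrCharacter G)] (H : Subgroup G) [Fintype H]
    (ξ : IrrCharacter H) (B : Set (IrrCharacter G)) [DecidablePred (· ∈ B)]
    (m : IrrCharacter G → ℕ)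
    (hm : ∀ χ : IrrCharacter G, classInner (indFun H (ξ : H → ℂ)) (χ : G → ℂ) = (m χ : ℂ)) :
    blockPart B (indFun H (ξ : H → ℂ)) 1
      = ((∑ χ : IrrCharacter G, if χ ∈ B then m χ * charDegree (χ : G → ℂ) else 0 : ℕ) : ℂ) := by
  rw [blockPart_apply, finsum_mem_eq_sum_ite]
  push_cast
  refine Finset.sum_congr rfl fun χ _ => ?_
  split_ifs
  · rw [hm χ, Helper24.charDegree_spec (Helper24.isCharacter_of_irr χ.2)]
  · rfl

theorem val_index_add (p : ℕ) (H : Subgroup G) :
    (Nat.card H).factorization p + H.index.factorization p = (Nat.card G).factorization p := by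
  rw [← Subgroup.card_mul_index H,
    Nat.factorization_mul Nat.card_pos.ne' Subgroup.index_ne_zero_of_finite]
  rfl

/-- If `b` induces `B` with the same defect, each height-zero member of `b` induces a character
containing some height-zero member of `B` with multiplicity prime to `p`. -/
theorem induced_same_defect_mult [Fact p.Prime] (hpM : IsPModular p M) (H : Subgroup G)
    [Fintype H] {b : Set (IrrCharacter H)} {B : Set (IrrCharacter G)}
    (hind : IsInducedBlock M H b B) (hdef : blockDefect p b = blockDefect p B)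
    (ζ : IrrCharacter H) (hζ : ζ ∈ b) (hζ0 : blockHeight p b (ζ : H → ℂ) = 0) :
    ∃ χ ∈ B, blockHeight p B (χ : G → ℂ) = 0 ∧ ∃ a : ℕ,
      classInner (indFun H (ζ : H → ℂ)) (χ : G → ℂ) = (a : ℂ) ∧ ¬ p ∣ a := by
  classical
  have hM := hpM.2.1.isPrime
  have hp := hpM.1
  have := Helper24.finite_irrCharacter (G := G)
  have : Fintype (IrrCharacter G) := Fintype.ofFinite _
  have hch := Helper2.isCharacter_indFun H (Helper24.isCharacter_of_irr ζ.2)
  have hnat : ∀ χ : IrrCharacter G, ∃ n : ℕ,
      classInner (indFun H (ζ : H → ℂ)) (χ : G → ℂ) = n := fun χ =>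
    Cfsg.Agent.Helper10.classInner_char_irr hch χ.2
  choose m hm using hnat
  by_contra hcon
  push Not at hcon
  have hdvdm : ∀ χ ∈ B, blockHeight p B (χ : G → ℂ) = 0 → p ∣ m χ := by
    intro χ hχ h0
    exact hcon χ hχ h0 (m χ) (hm χ)
  obtain ⟨n, hn⟩ : ∃ n : ℕ, n = ∑ χ : IrrCharacter G,
      if χ ∈ B then m χ * charDegree (χ : G → ℂ) else 0 := ⟨_, rfl⟩
  have hpart := blockPart_ind_eq_sum H ζ B m hm
  rw [← hn] at hpart
  obtain ⟨hn0, hnv⟩ := induced_part_val_eq hpM H hind ζ hζ n hpart
  obtain ⟨sB, hsB⟩ : ∃ s, s = sInf ((fun χ : IrrCharacter G =>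
    (charDegree (χ : G → ℂ)).factorization p) '' B) := ⟨_, rfl⟩
  obtain ⟨sb, hsb⟩ : ∃ s, s = sInf ((fun χ : IrrCharacter H =>
    (charDegree (χ : H → ℂ)).factorization p) '' b) := ⟨_, rfl⟩
  have h1 : sB ≤ (Nat.card G).factorization p := by
    rw [hsB]
    exact sInf_val_le_card p (block_nonempty hM hind.2.1)
  have h2 : sb ≤ (Nat.card H).factorization p := by
    rw [hsb]
    exact sInf_val_le_card p (block_nonempty hM hind.1)
  have h3 : (Nat.card H).factorization p - sb = (Nat.card G).factorization p - sB := by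
    rw [hsb, hsB]
    exact hdef
  have h4 : (charDegree (ζ : H → ℂ)).factorization p = sb := by
    rw [hsb]
    refine le_antisymm ?_ (Nat.sInf_le ⟨ζ, hζ, rfl⟩)
    unfold blockHeight at hζ0
    exact Nat.sub_eq_zero_iff_le.1 hζ0
  have h5 := val_index_add p H
  have hnv' : n.factorization p = sB := by
    rw [hnv, charDegree_indFun H (Helper24.isCharacter_of_irr ζ.2),
      Nat.factorization_mul Subgroup.index_ne_zero_of_finite (charDegree_irr_ne_zero ζ),
      Finsupp.add_apply, h4]
    omega
  have hdvd : p ^ (sB + 1) ∣ n := by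
    rw [hn]
    refine Finset.dvd_sum fun χ _ => ?_
    by_cases hχ : χ ∈ B
    · rw [if_pos hχ]
      have hle : sB ≤ (charDegree (χ : G → ℂ)).factorization p := by
        rw [hsB]
        exact Nat.sInf_le ⟨χ, hχ, rfl⟩
      by_cases h0 : blockHeight p B (χ : G → ℂ) = 0
      · rw [pow_succ, mul_comm]
        exact mul_dvd_mul (hdvdm χ hχ h0)
          ((Nat.Prime.pow_dvd_iff_le_factorization hp (charDegree_irr_ne_zero χ)).2 hle)
      · have hlt : sB + 1 ≤ (charDegree (χ : G → ℂ)).factorization p := by
          unfold blockHeight at h0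
          rw [← hsB] at h0
          omega
        exact Dvd.dvd.mul_left
          ((Nat.Prime.pow_dvd_iff_le_factorization hp (charDegree_irr_ne_zero χ)).2 hlt) _
    · rw [if_neg hχ]
      exact dvd_zero _
  have h6 := (Nat.Prime.pow_dvd_iff_le_factorization hp hn0).1 hdvd
  omega

/-- If the induced block has defect zero then so does the inducing block. -/
theorem induced_defect_zero_of_defect_zero [Fact p.Prime] (hpM : IsPModular p M)
    (H : Subgroup G) [Fintype H] {b : Set (IrrCharacter H)} {B : Set (IrrCharacter G)}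
    (hind : IsInducedBlock M H b B) (hB0 : blockDefect p B = 0) : blockDefect p b = 0 := by
  classical
  have hM := hpM.2.1.isPrime
  have hp := hpM.1
  have := Helper24.finite_irrCharacter (G := G)
  have : Fintype (IrrCharacter G) := Fintype.ofFinite _
  obtain ⟨ζ, hζ, hζ0⟩ := exists_height_zero p (B := b) (block_nonempty hM hind.1)
  have hch := Helper2.isCharacter_indFun H (Helper24.isCharacter_of_irr ζ.2)
  have hnat : ∀ χ : IrrCharacter G, ∃ n : ℕ,
      classInner (indFun H (ζ : H → ℂ)) (χ : G → ℂ) = n := fun χ =>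
    Cfsg.Agent.Helper10.classInner_char_irr hch χ.2
  choose m hm using hnat
  obtain ⟨n, hn⟩ : ∃ n : ℕ, n = ∑ χ : IrrCharacter G,
      if χ ∈ B then m χ * charDegree (χ : G → ℂ) else 0 := ⟨_, rfl⟩
  have hpart := blockPart_ind_eq_sum H ζ B m hm
  rw [← hn] at hpart
  obtain ⟨hn0, hnv⟩ := induced_part_val_eq hpM H hind ζ hζ n hpart
  obtain ⟨sB, hsB⟩ : ∃ s, s = sInf ((fun χ : IrrCharacter G =>
    (charDegree (χ : G → ℂ)).factorization p) '' B) := ⟨_, rfl⟩
  obtain ⟨sb, hsb⟩ : ∃ s, s = sInf ((fun χ : IrrCharacter H =>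
    (charDegree (χ : H → ℂ)).factorization p) '' b) := ⟨_, rfl⟩
  have h3 : (Nat.card G).factorization p - sB = 0 := by
    rw [hsB]
    exact hB0
  have h4 : (charDegree (ζ : H → ℂ)).factorization p = sb := by
    rw [hsb]
    refine le_antisymm ?_ (Nat.sInf_le ⟨ζ, hζ, rfl⟩)
    unfold blockHeight at hζ0
    exact Nat.sub_eq_zero_iff_le.1 hζ0
  have h5 := val_index_add p H
  have hnv' : n.factorization p = H.index.factorization p + sb := by
    rw [hnv, charDegree_indFun H (Helper24.isCharacter_of_irr ζ.2),
      Nat.factorization_mul Subgroup.index_ne_zero_of_finite (charDegree_irr_ne_zero ζ),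
      Finsupp.add_apply, h4]
  have hdvd : p ^ (Nat.card G).factorization p ∣ n := by
    rw [hn]
    refine Finset.dvd_sum fun χ _ => ?_
    by_cases hχ : χ ∈ B
    · rw [if_pos hχ]
      have hle : sB ≤ (charDegree (χ : G → ℂ)).factorization p := by
        rw [hsB]
        exact Nat.sInf_le ⟨χ, hχ, rfl⟩
      have hle' : (Nat.card G).factorization p ≤ (charDegree (χ : G → ℂ)).factorization p := by
        omega
      exact Dvd.dvd.mul_left
        ((Nat.Prime.pow_dvd_iff_le_factorization hp (charDegree_irr_ne_zero χ)).2 hle') _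
    · rw [if_neg hχ]
      exact dvd_zero _
  have h6 := (Nat.Prime.pow_dvd_iff_le_factorization hp hn0).1 hdvd
  unfold blockDefect
  rw [← hsb]
  omega

/-- If a block of defect zero induces `B`, then `B` has defect zero. -/
theorem defect_zero_of_induced_defect_zero [Fact p.Prime] (hpM : IsPModular p M)
    (H : Subgroup G) [Fintype H] {b : Set (IrrCharacter H)} {B : Set (IrrCharacter G)}
    (hind : IsInducedBlock M H b B) (hb0 : blockDefect p b = 0) : blockDefect p B = 0 := by
  classical
  have hM := hpM.2.1.isPrime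
  have hp := hpM.1
  obtain ⟨ξ, hξ⟩ := block_nonempty hM hind.1
  obtain ⟨χ, hχ, h0⟩ := exists_height_zero p (B := B) (block_nonempty hM hind.2.1)
  obtain ⟨k, hk⟩ := exists_defectClass hM hind.2.1
  have hkreg := defectClass_pRegular hpM hind.2.1 k hk
  have hidx := defectClass_idx_val hpM hind.2.1 χ hχ h0 k hk
  by_contra hne
  have hsB : sInf ((fun χ : IrrCharacter G => (charDegree (χ : G → ℂ)).factorization p) '' B)
      = (charDegree (χ : G → ℂ)).factorization p := by
    refine le_antisymm (Nat.sInf_le ⟨χ, hχ, rfl⟩) ?_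
    unfold blockHeight at h0
    exact Nat.sub_eq_zero_iff_le.1 h0
  have hlt : (charDegree (χ : G → ℂ)).factorization p < (Nat.card G).factorization p := by
    unfold blockDefect at hne
    rw [hsB] at hne
    omega
  let _ : Fintype (Subgroup.centralizer ({k} : Set G)) := Fintype.ofFinite _
  obtain ⟨P⟩ := (inferInstance : Nonempty (Sylow p (Subgroup.centralizer ({k} : Set G))))
  have hcard : Nat.card (P : Subgroup (Subgroup.centralizer ({k} : Set G)))
      = p ^ (Nat.card (Subgroup.centralizer ({k} : Set G))).factorization p :=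
    Sylow.card_eq_multiplicity P
  have hfac := val_index_add p (Subgroup.centralizer ({k} : Set G))
  have hc0 : (Nat.card (Subgroup.centralizer ({k} : Set G))).factorization p ≠ 0 := by omega
  have hPnt : Nontrivial (P : Subgroup (Subgroup.centralizer ({k} : Set G))) := by
    rw [← Finite.one_lt_card_iff_nontrivial, hcard]
    exact Nat.one_lt_pow hc0 hp.one_lt
  have hZ := IsPGroup.center_nontrivial P.isPGroup'
  obtain ⟨z, hz1⟩ := exists_ne (1 : Subgroup.center (P : Subgroup (Subgroup.centralizer ({k} : Set G))))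
  obtain ⟨z', hz'⟩ : ∃ z' : G, z' = (((z : (P : Subgroup (Subgroup.centralizer ({k} : Set G))))
      : Subgroup.centralizer ({k} : Set G)) : G) := ⟨_, rfl⟩
  obtain ⟨j, hj⟩ := (IsPGroup.iff_orderOf.mp P.isPGroup')
    (z : (P : Subgroup (Subgroup.centralizer ({k} : Set G))))
  have hj0 : j ≠ 0 := by
    intro h
    rw [h, pow_zero, orderOf_eq_one_iff] at hj
    apply hz1
    exact Subtype.ext hj
  have ho : orderOf z' = p ^ j := by
    rw [hz', Subgroup.orderOf_coe, Subgroup.orderOf_coe, hj]
  have hcomm : Commute z' k := by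
    rw [hz']
    exact (Subgroup.mem_centralizer_iff.mp
      ((z : (P : Subgroup (Subgroup.centralizer ({k} : Set G))))
        : Subgroup.centralizer ({k} : Set G)).2 k (Set.mem_singleton k)).symm
  have hcop : (orderOf z').Coprime (orderOf k) := by
    rw [ho]
    exact Nat.Coprime.pow_left j ((Nat.Prime.coprime_iff_not_dvd hp).mpr hkreg)
  have hord := hcomm.orderOf_mul_eq_mul_orderOf_of_coprime hcop
  have hdvd : p ∣ orderOf (z' * k) := by
    rw [hord, ho]
    exact Dvd.dvd.mul_right (dvd_pow_self p hj0) _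
  -- the image of `P` centralizes `z' * k`
  have hPle : ((P : Subgroup (Subgroup.centralizer ({k} : Set G))).map
      (Subgroup.centralizer ({k} : Set G)).subtype)
      ≤ Subgroup.centralizer ({z' * k} : Set G) := by
    rintro _ ⟨u, hu, rfl⟩
    rw [Subgroup.mem_centralizer_iff]
    intro t ht
    rw [Set.mem_singleton_iff] at ht
    rw [ht]
    have h1 : k * (u : G) = (u : G) * k :=
      Subgroup.mem_centralizer_iff.mp u.2 k (Set.mem_singleton k)
    have h2 : z' * (u : G) = (u : G) * z' := by
      have h3 := Subgroup.mem_center_iff.mp z.2 ⟨u, hu⟩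
      have h4 := congrArg (fun w : (P : Subgroup (Subgroup.centralizer ({k} : Set G))) =>
        ((w : Subgroup.centralizer ({k} : Set G)) : G)) h3
      simp only [Subgroup.coe_mul] at h4
      rw [hz']
      exact h4.symm
    show z' * k * (u : G) = (u : G) * (z' * k)
    rw [mul_assoc, h1, ← mul_assoc, h2, mul_assoc]
  have hcardle : (Nat.card (Subgroup.centralizer ({k} : Set G))).factorization p
      ≤ (Nat.card (Subgroup.centralizer ({z' * k} : Set G))).factorization p := by
    have h1 := Subgroup.card_dvd_of_le hPle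
    rw [Subgroup.card_map_of_injective (Subgroup.subtype_injective _), hcard] at h1
    exact (Nat.Prime.pow_dvd_iff_le_factorization hp Nat.card_pos.ne').1 h1
  have hfac2 := val_index_add p (Subgroup.centralizer ({z' * k} : Set G))
  have hidxle : (Subgroup.centralizer ({z' * k} : Set G)).index.factorization p
      ≤ (charDegree (χ : G → ℂ)).factorization p := by omega
  have hω : ¬ MemLocalIdeal M (centralChar (χ : G → ℂ) (z' * k)) := by
    intro h
    have h1 := char_mem_of_centralChar_mem hpM χ (z' * k) hidxle h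
    have h2 := Cfsg.Agent.Helper6.PRegular.char_ppart_congr hpM
      (Helper24.isCharacter_of_irr χ.2) z' k hcomm j ho
    have h3 := MemLocalIdeal.sub hM h1 h2
    rw [sub_sub_cancel] at h3
    exact height_zero_not_mem hpM hind.2.1 χ hχ h0 k hk h3
  have hI := hind.2.2 ξ hξ χ hχ (z' * k)
  have hI0 : inducedCentralChar H (ξ : H → ℂ) (z' * k) ≠ 0 := by
    intro h
    rw [h, zero_sub] at hI
    have := MemLocalIdeal.neg hI
    rw [neg_neg] at this
    exact hω this
  rw [inducedCentralChar_eq_sum] at hI0
  have hex : ∃ h : H, IsConj (z' * k) (h : G) ∧ (ξ : H → ℂ) h ≠ 0 := by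
    by_contra hcon
    push Not at hcon
    apply hI0
    rw [Finset.sum_eq_zero, zero_div]
    intro h _
    by_cases hc : IsConj (z' * k) (h : G)
    · rw [if_pos hc, hcon h hc]
    · rw [if_neg hc]
  obtain ⟨h, hc, hne0⟩ := hex
  apply hne0
  obtain ⟨c, hc'⟩ := isConj_iff.1 hc
  have hoh : orderOf h = orderOf (z' * k) := by
    rw [← Subgroup.orderOf_coe, ← hc', orderOf_conj']
  have hbd : (Nat.card H).factorization p ≤ (charDegree (ξ : H → ℂ)).factorization p := by
    have h1 : sInf ((fun χ : IrrCharacter H => (charDegree (χ : H → ℂ)).factorization p) '' b)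
        ≤ (charDegree (ξ : H → ℂ)).factorization p := Nat.sInf_le ⟨ξ, hξ, rfl⟩
    unfold blockDefect at hb0
    omega
  exact Helper2.irr_defect_zero_vanish ξ.2 p ((Nat.card H).factorization p) hp
    (Nat.ordProj_dvd _ _) (Nat.pow_succ_factorization_not_dvd Nat.card_pos.ne' hp)
    ((Nat.Prime.pow_dvd_iff_le_factorization hp (charDegree_irr_ne_zero ξ)).2 hbd) h
    (hoh ▸ hdvd)

end

end Cfsg.Agent.Helper25
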