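import Cfsg.Agent.Helper25.InducedGen2
import Cfsg.Agent.Helper25.BlockMinMax3
import Cfsg.Agent.Helper25.BlockOrth2
import Cfsg.Agent.Helper25.BlockCover
import Cfsg.Agent.Helper25.InducedPart2
import Cfsg.Agent.Helper16.PCore

set_option autoImplicit false
set_option linter.unusedSectionVars false

/-!
# Towards Brauer's first main theorem (helper25)

Truncation of central elements to the centralizer of a `p`-subgroup, existence of inducing blocks
of subgroups between `P C(P)` and `N(P)`, and normal `p`-subgroups in defect groups.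
-/

namespace Cfsg.Agent.Helper25

open Cfsg
open scoped ComplexConjugate

section Trunc

variable {G : Type*} [Group G] [Fintype G] [Fintype (IrrCharacter G)] {M : Ideal AlgInt} {p : ℕ}

open Classical in
/-- The truncation of a central element of the group algebra to the centralizer of `P`, as a
spectral function of `H`. -/
noncomputable def trunc (P H : Subgroup G) [Fintype H] (Φ : IrrCharacter G → ℂ) :
    IrrCharacter H → ℂ :=
  fun ξ => ∑ h : H, (if (h : G) ∈ Subgroup.centralizer (P : Set G) then coeffT Φ (h : G) else 0)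
    * ((ξ : H → ℂ) h / (ξ : H → ℂ) 1)

open Classical in
theorem coeffT_trunc (P H : Subgroup G) [Fintype H] [Fintype (IrrCharacter H)]
    (hHN : H ≤ Subgroup.normalizer (P : Set G)) (Φ : IrrCharacter G → ℂ) (h : H) :
    coeffT (trunc P H Φ) h
      = if (h : G) ∈ Subgroup.centralizer (P : Set G) then coeffT Φ (h : G) else 0 := by
  unfold trunc
  refine coeffT_forward (fun h : H => if (h : G) ∈ Subgroup.centralizer (P : Set G)
    then coeffT Φ (h : G) else 0) ?_ h
  intro h k
  have h2 : ((k * h * k⁻¹ : H) : G) ∈ Subgroup.centralizer (P : Set G)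
      ↔ (h : G) ∈ Subgroup.centralizer (P : Set G) :=
    conj_mem_centralizer_iff_of_mem_normalizer (hHN k.2) (h : G)
  have h3 : coeffT Φ ((k * h * k⁻¹ : H) : G) = coeffT Φ (h : G) :=
    coeffT_isClassFunction Φ (h : G) (k : G)
  simp only [h2, h3]

theorem trunc_mem_specRing (hM : M.IsPrime) (P H : Subgroup G) [Fintype H]
    [Fintype (IrrCharacter H)] (hHN : H ≤ Subgroup.normalizer (P : Set G))
    {Φ : IrrCharacter G → ℂ} (hΦ : Φ ∈ specRing G M hM) : trunc P H Φ ∈ specRing H M hM := by
  classical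
  rw [mem_specRing]
  intro h
  rw [coeffT_trunc P H hHN]
  split_ifs
  · exact mem_specRing.1 hΦ _
  · exact MemLocalRing.zero hM.ne_top

/-- The truncation is multiplicative modulo the local ideal. -/
theorem trunc_mul_sub_mem [Fact p.Prime] (hpM : IsPModular p M) (P H : Subgroup G)
    (hP : IsPGroup p P) [Fintype H] [Fintype (IrrCharacter H)]
    (hCH : Subgroup.centralizer (P : Set G) ≤ H) (hHN : H ≤ Subgroup.normalizer (P : Set G))
    {Φ Ψ : IrrCharacter G → ℂ} (hΦ : Φ ∈ specRing G M hpM.2.1.isPrime)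
    (hΨ : Ψ ∈ specRing G M hpM.2.1.isPrime) :
    trunc P H (Φ * Ψ) - trunc P H Φ * trunc P H Ψ ∈ specJ H M hpM.2.1.isPrime := by
  classical
  have hM := hpM.2.1.isPrime
  rw [mem_specJ]
  intro h
  rw [coeffT_sub, coeffT_trunc P H hHN, coeffT_mul (trunc P H Φ) (trunc P H Ψ) h]
  simp only [coeffT_trunc P H hHN]
  by_cases hc : (h : G) ∈ Subgroup.centralizer (P : Set G)
  · rw [if_pos hc, coeffT_mul]
    have e1 : ∑ x : H, (if (x : G) ∈ Subgroup.centralizer (P : Set G) then coeffT Φ (x : G)
          else 0) * (if ((x⁻¹ * h : H) : G) ∈ Subgroup.centralizer (P : Set G)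
            then coeffT Ψ ((x⁻¹ * h : H) : G) else 0)
        = ∑ y : G, (if y ∈ Subgroup.centralizer (P : Set G)
            then coeffT Φ y * coeffT Ψ (y⁻¹ * (h : G)) else 0) := by
      rw [sum_eq_sum_subgroup_add H (fun y : G => if y ∈ Subgroup.centralizer (P : Set G)
            then coeffT Φ y * coeffT Ψ (y⁻¹ * (h : G)) else 0)]
      have e0 : ∑ y : G, (if y ∈ H then (0 : ℂ) else (if y ∈ Subgroup.centralizer (P : Set G)
            then coeffT Φ y * coeffT Ψ (y⁻¹ * (h : G)) else 0)) = 0 := by
        refine Finset.sum_eq_zero fun y _ => ?_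
        by_cases hy : y ∈ H
        · rw [if_pos hy]
        · rw [if_neg hy, if_neg (fun hyc => hy (hCH hyc))]
      rw [e0, add_zero]
      refine Finset.sum_congr rfl fun x _ => ?_
      by_cases hx : (x : G) ∈ Subgroup.centralizer (P : Set G)
      · have hx' : ((x⁻¹ * h : H) : G) ∈ Subgroup.centralizer (P : Set G) := by
          rw [Subgroup.coe_mul, Subgroup.coe_inv]
          exact mul_mem (inv_mem hx) hc
        rw [if_pos hx, if_pos hx', if_pos hx]
        rfl
      · rw [if_neg hx, if_neg hx, zero_mul]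
    rw [e1, ← Finset.sum_sub_distrib]
    have e2 : ∀ y : G, coeffT Φ y * coeffT Ψ (y⁻¹ * (h : G))
        - (if y ∈ Subgroup.centralizer (P : Set G)
            then coeffT Φ y * coeffT Ψ (y⁻¹ * (h : G)) else 0)
        = if y ∈ Subgroup.centralizer (P : Set G) then 0
          else coeffT Φ y * coeffT Ψ (y⁻¹ * (h : G)) := by
      intro y
      split_ifs <;> ring
    rw [Finset.sum_congr rfl fun y _ => e2 y]
    refine sum_off_centralizer_mem hpM P hP _ (fun u hu y => ?_) (fun y => ?_)
    · have h1 := coeffT_isClassFunction Φ y u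
      have hxu : (h : G) * u⁻¹ = u⁻¹ * (h : G) :=
        (Subgroup.mem_centralizer_iff.1 hc u⁻¹ (inv_mem hu)).symm
      have h2 := coeffT_isClassFunction Ψ (y⁻¹ * (h : G)) u
      have e : (u * y * u⁻¹)⁻¹ * (h : G) = u * (y⁻¹ * (h : G)) * u⁻¹ := by
        calc (u * y * u⁻¹)⁻¹ * (h : G) = u * y⁻¹ * (u⁻¹ * (h : G)) := by group
          _ = u * y⁻¹ * ((h : G) * u⁻¹) := by rw [hxu]
          _ = u * (y⁻¹ * (h : G)) * u⁻¹ := by group
      rw [h1, e, h2]
    · exact MemLocalRing.mul hM (hΦ y) (hΨ _)
  · rw [if_neg hc, zero_sub]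
    apply MemLocalIdeal.neg
    have e0 : ∑ x : H, (if (x : G) ∈ Subgroup.centralizer (P : Set G) then coeffT Φ (x : G)
          else 0) * (if ((x⁻¹ * h : H) : G) ∈ Subgroup.centralizer (P : Set G)
            then coeffT Ψ ((x⁻¹ * h : H) : G) else 0) = 0 := by
      refine Finset.sum_eq_zero fun x _ => ?_
      by_cases hx : (x : G) ∈ Subgroup.centralizer (P : Set G)
      · have hx' : ((x⁻¹ * h : H) : G) ∉ Subgroup.centralizer (P : Set G) := by
          intro hx'
          apply hc
          have e : (h : G) = (x : G) * ((x⁻¹ * h : H) : G) := by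
            rw [Subgroup.coe_mul, Subgroup.coe_inv]
            group
          rw [e]
          exact mul_mem hx hx'
        rw [if_neg hx', mul_zero]
      · rw [if_neg hx, zero_mul]
    rw [e0]
    exact MemLocalIdeal.zero hM.ne_top

/-- The truncation followed by a central character agrees with the Brauer map modulo the local
ideal. -/
theorem trunc_sub_brLam_mem [Fact p.Prime] (hpM : IsPModular p M) (P H : Subgroup G)
    (hP : IsPGroup p P) [Fintype H] (hPH : P ≤ H) (hHN : H ≤ Subgroup.normalizer (P : Set G))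
    {Φ : IrrCharacter G → ℂ} (hΦ : Φ ∈ specRing G M hpM.2.1.isPrime) (ξ : IrrCharacter H) :
    MemLocalIdeal M (trunc P H Φ ξ - brLam H ξ Φ) := by
  classical
  have hM := hpM.2.1.isPrime
  have := Helper24.finite_irrCharacter (G := H)
  have : Fintype (IrrCharacter H) := Fintype.ofFinite _
  have hnormal : (P.subgroupOf H).Normal := by
    refine ⟨fun n hn g => ?_⟩
    rw [Subgroup.mem_subgroupOf] at hn ⊢
    have hg := hHN g.2
    rw [Subgroup.mem_normalizer_iff] at hg
    exact (hg (n : G)).1 hn
  have hPsub : IsPGroup p (P.subgroupOf H) := hP.comap_subtype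
  unfold trunc brLam
  rw [← Finset.sum_sub_distrib]
  have hcl : IsClassFunction H (fun h : H =>
      (if (h : G) ∈ Subgroup.centralizer (P : Set G) then coeffT Φ (h : G) else 0)
        * ((ξ : H → ℂ) h / (ξ : H → ℂ) 1)
      - coeffT Φ (h : G) * ((ξ : H → ℂ) h / (ξ : H → ℂ) 1)) := by
    intro h k
    have h2 : ((k * h * k⁻¹ : H) : G) ∈ Subgroup.centralizer (P : Set G)
        ↔ (h : G) ∈ Subgroup.centralizer (P : Set G) :=
      conj_mem_centralizer_iff_of_mem_normalizer (hHN k.2) (h : G)
    have h3 : coeffT Φ ((k * h * k⁻¹ : H) : G) = coeffT Φ (h : G) :=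
      coeffT_isClassFunction Φ (h : G) (k : G)
    have h4 := (Helper2.IsIrrCharacter.isClassFunction ξ.2) h k
    simp only [h2, h3, h4]
  refine sum_class_mem (localIdeal M hM) _ hcl fun h => ?_
  by_cases hc : (h : G) ∈ Subgroup.centralizer (P : Set G)
  · rw [if_pos hc, sub_self, mul_zero]
    exact MemLocalIdeal.zero hM.ne_top
  · rw [if_neg hc, zero_mul, zero_sub]
    have e : ((Subgroup.centralizer ({h} : Set H)).index : ℂ)
        * -(coeffT Φ (h : G) * ((ξ : H → ℂ) h / (ξ : H → ℂ) 1))
        = -(coeffT Φ (h : G) * centralChar (ξ : H → ℂ) h) := by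
      unfold centralChar
      ring
    rw [e]
    refine MemLocalIdeal.neg (MemLocalIdeal.mul_left hM (hΦ _) ?_)
    refine centralChar_mem_of_not_centralizer hpM (P.subgroupOf H) hPsub ξ h ?_
    intro hxc
    apply hc
    rw [Subgroup.mem_centralizer_iff]
    intro u hu
    have h1 := Subgroup.mem_centralizer_iff.1 hxc ⟨u, hPH hu⟩
      (by rw [SetLike.mem_coe, Subgroup.mem_subgroupOf]; exact hu)
    exact congrArg Subtype.val h1

end Trunc

section Idem

variable {K : Type*} [Group K] [Fintype K] [Fintype (IrrCharacter K)] {M : Ideal AlgInt}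

/-- An idempotent modulo the local ideal all of whose values lie in the local ideal has all its
coefficients in the local ideal. -/
theorem mem_specJ_of_idem (hM : M.IsPrime) (ξ₀ : IrrCharacter K) {T : IrrCharacter K → ℂ}
    (hT : T ∈ specRing K M hM) (hidem : T * T - T ∈ specJ K M hM)
    (hv : ∀ ξ, MemLocalIdeal M (T ξ)) : T ∈ specJ K M hM := by
  have hpow := pow_mem_specJ hM hT hv
  have hk : ∀ k : ℕ, T ^ (k + 1) - T ∈ specJ K M hM := by
    intro k
    induction k with
    | zero =>
      rw [zero_add, pow_one, sub_self]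
      exact (specJ K M hM).zero_mem
    | succ k ih =>
      have e : T ^ (k + 1 + 1) - T = T * (T ^ (k + 1) - T) + (T * T - T) := by ring
      rw [e]
      exact (specJ K M hM).add_mem (mul_mem_specJ hM hT ih) hidem
  have : Nonempty (IrrCharacter K) := ⟨ξ₀⟩
  obtain ⟨n, hn⟩ : ∃ n, Fintype.card (IrrCharacter K) = n + 1 :=
    Nat.exists_eq_succ_of_ne_zero Fintype.card_ne_zero
  rw [hn] at hpow
  have h := (specJ K M hM).sub_mem hpow (hk n)
  rwa [sub_sub_cancel] at h

end Idem

section Exist

variable {G : Type*} [Group G] [Fintype G] [Fintype (IrrCharacter G)] {M : Ideal AlgInt} {p : ℕ}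

/-- If the idempotent of the block `B` has a coefficient outside the local ideal at an element
of the centralizer of `P`, then `B` is induced from a block of `H`. -/
theorem exists_induced_of_coeff [Fact p.Prime] (hpM : IsPModular p M) (P H : Subgroup G)
    (hP : IsPGroup p P) [Fintype H] (hPH : P ≤ H) (hCH : Subgroup.centralizer (P : Set G) ≤ H)
    (hHN : H ≤ Subgroup.normalizer (P : Set G)) (B : Set (IrrCharacter G)) (hB : IsPBlock M B)
    (c : G) (hc : c ∈ Subgroup.centralizer (P : Set G))
    (hcoef : ¬ MemLocalIdeal M (blockCoeff B c)) :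
    ∃ b : Set (IrrCharacter H), IsInducedBlock M H b B := by
  classical
  have hM := hpM.2.1.isPrime
  have := Helper24.finite_irrCharacter (G := H)
  have : Fintype (IrrCharacter H) := Fintype.ofFinite _
  by_contra hno
  push Not at hno
  obtain ⟨ΦB, hΦBdef⟩ : ∃ ΦB : IrrCharacter G → ℂ,
      ΦB = fun χ : IrrCharacter G => if χ ∈ B then (1 : ℂ) else 0 := ⟨_, rfl⟩
  have hΦB : ΦB ∈ specRing G M hM := by
    rw [hΦBdef]
    exact block_indicator_mem hM hB
  have hidem : ΦB * ΦB = ΦB := by
    rw [hΦBdef]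
    funext χ
    show (if χ ∈ B then (1 : ℂ) else 0) * (if χ ∈ B then (1 : ℂ) else 0) = _
    split_ifs <;> simp
  have hT := trunc_mem_specRing hM P H hHN hΦB
  have h1 := trunc_mul_sub_mem hpM P H hP hCH hHN hΦB hΦB
  rw [hidem] at h1
  have h2 : trunc P H ΦB * trunc P H ΦB - trunc P H ΦB ∈ specJ H M hM := by
    have h := (specJ H M hM).neg_mem h1
    rwa [neg_sub] at h
  have hv : ∀ ξ : IrrCharacter H, MemLocalIdeal M (trunc P H ΦB ξ) := by
    intro ξ
    have h3 := trunc_sub_brLam_mem hpM P H hP hPH hHN hΦB ξ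
    have h4 : MemLocalIdeal M (brLam H ξ ΦB) := by
      rw [hΦBdef]
      exact brLam_mem_of_not_induced_gen hM H (brauer_mul_gen hpM P H hP hPH hCH hHN)
        (blockOf M (ξ : H → ℂ)) ⟨ξ, rfl⟩ B hB (hno _) ξ (mem_blockOf_self hM.ne_top ξ)
    have h := MemLocalIdeal.add hM h3 h4
    rwa [sub_add_cancel] at h
  obtain ⟨χ₀, _⟩ := block_nonempty hM hB
  obtain ⟨ξ₀, _⟩ := exists_under H χ₀
  have hJ := mem_specJ_of_idem hM ξ₀ hT h2 hv
  apply hcoef
  have h5 := mem_specJ.1 hJ ⟨c, hCH hc⟩
  rw [coeffT_trunc P H hHN, if_pos hc] at h5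
  rw [blockCoeff_eq_coeffT, ← hΦBdef]
  exact h5

end Exist

section Normal

variable {M : Ideal AlgInt} {p : ℕ}

/-- A normal `p`-subgroup is contained in every defect group of every block. -/
theorem normal_pgroup_le_defectGroup {K : Type*} [Group K] [Finite K] [Fact p.Prime]
    (hpM : IsPModular p M) (Q : Subgroup K) [hQn : Q.Normal] (hQ : IsPGroup p Q)
    {b : Set (IrrCharacter K)} (hb : IsPBlock M b) {D : Subgroup K}
    (hD : IsDefectGroup p M b D) : Q ≤ D := by
  classical
  have : Fintype K := Fintype.ofFinite K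
  have hM := hpM.2.1.isPrime
  obtain ⟨y, hy, S, rfl⟩ := hD
  have hyC : y ∈ Subgroup.centralizer (Q : Set K) := by
    by_contra hyn
    apply hy.2.1
    rw [blockCoeff_eq_zero_of_not_centralizer hpM Q hQ hb y hyn]
    exact MemLocalIdeal.zero hM.ne_top
  have hQle : Q ≤ Subgroup.centralizer ({y} : Set K) := by
    intro q hq
    rw [Subgroup.mem_centralizer_singleton_iff]
    exact Subgroup.mem_centralizer_iff.1 hyC q hq
  have hn : (Q.subgroupOf (Subgroup.centralizer ({y} : Set K))).Normal := by
    refine ⟨fun n hn g => ?_⟩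
    rw [Subgroup.mem_subgroupOf] at hn ⊢
    exact hQn.conj_mem _ hn _
  have hp' : IsPGroup p (Q.subgroupOf (Subgroup.centralizer ({y} : Set K))) := hQ.comap_subtype
  have h1 : Q.subgroupOf (Subgroup.centralizer ({y} : Set K))
      ≤ pCore p (Subgroup.centralizer ({y} : Set K)) := le_sSup ⟨hn, hp'⟩
  have h2 := Helper16.pCore_le_sylow S
  intro q hq
  exact ⟨⟨q, hQle hq⟩, h2 (h1 (by rw [Subgroup.mem_subgroupOf]; exact hq)), rfl⟩

variable {G : Type*} [Group G] [Fintype G] [Fintype (IrrCharacter G)]

/-- A block with defect group `D` is induced from a block with defect group `D` of any subgroup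
between `D C(D)` and `N(D)`. -/
theorem exists_induced_defect [Fact p.Prime] (hpM : IsPModular p M) (D H : Subgroup G)
    [Fintype H] (hDH : D ≤ H) (hCH : Subgroup.centralizer (D : Set G) ≤ H)
    (hHN : H ≤ Subgroup.normalizer (D : Set G)) (B : Set (IrrCharacter G)) (hB : IsPBlock M B)
    (hD : IsDefectGroup p M B D) :
    ∃ b : Set (IrrCharacter H), IsDefectGroup p M b (D.subgroupOf H) ∧ IsInducedBlock M H b B := by
  classical
  have hM := hpM.2.1.isPrime
  obtain ⟨g, hg, S, hDS⟩ := id hD
  have hDp : IsPGroup p D := by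
    rw [hDS]
    exact S.isPGroup'.map _
  have hgC : g ∈ Subgroup.centralizer (D : Set G) := by
    rw [Subgroup.mem_centralizer_iff]
    intro u hu
    rw [hDS] at hu
    obtain ⟨s, _, rfl⟩ := hu
    exact Subgroup.mem_centralizer_singleton_iff.1 s.2
  obtain ⟨b, hind⟩ := exists_induced_of_coeff hpM D H hDp hDH hCH hHN B hB g hgC hg.2.1
  refine ⟨b, ?_, hind⟩
  obtain ⟨y, hy⟩ := exists_defectClass hM hind.1
  obtain ⟨Sb⟩ : Nonempty (Sylow p (Subgroup.centralizer ({y} : Set H))) := inferInstance
  have hDb : IsDefectGroup p M b ((Sb : Subgroup (Subgroup.centralizer ({y} : Set H))).map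
      (Subgroup.centralizer ({y} : Set H)).subtype) := ⟨y, hy, Sb, rfl⟩
  have hnormal : (D.subgroupOf H).Normal := by
    refine ⟨fun n hn g => ?_⟩
    rw [Subgroup.mem_subgroupOf] at hn ⊢
    have hg := hHN g.2
    rw [Subgroup.mem_normalizer_iff] at hg
    exact (hg (n : G)).1 hn
  have hle := normal_pgroup_le_defectGroup hpM (D.subgroupOf H) hDp.comap_subtype hind.1 hDb
  obtain ⟨E, hE, hDbE⟩ := induced_defectGroup_le hpM H hind.1 hB hind _ hDb
  have hcE := card_defectGroup hpM hB E hE
  have hcD := card_defectGroup hpM hB D hD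
  have h1 : Nat.card (D.subgroupOf H) = Nat.card D :=
    Nat.card_congr (Subgroup.subgroupOfEquivOfLe hDH).toEquiv
  have h2 : Nat.card ((Sb : Subgroup (Subgroup.centralizer ({y} : Set H))).map
      (Subgroup.centralizer ({y} : Set H)).subtype) ≤ Nat.card E := by
    rw [← Subgroup.card_map_of_injective (Subgroup.subtype_injective H)]
    exact Subgroup.card_le_of_le hDbE
  have heq : D.subgroupOf H = (Sb : Subgroup (Subgroup.centralizer ({y} : Set H))).map
      (Subgroup.centralizer ({y} : Set H)).subtype :=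
    Subgroup.eq_of_le_of_card_ge hle (by rw [h1, hcD, ← hcE]; exact h2)
  rw [heq]
  exact hDb

end Normal

end Cfsg.Agent.Helper25
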