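import Cfsg.Agent.Helper25.HeightZero
import Cfsg.Agent.Helper25.BlockBrauer
import Cfsg.Agent.Helper6.PRegChar
import Cfsg.Agent.Helper10.VirtualChar
import Cfsg.Agent.Helper10.Bessel
import Cfsg.Agent.Helper24.Schur

set_option autoImplicit false
set_option linter.unusedSectionVars false

/-!
# Height zero through `p`-regular truncations (helper25)

For an irreducible character `χ` put `χ̃ = p^a χ` on the `p`-regular elements and `0` elsewhere.
The ratio `[χ̃, ψ] / ψ 1` is a local integer, constant modulo the local ideal on blocks, and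
`χ` has height zero in its block exactly when the ratio is a unit.
-/

namespace Cfsg.Agent.Helper25

open Cfsg
open scoped ComplexConjugate

section Valuation

variable {M : Ideal AlgInt} {p : ℕ}

theorem intCast_eq_natAbs_or (n : ℤ) :
    (n : ℂ) = (n.natAbs : ℂ) ∨ (n : ℂ) = -(n.natAbs : ℂ) := by
  rcases Int.natAbs_eq n with h | h
  · left
    have h1 := congrArg (Int.cast : ℤ → ℂ) h
    rw [Int.cast_natCast] at h1
    exact h1
  · right
    have h1 := congrArg (Int.cast : ℤ → ℂ) h
    rw [Int.cast_neg, Int.cast_natCast] at h1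
    exact h1

/-- For a ratio of an integer by a natural number that is a local integer, the denominator has
the smaller `p`-adic valuation. -/
theorem int_ratio_val_le [Fact p.Prime] (hpM : IsPModular p M) (n : ℤ) (hn : n ≠ 0) (d : ℕ)
    (hd : d ≠ 0) (hR : MemLocalRing M ((n : ℂ) / (d : ℂ))) :
    d.factorization p ≤ padicValInt p n := by
  have hM := hpM.2.1.isPrime
  have hp := hpM.1
  by_contra hlt
  push Not at hlt
  have hnat : n.natAbs ≠ 0 := Int.natAbs_ne_zero.mpr hn
  have hlt' : n.natAbs.factorization p < d.factorization p := by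
    rw [Nat.factorization_def _ hp]
    exact hlt
  have hJ := natCast_div_mem_ideal hpM hnat hlt'
  have hJ' : MemLocalIdeal M ((d : ℂ) / (n : ℂ)) := by
    rcases intCast_eq_natAbs_or n with h | h
    · rw [h]
      exact hJ
    · rw [h, div_neg]
      exact MemLocalIdeal.neg hJ
  have h1 := MemLocalIdeal.mul_left hM hR hJ'
  have hn' : (n : ℂ) ≠ 0 := Int.cast_ne_zero.mpr hn
  have hd' : (d : ℂ) ≠ 0 := Nat.cast_ne_zero.mpr hd
  have e : (n : ℂ) / (d : ℂ) * ((d : ℂ) / (n : ℂ)) = 1 := by
    field_simp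
  rw [e] at h1
  exact not_memLocalIdeal_one h1

/-- A local-integer ratio of an integer by a natural number is a unit exactly when the
`p`-adic valuations agree. -/
theorem int_ratio_val [Fact p.Prime] (hpM : IsPModular p M) (n : ℤ) (d : ℕ) (hd : d ≠ 0)
    (hR : MemLocalRing M ((n : ℂ) / (d : ℂ))) :
    ¬ MemLocalIdeal M ((n : ℂ) / (d : ℂ)) ↔ n ≠ 0 ∧ padicValInt p n = d.factorization p := by
  have hM := hpM.2.1.isPrime
  have hp := hpM.1
  have hd' : (d : ℂ) ≠ 0 := Nat.cast_ne_zero.mpr hd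
  constructor
  · intro hnot
    have hn : n ≠ 0 := by
      intro h
      apply hnot
      rw [h]
      simp only [Int.cast_zero, zero_div]
      exact MemLocalIdeal.zero hM.ne_top
    refine ⟨hn, le_antisymm ?_ (int_ratio_val_le hpM n hn d hd hR)⟩
    by_contra hlt
    push Not at hlt
    apply hnot
    have hlt' : d.factorization p < n.natAbs.factorization p := by
      rw [Nat.factorization_def n.natAbs hp]
      exact hlt
    have hJ := natCast_div_mem_ideal hpM hd hlt'
    rcases intCast_eq_natAbs_or n with h | h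
    · rw [h]
      exact hJ
    · rw [h, neg_div]
      exact MemLocalIdeal.neg hJ
  · rintro ⟨hn, hv⟩ hJ
    have hnat : n.natAbs ≠ 0 := Int.natAbs_ne_zero.mpr hn
    have hle : n.natAbs.factorization p ≤ d.factorization p := by
      rw [Nat.factorization_def _ hp]
      exact hv.le
    have hR' := natCast_div_memLocalRing hpM hnat hle
    have hR'' : MemLocalRing M ((d : ℂ) / (n : ℂ)) := by
      rcases intCast_eq_natAbs_or n with h | h
      · rw [h]
        exact hR'
      · rw [h, div_neg]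
        exact MemLocalRing.neg hR'
    have h1 := MemLocalIdeal.mul_left hM hR'' hJ
    have hn' : (n : ℂ) ≠ 0 := Int.cast_ne_zero.mpr hn
    have e : (d : ℂ) / (n : ℂ) * ((n : ℂ) / (d : ℂ)) = 1 := by
      field_simp
    rw [e] at h1
    exact not_memLocalIdeal_one h1

end Valuation

section Tilde

variable {G : Type*} [Group G] [Fintype G] {M : Ideal AlgInt} {p : ℕ}

/-- `p^a χ` on the `p`-regular elements and zero elsewhere. -/
noncomputable def tildeFun (p : ℕ) (χ : G → ℂ) : G → ℂ :=
  fun x : G => if p ∣ orderOf x then (0 : ℂ) else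
    ((p ^ (Nat.card G).factorization p : ℕ) : ℂ) * χ x

/-- The spectral function of the truncation to the `p`-regular elements. -/
noncomputable def tildeSpec (p : ℕ) (χ : IrrCharacter G) : IrrCharacter G → ℂ :=
  fun ψ => ∑ x : G, (if p ∣ orderOf x then (0 : ℂ) else (χ : G → ℂ) x⁻¹)
    * ((ψ : G → ℂ) x / (ψ : G → ℂ) 1)

theorem tildeSpec_mem [Fintype (IrrCharacter G)] (hM : M.IsPrime) (χ : IrrCharacter G) :
    tildeSpec p χ ∈ specRing G M hM := by
  rw [mem_specRing]
  intro g
  have hcl : IsClassFunction G (fun x : G => if p ∣ orderOf x then (0 : ℂ)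
      else (χ : G → ℂ) x⁻¹) := by
    intro x k
    have ho : orderOf (k * x * k⁻¹) = orderOf x :=
      orderOf_injective (MulAut.conj k).toMonoidHom (MulAut.conj k).injective x
    have hv : (χ : G → ℂ) (k * x * k⁻¹)⁻¹ = (χ : G → ℂ) x⁻¹ := by
      have e : (k * x * k⁻¹)⁻¹ = k * x⁻¹ * k⁻¹ := by group
      rw [e]
      exact (Helper2.IsIrrCharacter.isClassFunction χ.2) _ _
    show (if p ∣ orderOf (k * x * k⁻¹) then (0 : ℂ) else (χ : G → ℂ) (k * x * k⁻¹)⁻¹)
      = if p ∣ orderOf x then (0 : ℂ) else (χ : G → ℂ) x⁻¹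
    rw [ho, hv]
  have h := coeffT_forward (fun x : G => if p ∣ orderOf x then (0 : ℂ)
      else (χ : G → ℂ) x⁻¹) hcl g
  have e : coeffT (tildeSpec p χ) g = if p ∣ orderOf g then (0 : ℂ) else (χ : G → ℂ) g⁻¹ := h
  rw [e]
  split_ifs
  · exact MemLocalRing.zero hM.ne_top
  · exact memLocalRing_of_isIntegral hM.ne_top
      (Helper2.IsCharacter.isIntegral (Helper24.isCharacter_of_irr χ.2) _)

theorem classInner_tildeFun (χ ψ : IrrCharacter G) :
    classInner (tildeFun p (χ : G → ℂ)) (ψ : G → ℂ) / (ψ : G → ℂ) 1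
      = ((p ^ (Nat.card G).factorization p : ℕ) : ℂ) / (Nat.card G : ℂ) * tildeSpec p χ ψ := by
  unfold classInner tildeSpec
  have e1 : ∑ g : G, tildeFun p (χ : G → ℂ) g * conj ((ψ : G → ℂ) g)
      = ((p ^ (Nat.card G).factorization p : ℕ) : ℂ)
        * ∑ x : G, (if p ∣ orderOf x then (0 : ℂ) else (χ : G → ℂ) x⁻¹) * (ψ : G → ℂ) x := by
    have h2 := Equiv.sum_comp (Equiv.inv G) (fun x : G =>
      (if p ∣ orderOf x then (0 : ℂ) else (χ : G → ℂ) x⁻¹) * (ψ : G → ℂ) x)
    rw [← h2, Finset.mul_sum]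
    refine Finset.sum_congr rfl fun x _ => ?_
    show tildeFun p (χ : G → ℂ) x * conj ((ψ : G → ℂ) x)
      = _ * ((if p ∣ orderOf x⁻¹ then (0 : ℂ) else (χ : G → ℂ) x⁻¹⁻¹) * (ψ : G → ℂ) x⁻¹)
    rw [orderOf_inv, inv_inv, char_conj_eq_inv]
    unfold tildeFun
    split_ifs <;> ring
  rw [e1, Finset.mul_sum, Finset.mul_sum, Finset.mul_sum, Finset.sum_div]
  refine Finset.sum_congr rfl fun x _ => ?_
  ring

/-- The ratio `[χ̃, ψ] / ψ 1` is a local integer. -/
theorem tildeRatio_memLocalRing [Fact p.Prime] (hpM : IsPModular p M) (χ ψ : IrrCharacter G) :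
    MemLocalRing M (classInner (tildeFun p (χ : G → ℂ)) (ψ : G → ℂ) / (ψ : G → ℂ) 1) := by
  have hM := hpM.2.1.isPrime
  have hp := hpM.1
  have := Helper24.finite_irrCharacter (G := G)
  have : Fintype (IrrCharacter G) := Fintype.ofFinite _
  rw [classInner_tildeFun]
  refine MemLocalRing.mul hM (natCast_div_memLocalRing hpM Nat.card_pos.ne' ?_)
    (spec_value_mem hM (tildeSpec_mem hM χ) ψ)
  rw [Nat.Prime.factorization_pow hp, Finsupp.single_eq_same]

/-- The ratio `[χ̃, ψ] / ψ 1` is constant on blocks modulo the local ideal. -/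
theorem tildeRatio_sub_mem [Fact p.Prime] (hpM : IsPModular p M) (χ : IrrCharacter G)
    {ψ ξ : IrrCharacter G} (h : SameBlock M (ψ : G → ℂ) (ξ : G → ℂ)) :
    MemLocalIdeal M (classInner (tildeFun p (χ : G → ℂ)) (ψ : G → ℂ) / (ψ : G → ℂ) 1
      - classInner (tildeFun p (χ : G → ℂ)) (ξ : G → ℂ) / (ξ : G → ℂ) 1) := by
  have hM := hpM.2.1.isPrime
  have hp := hpM.1
  have := Helper24.finite_irrCharacter (G := G)
  have : Fintype (IrrCharacter G) := Fintype.ofFinite _
  rw [classInner_tildeFun, classInner_tildeFun, ← mul_sub]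
  refine MemLocalIdeal.mul_left hM (natCast_div_memLocalRing hpM Nat.card_pos.ne' ?_)
    (spec_sub_mem hM (tildeSpec_mem hM χ) h)
  rw [Nat.Prime.factorization_pow hp, Finsupp.single_eq_same]

theorem tildeFun_gen [Fact p.Prime] (χ : IrrCharacter G) :
    IsGeneralizedCharacter G (tildeFun p (χ : G → ℂ)) :=
  Cfsg.Agent.Helper6.PRegChar.p_regular_gen_char p (χ : G → ℂ) (Helper24.isCharacter_of_irr χ.2)

/-- `[χ̃, ψ]` is the integer `irrCoeff χ̃ ψ`. -/
theorem tildeFun_inner [Fact p.Prime] (χ ψ : IrrCharacter G) :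
    classInner (tildeFun p (χ : G → ℂ)) (ψ : G → ℂ)
      = (Cfsg.Agent.Helper10.irrCoeff (tildeFun p (χ : G → ℂ)) (ψ : G → ℂ) : ℂ) :=
  Cfsg.Agent.Helper10.irrCoeff_spec (tildeFun_gen χ) ψ.2

/-- Symmetry of `[χ̃, ψ]`. -/
theorem tildeFun_symm [Fact p.Prime] (χ ψ : IrrCharacter G) :
    classInner (tildeFun p (χ : G → ℂ)) (ψ : G → ℂ)
      = classInner (tildeFun p (ψ : G → ℂ)) (χ : G → ℂ) := by
  have h1 : classInner (tildeFun p (χ : G → ℂ)) (ψ : G → ℂ)
      = conj (classInner (tildeFun p (ψ : G → ℂ)) (χ : G → ℂ)) := by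
    unfold classInner
    rw [map_mul, map_sum, map_inv₀, Complex.conj_natCast]
    congr 1
    refine Finset.sum_congr rfl fun x _ => ?_
    rw [map_mul, Complex.conj_conj]
    unfold tildeFun
    split_ifs
    · simp
    · rw [map_mul, Complex.conj_natCast]
      ring
  rw [h1, tildeFun_inner ψ χ, map_intCast]

end Tilde

section Average

theorem isIntegral_intCast_complex (m : ℤ) : IsIntegral ℤ (m : ℂ) := by
  simpa using (isIntegral_algebraMap (R := ℤ) (A := ℂ) (x := m))

/-- The average over a subgroup of an irreducible character translated by a central element is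
an algebraic integer. -/
theorem isIntegral_avg_central {K : Type*} [Group K] [Fintype K] (k : K)
    (hk : k ∈ Subgroup.center K) (P : Subgroup K) [Fintype P] (η : IrrCharacter K) :
    IsIntegral ℤ ((Nat.card P : ℂ)⁻¹ * ∑ u : P, (η : K → ℂ) ((u : K) * k)) := by
  obtain ⟨c, hc1, hc2⟩ := Helper24.char_central_mul η.2 k hk
  have hpow : ∀ j : ℕ, (η : K → ℂ) (k ^ j) = c ^ j * (η : K → ℂ) 1 := by
    intro j
    induction j with
    | zero => simp
    | succ j ih =>
      rw [pow_succ, hc1, ih, pow_succ]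
      ring
  have hcN : c ^ orderOf k = 1 := by
    have h1 := hpow (orderOf k)
    rw [pow_orderOf_eq_one] at h1
    have h2 := Helper24.irr_one_ne_zero η.2
    have h3 : (c ^ orderOf k - 1) * (η : K → ℂ) 1 = 0 := by
      rw [sub_mul, one_mul, ← h1, sub_self]
    rcases mul_eq_zero.1 h3 with h | h
    · exact sub_eq_zero.1 h
    · exact absurd h h2
  have hcint : IsIntegral ℤ c := by
    apply IsIntegral.of_pow (orderOf_pos k)
    rw [hcN]
    exact isIntegral_one
  have hres : IsGeneralizedCharacter P (fun u : P => (η : K → ℂ) u) :=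
    Cfsg.Agent.Helper10.isGeneralizedCharacter_of_char
      (Helper24.isCharacter_restrict P (Helper24.isCharacter_of_irr η.2))
  obtain ⟨m, hm⟩ := Cfsg.Agent.Helper10.gen_inner_int hres
    (Cfsg.Agent.Helper10.isGeneralizedCharacter_of_irr (oneIrr P).2)
  have h1 : ∑ u : P, (η : K → ℂ) ((u : K) * k) = c * ∑ u : P, (η : K → ℂ) u := by
    rw [Finset.mul_sum]
    exact Finset.sum_congr rfl fun u _ => hc1 _
  have h2 : classInner (fun u : P => (η : K → ℂ) u) (oneIrr P : P → ℂ)
      = (Nat.card P : ℂ)⁻¹ * ∑ u : P, (η : K → ℂ) u := by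
    unfold classInner
    congr 1
    refine Finset.sum_congr rfl fun u _ => ?_
    rw [oneIrr_apply, map_one, mul_one]
  have e : (Nat.card P : ℂ)⁻¹ * ∑ u : P, (η : K → ℂ) ((u : K) * k) = c * (m : ℂ) := by
    rw [h1, ← hm, h2]
    ring
  rw [e]
  exact IsIntegral.mul hcint (isIntegral_intCast_complex m)

variable {G : Type*} [Group G] [Fintype G]

/-- The average over a subgroup `P` of the centralizer of `k` of `u ↦ θ (u k)`, for a generalized
character `θ`, is an algebraic integer. -/
theorem isIntegral_avg_centralizer (k : G) [Fintype (Subgroup.centralizer ({k} : Set G))]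
    (P : Subgroup (Subgroup.centralizer ({k} : Set G))) [Fintype P] (θ : G → ℂ)
    (hθ : IsGeneralizedCharacter G θ) :
    IsIntegral ℤ ((Nat.card P : ℂ)⁻¹
      * ∑ u : P, θ (((u : Subgroup.centralizer ({k} : Set G)) : G) * k)) := by
  classical
  have := Helper24.finite_irrCharacter (G := Subgroup.centralizer ({k} : Set G))
  have : Fintype (IrrCharacter (Subgroup.centralizer ({k} : Set G))) := Fintype.ofFinite _
  have hres : IsGeneralizedCharacter (Subgroup.centralizer ({k} : Set G))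
      (fun c : Subgroup.centralizer ({k} : Set G) => θ c) := by
    obtain ⟨χ₁, χ₂, h1, h2, rfl⟩ := hθ
    exact ⟨fun c : Subgroup.centralizer ({k} : Set G) => χ₁ c,
      fun c : Subgroup.centralizer ({k} : Set G) => χ₂ c,
      Helper24.isCharacter_restrict _ h1, Helper24.isCharacter_restrict _ h2, rfl⟩
  have hexp := Cfsg.Agent.Helper10.gen_expansion hres
  have hkC : k ∈ Subgroup.centralizer ({k} : Set G) := by
    rw [Subgroup.mem_centralizer_iff]
    intro t ht
    rw [Set.mem_singleton_iff] at ht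
    rw [ht]
  have hkZ : (⟨k, hkC⟩ : Subgroup.centralizer ({k} : Set G))
      ∈ Subgroup.center (Subgroup.centralizer ({k} : Set G)) := by
    rw [Subgroup.mem_center_iff]
    intro c
    apply Subtype.ext
    exact (Subgroup.mem_centralizer_iff.mp c.2 k (Set.mem_singleton k)).symm
  have hval : ∀ u : P, θ (((u : Subgroup.centralizer ({k} : Set G)) : G) * k)
      = ∑ η : IrrCharacter (Subgroup.centralizer ({k} : Set G)),
        (Cfsg.Agent.Helper10.irrCoeff (fun c : Subgroup.centralizer ({k} : Set G) => θ c)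
          (η : Subgroup.centralizer ({k} : Set G) → ℂ) : ℂ)
          * (η : Subgroup.centralizer ({k} : Set G) → ℂ)
            ((u : Subgroup.centralizer ({k} : Set G)) * ⟨k, hkC⟩) := by
    intro u
    have h1 := congrFun hexp ((u : Subgroup.centralizer ({k} : Set G)) * ⟨k, hkC⟩)
    rw [Finset.sum_apply] at h1
    simpa using h1
  rw [Finset.sum_congr rfl fun u _ => hval u, Finset.sum_comm, Finset.mul_sum]
  refine IsIntegral.sum _ fun η _ => ?_
  rw [← Finset.mul_sum, ← mul_assoc, mul_comm _ (Cfsg.Agent.Helper10.irrCoeff _ _ : ℂ),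
    mul_assoc]
  exact IsIntegral.mul (isIntegral_intCast_complex _)
    (isIntegral_avg_central (⟨k, hkC⟩ : Subgroup.centralizer ({k} : Set G)) hkZ P η)

end Average

section Key

variable {G : Type*} [Group G] [Fintype G] {M : Ideal AlgInt} {p : ℕ}

/-- A defect class consists of `p`-regular elements. -/
theorem defectClass_pRegular (hpM : IsPModular p M) {B : Set (IrrCharacter G)}
    (hB : IsPBlock M B) (k : G) (hk : IsDefectClass M B k) : ¬ p ∣ orderOf k := by
  intro h
  apply hk.2.1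
  rw [osima hpM hB k h]
  exact MemLocalIdeal.zero hpM.2.1.isPrime.ne_top

/-- The `p`-part of the size of a defect class is the `p`-part of the degree of a height-zero
character. -/
theorem defectClass_idx_val [Fact p.Prime] (hpM : IsPModular p M) {B : Set (IrrCharacter G)}
    (hB : IsPBlock M B) (χ : IrrCharacter G) (hχ : χ ∈ B)
    (h0 : blockHeight p B (χ : G → ℂ) = 0) (k : G) (hk : IsDefectClass M B k) :
    (Subgroup.centralizer ({k} : Set G)).index.factorization p
      = (charDegree (χ : G → ℂ)).factorization p := by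
  refine le_antisymm (idx_le_degree_of_centralChar hpM χ k (hk.2.2 χ hχ)) ?_
  obtain ⟨χ', hχ', hle⟩ := exists_degree_le_idx_of_coeff hpM hB k hk.2.1
  have h1 : (charDegree (χ : G → ℂ)).factorization p
      ≤ sInf ((fun ψ : IrrCharacter G => (charDegree (ψ : G → ℂ)).factorization p) '' B) := by
    unfold blockHeight at h0
    exact Nat.sub_eq_zero_iff_le.1 h0
  have h2 : sInf ((fun ψ : IrrCharacter G => (charDegree (ψ : G → ℂ)).factorization p) '' B)
      ≤ (charDegree (χ' : G → ℂ)).factorization p :=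
    Nat.sInf_le ⟨χ', hχ', rfl⟩
  exact (h1.trans h2).trans hle

/-- For a height-zero character `χ` of a block, some coefficient of `χ̃` is not divisible by
`p` times the `p`-part of `χ 1`. -/
theorem height_zero_tilde_not_dvd [Fact p.Prime] (hpM : IsPModular p M)
    {B : Set (IrrCharacter G)} (hB : IsPBlock M B) (χ : IrrCharacter G) (hχ : χ ∈ B)
    (h0 : blockHeight p B (χ : G → ℂ) = 0) :
    ∃ ψ : IrrCharacter G, ¬ ((p : ℤ) ^ ((charDegree (χ : G → ℂ)).factorization p + 1)
      ∣ Cfsg.Agent.Helper10.irrCoeff (tildeFun p (χ : G → ℂ)) (ψ : G → ℂ)) := by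
  classical
  have hM := hpM.2.1.isPrime
  have hp := hpM.1
  have hp0 : (p : ℂ) ≠ 0 := by exact_mod_cast hp.ne_zero
  have := Helper24.finite_irrCharacter (G := G)
  have : Fintype (IrrCharacter G) := Fintype.ofFinite _
  by_contra hall
  push Not at hall
  choose q hq using hall
  obtain ⟨k, hk⟩ := exists_defectClass hM hB
  have hkreg := defectClass_pRegular hpM hB k hk
  have hidx := defectClass_idx_val hpM hB χ hχ h0 k hk
  obtain ⟨e, he⟩ : ∃ e, e = (charDegree (χ : G → ℂ)).factorization p := ⟨_, rfl⟩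
  rw [← he] at hq hidx
  obtain ⟨θ, hθdef⟩ : ∃ θ : G → ℂ,
      θ = ∑ ψ : IrrCharacter G, (q ψ) • (ψ : G → ℂ) := ⟨_, rfl⟩
  have hθ : IsGeneralizedCharacter G θ := by
    rw [hθdef]
    exact Cfsg.Agent.Helper10.IsGeneralizedCharacter.sum _ _ fun ψ _ =>
      Cfsg.Agent.Helper10.IsGeneralizedCharacter.zsmul _
        (Cfsg.Agent.Helper10.isGeneralizedCharacter_of_irr ψ.2)
  have hexp : ∀ x : G, tildeFun p (χ : G → ℂ) x = (p : ℂ) ^ (e + 1) * θ x := by
    intro x
    have h1 := congrFun (Cfsg.Agent.Helper10.gen_expansion (tildeFun_gen (p := p) χ)) x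
    rw [Finset.sum_apply] at h1
    rw [h1, hθdef, Finset.sum_apply, Finset.mul_sum]
    refine Finset.sum_congr rfl fun ψ _ => ?_
    rw [hq ψ]
    simp only [Pi.smul_apply, smul_eq_mul, zsmul_eq_mul, Int.cast_mul, Int.cast_pow,
      Int.cast_natCast]
    ring
  let _ : Fintype (Subgroup.centralizer ({k} : Set G)) := Fintype.ofFinite _
  obtain ⟨P⟩ := (inferInstance : Nonempty (Sylow p (Subgroup.centralizer ({k} : Set G))))
  let _ : Fintype (P : Subgroup (Subgroup.centralizer ({k} : Set G))) := Fintype.ofFinite _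
  have hint := isIntegral_avg_centralizer k (P : Subgroup (Subgroup.centralizer ({k} : Set G)))
    θ hθ
  have hzero : ∀ u : (P : Subgroup (Subgroup.centralizer ({k} : Set G))), u ≠ 1 →
      θ (((u : Subgroup.centralizer ({k} : Set G)) : G) * k) = 0 := by
    intro u hu
    obtain ⟨j, hj⟩ := (IsPGroup.iff_orderOf.mp P.isPGroup') u
    have hj0 : j ≠ 0 := by
      intro h
      rw [h, pow_zero, orderOf_eq_one_iff] at hj
      exact hu hj
    have ho : orderOf (((u : Subgroup.centralizer ({k} : Set G)) : G)) = p ^ j := by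
      rw [Subgroup.orderOf_coe, Subgroup.orderOf_coe, hj]
    have hcomm : Commute (((u : Subgroup.centralizer ({k} : Set G)) : G)) k :=
      (Subgroup.mem_centralizer_iff.mp (u : Subgroup.centralizer ({k} : Set G)).2 k
        (Set.mem_singleton k)).symm
    have hcop : (orderOf (((u : Subgroup.centralizer ({k} : Set G)) : G))).Coprime (orderOf k) := by
      rw [ho]
      exact Nat.Coprime.pow_left j ((Nat.Prime.coprime_iff_not_dvd hp).mpr hkreg)
    have hord := hcomm.orderOf_mul_eq_mul_orderOf_of_coprime hcop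
    have hdvd : p ∣ orderOf ((((u : Subgroup.centralizer ({k} : Set G)) : G)) * k) := by
      rw [hord, ho]
      exact Dvd.dvd.mul_right (dvd_pow_self p hj0) _
    have h1 := hexp ((((u : Subgroup.centralizer ({k} : Set G)) : G)) * k)
    unfold tildeFun at h1
    rw [if_pos hdvd] at h1
    rcases mul_eq_zero.1 h1.symm with h | h
    · exact absurd h (pow_ne_zero _ hp0)
    · exact h
  have hsum : ∑ u : (P : Subgroup (Subgroup.centralizer ({k} : Set G))),
      θ (((u : Subgroup.centralizer ({k} : Set G)) : G) * k) = θ k := by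
    rw [Finset.sum_eq_single (1 : (P : Subgroup (Subgroup.centralizer ({k} : Set G))))]
    · simp
    · intro u _ hu
      exact hzero u hu
    · intro h
      exact absurd (Finset.mem_univ _) h
  rw [hsum] at hint
  have hk1 := hexp k
  unfold tildeFun at hk1
  rw [if_neg hkreg] at hk1
  have hcard : Nat.card (P : Subgroup (Subgroup.centralizer ({k} : Set G)))
      = p ^ (Nat.card (Subgroup.centralizer ({k} : Set G))).factorization p :=
    Sylow.card_eq_multiplicity P
  have hfac : (Nat.card G).factorization p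
      = (Nat.card (Subgroup.centralizer ({k} : Set G))).factorization p + e := by
    rw [← hidx, ← Subgroup.card_mul_index (Subgroup.centralizer ({k} : Set G)),
      Nat.factorization_mul Nat.card_pos.ne' Subgroup.index_ne_zero_of_finite]
    rfl
  obtain ⟨c, hc⟩ : ∃ c, c = (Nat.card (Subgroup.centralizer ({k} : Set G))).factorization p :=
    ⟨_, rfl⟩
  rw [← hc] at hcard hfac
  rw [hcard] at hint
  rw [hfac] at hk1
  have hval : (χ : G → ℂ) k = (p : ℂ) * (((p ^ c : ℕ) : ℂ)⁻¹ * θ k) := by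
    have hpc : (p : ℂ) ^ c ≠ 0 := pow_ne_zero _ hp0
    have hpe : (p : ℂ) ^ e ≠ 0 := pow_ne_zero _ hp0
    push_cast at hk1 ⊢
    have h2 : (p : ℂ) ^ e * ((p : ℂ) ^ c * (χ : G → ℂ) k) = (p : ℂ) ^ e * ((p : ℂ) * θ k) := by
      rw [← mul_assoc, ← pow_add, add_comm e c, hk1]
      ring
    have h3 := mul_left_cancel₀ hpe h2
    field_simp
    rw [mul_comm]
    exact h3
  apply height_zero_not_mem hpM hB χ hχ h0 k hk
  rw [hval]
  exact MemLocalIdeal.mul_right hM ((memLocalIdeal_natCast_iff hpM p).2 dvd_rfl)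
    (memLocalRing_of_isIntegral hM.ne_top hint)

end Key

section Ratio

variable {G : Type*} [Group G] [Fintype G] {M : Ideal AlgInt} {p : ℕ}

/-- `[χ̃, ψ] = 0` when `χ` and `ψ` lie in different blocks. -/
theorem classInner_tildeFun_eq_zero (hpM : IsPModular p M) (χ ψ : IrrCharacter G)
    (hns : ¬ SameBlock M (χ : G → ℂ) (ψ : G → ℂ)) :
    classInner (tildeFun p (χ : G → ℂ)) (ψ : G → ℂ) = 0 := by
  classical
  have hw := weak_block_orthogonality hpM χ ψ hns
  rw [finsum_mem_eq_sum_ite] at hw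
  unfold classInner
  have h3 : ∑ x : G, tildeFun p (χ : G → ℂ) x * (starRingEnd ℂ) ((ψ : G → ℂ) x)
      = ((p ^ (Nat.card G).factorization p : ℕ) : ℂ)
        * ∑ x : G, if x ∈ {x : G | ¬ p ∣ orderOf x} then
          (χ : G → ℂ) x * (starRingEnd ℂ) ((ψ : G → ℂ) x) else 0 := by
    rw [Finset.mul_sum]
    refine Finset.sum_congr rfl fun x _ => ?_
    unfold tildeFun
    by_cases hx : p ∣ orderOf x
    · rw [if_pos hx, if_neg (show ¬ x ∈ {x : G | ¬ p ∣ orderOf x} from fun h => h hx)]
      ring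
    · rw [if_neg hx, if_pos (show x ∈ {x : G | ¬ p ∣ orderOf x} from hx)]
      ring
  rw [h3, hw, mul_zero, mul_zero]

theorem sameBlock_of_mem_block (hM : M.IsPrime) {B : Set (IrrCharacter G)} (hB : IsPBlock M B)
    {ψ ξ : IrrCharacter G} (hψ : ψ ∈ B) (hξ : ξ ∈ B) :
    SameBlock M (ψ : G → ℂ) (ξ : G → ℂ) := by
  obtain ⟨χ₁, hχ₁⟩ := id hB
  rw [hχ₁] at hψ hξ
  exact sameBlock_trans hM (sameBlock_symm hψ) hξ

theorem mem_block_of_sameBlock (hM : M.IsPrime) {B : Set (IrrCharacter G)} (hB : IsPBlock M B)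
    {ψ ξ : IrrCharacter G} (hψ : ψ ∈ B) (h : SameBlock M (ψ : G → ℂ) (ξ : G → ℂ)) : ξ ∈ B := by
  obtain ⟨χ₁, hχ₁⟩ := id hB
  rw [hχ₁] at hψ ⊢
  exact sameBlock_trans hM hψ h

theorem tildeRatio_eq [Fact p.Prime] (χ ψ : IrrCharacter G) :
    classInner (tildeFun p (χ : G → ℂ)) (ψ : G → ℂ) / (ψ : G → ℂ) 1
      = (Cfsg.Agent.Helper10.irrCoeff (tildeFun p (χ : G → ℂ)) (ψ : G → ℂ) : ℂ)
        / (charDegree (ψ : G → ℂ) : ℂ) := by
  rw [tildeFun_inner, Helper24.charDegree_spec (Helper24.isCharacter_of_irr ψ.2)]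

theorem charDegree_irr_ne_zero (ψ : IrrCharacter G) : charDegree (ψ : G → ℂ) ≠ 0 := by
  intro h
  have h4 := Helper24.irr_one_ne_zero ψ.2
  apply h4
  rw [Helper24.charDegree_spec (Helper24.isCharacter_of_irr ψ.2), h]
  simp

theorem height_zero_le_of_mem {B : Set (IrrCharacter G)} (χ ψ : IrrCharacter G) (hψ : ψ ∈ B)
    (h0 : blockHeight p B (χ : G → ℂ) = 0) :
    (charDegree (χ : G → ℂ)).factorization p ≤ (charDegree (ψ : G → ℂ)).factorization p := by
  have h1 : (charDegree (χ : G → ℂ)).factorization p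
      ≤ sInf ((fun ψ : IrrCharacter G => (charDegree (ψ : G → ℂ)).factorization p) '' B) := by
    unfold blockHeight at h0
    exact Nat.sub_eq_zero_iff_le.1 h0
  have h2 : sInf ((fun ψ : IrrCharacter G => (charDegree (ψ : G → ℂ)).factorization p) '' B)
      ≤ (charDegree (ψ : G → ℂ)).factorization p :=
    Nat.sInf_le ⟨ψ, hψ, rfl⟩
  exact h1.trans h2

/-- For a height-zero character `χ` of the block `B` the ratio `[χ̃, ξ] / ξ 1` is a unit for
every `ξ ∈ B`. -/
theorem height_zero_ratio_not_mem [Fact p.Prime] (hpM : IsPModular p M)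
    {B : Set (IrrCharacter G)} (hB : IsPBlock M B) (χ : IrrCharacter G) (hχ : χ ∈ B)
    (h0 : blockHeight p B (χ : G → ℂ) = 0) (ξ : IrrCharacter G) (hξ : ξ ∈ B) :
    ¬ MemLocalIdeal M (classInner (tildeFun p (χ : G → ℂ)) (ξ : G → ℂ) / (ξ : G → ℂ) 1) := by
  have hM := hpM.2.1.isPrime
  have hp := hpM.1
  obtain ⟨ψ, hψ⟩ := height_zero_tilde_not_dvd hpM hB χ hχ h0
  have hn0 : Cfsg.Agent.Helper10.irrCoeff (tildeFun p (χ : G → ℂ)) (ψ : G → ℂ) ≠ 0 := by
    intro h
    apply hψ
    rw [h]
    exact dvd_zero _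
  have hv : padicValInt p (Cfsg.Agent.Helper10.irrCoeff (tildeFun p (χ : G → ℂ)) (ψ : G → ℂ))
      ≤ (charDegree (χ : G → ℂ)).factorization p := by
    by_contra hlt
    push Not at hlt
    apply hψ
    rw [padicValInt_dvd_iff]
    right
    exact hlt
  have hψB : ψ ∈ B := by
    by_contra hψB
    have hns : ¬ SameBlock M (χ : G → ℂ) (ψ : G → ℂ) :=
      fun hs => hψB (mem_block_of_sameBlock hM hB hχ hs)
    have h1 := classInner_tildeFun_eq_zero hpM χ ψ hns
    rw [tildeFun_inner] at h1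
    apply hn0
    exact_mod_cast h1
  have hR := tildeRatio_memLocalRing hpM χ ψ
  rw [tildeRatio_eq] at hR
  have hle := int_ratio_val_le hpM _ hn0 _ (charDegree_irr_ne_zero ψ) hR
  have hle2 := height_zero_le_of_mem χ ψ hψB h0
  have hunit : ¬ MemLocalIdeal M (classInner (tildeFun p (χ : G → ℂ)) (ψ : G → ℂ)
      / (ψ : G → ℂ) 1) := by
    rw [tildeRatio_eq]
    rw [int_ratio_val hpM _ _ (charDegree_irr_ne_zero ψ) hR]
    exact ⟨hn0, le_antisymm (hv.trans hle2) hle⟩
  intro hmem
  apply hunit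
  have hsub := tildeRatio_sub_mem hpM χ (sameBlock_of_mem_block hM hB hψB hξ)
  have h2 := MemLocalIdeal.add hM hsub hmem
  rw [sub_add_cancel] at h2
  exact h2

/-- If the ratio `[χ̃, ξ] / ξ 1` is a unit for some `ξ` in the block `B` of `χ`, then `χ` has
height zero. -/
theorem height_zero_of_ratio_not_mem [Fact p.Prime] (hpM : IsPModular p M)
    {B : Set (IrrCharacter G)} (hB : IsPBlock M B) (χ : IrrCharacter G) (hχ : χ ∈ B)
    (ξ : IrrCharacter G) (hξ : ξ ∈ B)
    (hu : ¬ MemLocalIdeal M (classInner (tildeFun p (χ : G → ℂ)) (ξ : G → ℂ) / (ξ : G → ℂ) 1)) :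
    blockHeight p B (χ : G → ℂ) = 0 := by
  have hM := hpM.2.1.isPrime
  have hp := hpM.1
  obtain ⟨ψ, hψB, hψ0⟩ := exists_height_zero p (B := B) ⟨χ, hχ⟩
  have hu' : ¬ MemLocalIdeal M (classInner (tildeFun p (χ : G → ℂ)) (ψ : G → ℂ)
      / (ψ : G → ℂ) 1) := by
    intro hmem
    apply hu
    have hsub := tildeRatio_sub_mem hpM χ (sameBlock_of_mem_block hM hB hξ hψB)
    have h2 := MemLocalIdeal.add hM hsub hmem
    rw [sub_add_cancel] at h2
    exact h2
  have hR := tildeRatio_memLocalRing hpM χ ψ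
  rw [tildeRatio_eq] at hR hu'
  rw [int_ratio_val hpM _ _ (charDegree_irr_ne_zero ψ) hR] at hu'
  obtain ⟨hn0, hval⟩ := hu'
  have hR2 := tildeRatio_memLocalRing hpM ψ χ
  rw [tildeFun_symm ψ χ, tildeFun_inner,
    Helper24.charDegree_spec (Helper24.isCharacter_of_irr χ.2)] at hR2
  have hle := int_ratio_val_le hpM _ hn0 _ (charDegree_irr_ne_zero χ) hR2
  rw [hval] at hle
  have h3 : (charDegree (ψ : G → ℂ)).factorization p
      = sInf ((fun ψ : IrrCharacter G => (charDegree (ψ : G → ℂ)).factorization p) '' B) := by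
    refine le_antisymm ?_ (Nat.sInf_le ⟨ψ, hψB, rfl⟩)
    unfold blockHeight at hψ0
    exact Nat.sub_eq_zero_iff_le.1 hψ0
  unfold blockHeight
  rw [← h3]
  exact Nat.sub_eq_zero_iff_le.2 hle

/-- Height zero in terms of the `p`-adic valuation of `[χ̃, ξ]`. -/
theorem height_zero_iff_val [Fact p.Prime] (hpM : IsPModular p M)
    {B : Set (IrrCharacter G)} (hB : IsPBlock M B) (χ : IrrCharacter G) (hχ : χ ∈ B)
    (ξ : IrrCharacter G) (hξ : ξ ∈ B) :
    blockHeight p B (χ : G → ℂ) = 0 ↔ ∃ n : ℤ,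
      classInner (tildeFun p (χ : G → ℂ)) (ξ : G → ℂ) = (n : ℂ) ∧ n ≠ 0
        ∧ padicValInt p n = (charDegree (ξ : G → ℂ)).factorization p := by
  have hR := tildeRatio_memLocalRing hpM χ ξ
  rw [tildeRatio_eq] at hR
  constructor
  · intro h0
    have h1 := height_zero_ratio_not_mem hpM hB χ hχ h0 ξ hξ
    rw [tildeRatio_eq, int_ratio_val hpM _ _ (charDegree_irr_ne_zero ξ) hR] at h1
    exact ⟨_, tildeFun_inner χ ξ, h1.1, h1.2⟩
  · rintro ⟨n, hn, hn0, hv⟩
    apply height_zero_of_ratio_not_mem hpM hB χ hχ ξ hξ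
    have e : Cfsg.Agent.Helper10.irrCoeff (tildeFun p (χ : G → ℂ)) (ξ : G → ℂ) = n := by
      have h1 := tildeFun_inner (p := p) χ ξ
      rw [hn] at h1
      exact_mod_cast h1.symm
    rw [tildeRatio_eq, int_ratio_val hpM _ _ (charDegree_irr_ne_zero ξ) hR, e]
    exact ⟨hn0, hv⟩

end Ratio

end Cfsg.Agent.Helper25
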