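import Cfsg.Agent.Helper25.CentralPPart
import Cfsg.Agent.Helper25.BlockQuot
import Cfsg.Agent.Helper25.BlockPPrime
import Cfsg.Agent.Helper25.BlockOrth2
import Cfsg.Agent.Helper25.HeightZero2
import Cfsg.Agent.Helper25.FirstMain1
import Cfsg.Agent.Helper24.Schur
import Cfsg.Agent.Helper2.CharOrtho

set_option autoImplicit false
set_option linter.unusedSectionVars false

/-!
# Blocks with a central defect group (helper25)
-/

namespace Cfsg.Agent.Helper25

open Cfsg
open scoped ComplexConjugate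

section Canon

variable {G : Type*} [Group G] [Fintype G] [Fintype (IrrCharacter G)] {M : Ideal AlgInt} {p : ℕ}

theorem degree_ge_of_mem_block [Fact p.Prime] (hpM : IsPModular p M) {B : Set (IrrCharacter G)}
    (hB : IsPBlock M B) (P : Subgroup G) (hD : IsDefectGroup p M B P) (χ : IrrCharacter G)
    (hχ : χ ∈ B) : P.index.factorization p ≤ (charDegree (χ : G → ℂ)).factorization p := by
  have hp : p.Prime := Fact.out
  have hcard := card_defectGroup hpM hB P hD
  have hmul : Nat.card P * P.index = Nat.card G := Subgroup.card_mul_index P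
  have ha : (Nat.card G).factorization p = blockDefect p B + P.index.factorization p := by
    rw [← hmul, Nat.factorization_mul Nat.card_pos.ne' Subgroup.index_ne_zero_of_finite,
      Finsupp.add_apply, hcard, hp.factorization_pow, Finsupp.single_eq_same]
  have hsInf : sInf ((fun ψ : IrrCharacter G => (charDegree (ψ : G → ℂ)).factorization p) '' B)
      ≤ (charDegree (χ : G → ℂ)).factorization p := Nat.sInf_le ⟨χ, hχ, rfl⟩
  have hd := blockDefect_eq_sub (p := p) B
  omega

/-- The canonical character of a block whose defect group is normal with centralizer of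
`p`-power index. -/
theorem exists_canonical_char [Fact p.Prime] (hpM : IsPModular p M) (P : Subgroup G)
    [hPn : P.Normal] (hP : IsPGroup p P)
    (hC : ∃ k : ℕ, (Subgroup.centralizer (P : Set G)).index = p ^ k)
    (B : Set (IrrCharacter G)) (hB : IsPBlock M B) (hD : IsDefectGroup p M B P) :
    ∃ θ ∈ B, (∀ x ∈ P, (θ : G → ℂ) x = (θ : G → ℂ) 1) ∧
      (∀ θ' ∈ B, (∀ x ∈ P, (θ' : G → ℂ) x = (θ' : G → ℂ) 1) →
        θ' = θ ∧ (charDegree (θ' : G → ℂ)).factorization p = P.index.factorization p) := by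
  classical
  have hM := hpM.2.1.isPrime
  have hp : p.Prime := Fact.out
  have : Fintype (G ⧸ P) := Fintype.ofFinite _
  obtain ⟨θ, hθ, hker⟩ := exists_mem_block_ker hpM P hP hB
  have key : ∀ χ ∈ B, (∀ x ∈ P, (χ : G → ℂ) x = (χ : G → ℂ) 1) →
      (charDegree (χ : G → ℂ)).factorization p = P.index.factorization p ∧
      ∃ β' : IrrCharacter (G ⧸ P),
        (χ : G → ℂ) = (β' : G ⧸ P → ℂ) ∘ (QuotientGroup.mk : G → G ⧸ P) ∧
        blockOf M (β' : G ⧸ P → ℂ) = {β'} := by
    intro χ hχ hk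
    obtain ⟨β', hβ'⟩ := exists_deflation_of_ker P χ hk
    have hdeg : charDegree (χ : G → ℂ) = charDegree (β' : G ⧸ P → ℂ) := by
      unfold charDegree
      rw [hβ']
      rfl
    have hdvd : charDegree (β' : G ⧸ P → ℂ) ∣ Nat.card (G ⧸ P) := Helper2.irr_degree_dvd_card β'.2
    have hidx : Nat.card (G ⧸ P) = P.index := rfl
    have hge := degree_ge_of_mem_block hpM hB P hD χ hχ
    have hi0 : P.index ≠ 0 := Subgroup.index_ne_zero_of_finite
    have hd0 : charDegree (β' : G ⧸ P → ℂ) ≠ 0 := charDegree_irr_ne_zero β'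
    rw [hidx] at hdvd
    have hle : (charDegree (β' : G ⧸ P → ℂ)).factorization p ≤ P.index.factorization p :=
      ((Nat.factorization_le_iff_dvd hd0 hi0).2 hdvd) p
    rw [hdeg] at hge ⊢
    have heq := le_antisymm hle hge
    refine ⟨heq, β', hβ', ?_⟩
    rw [← defect_zero_iff hpM β', hidx]
    intro hpd
    have hq0 : P.index / charDegree (β' : G ⧸ P → ℂ) ≠ 0 := by
      intro h0
      obtain ⟨c, hc⟩ := hdvd
      rw [hc, Nat.mul_div_cancel_left _ (Nat.pos_of_ne_zero hd0)] at h0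
      rw [h0, mul_zero] at hc
      exact hi0 hc
    have h1 : (P.index / charDegree (β' : G ⧸ P → ℂ)).factorization p = 0 := by
      rw [Nat.factorization_div hdvd, Finsupp.tsub_apply, heq, Nat.sub_self]
    have h2 := hp.factorization_pos_of_dvd hq0 hpd
    omega
  refine ⟨θ, hθ, hker, ?_⟩
  intro θ' hθ' hker'
  obtain ⟨hd', β₁, hβ₁, _⟩ := key θ' hθ' hker'
  obtain ⟨_, β₀, hβ₀, hblock⟩ := key θ hθ hker
  refine ⟨?_, hd'⟩
  have hs : SameBlock M (θ : G → ℂ) (θ' : G → ℂ) := sameBlock_of_mem_block hM hB hθ hθ'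
  rw [hβ₀, hβ₁] at hs
  have hs' := sameBlock_deflate hpM P hP hC β₀ β₁ hs
  have hmem : β₁ ∈ blockOf M (β₀ : G ⧸ P → ℂ) := mem_blockOf.2 hs'
  rw [hblock, Set.mem_singleton_iff] at hmem
  apply Subtype.ext
  rw [hβ₁, hβ₀, hmem]

open Classical in
/-- The sum of an irreducible character over a normal subgroup. -/
theorem sum_normal_subgroup_char (P : Subgroup G) [hPn : P.Normal] [Fintype P]
    (χ : IrrCharacter G) :
    ∑ z : P, (χ : G → ℂ) z = if (∀ x ∈ P, (χ : G → ℂ) x = (χ : G → ℂ) 1)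
      then (Nat.card P : ℂ) * (χ : G → ℂ) 1 else 0 := by
  by_cases h : ∀ x ∈ P, (χ : G → ℂ) x = (χ : G → ℂ) 1
  · rw [if_pos h, Finset.sum_congr rfl (fun (z : P) _ => h (z : G) z.2), Finset.sum_const, Finset.card_univ,
      nsmul_eq_mul, Nat.card_eq_fintype_card]
  · rw [if_neg h]
    have h1 : classInner (fun n : P => (χ : G → ℂ) n) (oneIrr P : P → ℂ) = 0 := by
      by_contra hne
      exact h ((over_one_iff P χ).1 hne)
    unfold classInner at h1
    have hNc : (Nat.card P : ℂ) ≠ 0 := Nat.cast_ne_zero.2 Nat.card_pos.ne'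
    rcases mul_eq_zero.1 h1 with h2 | h2
    · exact absurd (inv_eq_zero.1 h2) hNc
    · rw [← h2]
      refine Finset.sum_congr rfl fun z _ => ?_
      rw [oneIrr_apply, map_one, mul_one]

end Canon

section Dim

variable {G : Type*} [Group G] [Fintype G] [Fintype (IrrCharacter G)] {M : Ideal AlgInt} {p : ℕ}

theorem blockCoeff_eq_sum (B : Set (IrrCharacter G)) [DecidablePred (· ∈ B)] (g : G) :
    blockCoeff B g = (Nat.card G : ℂ)⁻¹ * ∑ χ : IrrCharacter G,
      if χ ∈ B then (χ : G → ℂ) 1 * conj ((χ : G → ℂ) g) else 0 := by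
  unfold blockCoeff
  rw [finsum_mem_eq_sum_ite]

theorem pgroup_ne_one_dvd_orderOf [Fact p.Prime] {P : Subgroup G} (hP : IsPGroup p P) {z : G}
    (hz : z ∈ P) (h1 : z ≠ 1) : p ∣ orderOf z := by
  have hp : p.Prime := Fact.out
  obtain ⟨k, hk⟩ := hP ⟨z, hz⟩
  have hk' : z ^ p ^ k = 1 := congrArg Subtype.val hk
  obtain ⟨j, _, hj⟩ := (Nat.dvd_prime_pow hp).1 (orderOf_dvd_of_pow_eq_one hk')
  rw [hj]
  have hj0 : j ≠ 0 := by
    intro h0
    rw [h0, pow_zero, orderOf_eq_one_iff] at hj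
    exact h1 hj
  exact dvd_pow_self p hj0

/-- The dimension of a block with a canonical character for a normal `p`-subgroup. -/
theorem block_sum_sq_of_canonical [Fact p.Prime] (hpM : IsPModular p M) (P : Subgroup G)
    [hPn : P.Normal] (hP : IsPGroup p P) {B : Set (IrrCharacter G)} (hB : IsPBlock M B)
    (θ : IrrCharacter G) (hθ : θ ∈ B) (hker : ∀ x ∈ P, (θ : G → ℂ) x = (θ : G → ℂ) 1)
    (huniq : ∀ θ' ∈ B, (∀ x ∈ P, (θ' : G → ℂ) x = (θ' : G → ℂ) 1) → θ' = θ)
    [DecidablePred (· ∈ B)] :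
    ∑ χ : IrrCharacter G, (if χ ∈ B then (χ : G → ℂ) 1 * (χ : G → ℂ) 1 else 0)
      = (Nat.card P : ℂ) * ((θ : G → ℂ) 1 * (θ : G → ℂ) 1) := by
  classical
  have : Fintype P := Fintype.ofFinite P
  have hG0 : (Nat.card G : ℂ) ≠ 0 := Nat.cast_ne_zero.2 Nat.card_pos.ne'
  have h1 : ∑ z : P, blockCoeff B (z : G) = blockCoeff B 1 := by
    rw [Finset.sum_eq_single (1 : P)]
    · rfl
    · intro z _ hz1
      have hz1' : (z : G) ≠ 1 := fun h => hz1 (Subtype.ext h)
      exact osima hpM hB (z : G) (pgroup_ne_one_dvd_orderOf hP z.2 hz1')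
    · intro h
      exact absurd (Finset.mem_univ _) h
  have h2 : ∑ z : P, blockCoeff B (z : G) = (Nat.card G : ℂ)⁻¹ *
      ((Nat.card P : ℂ) * ((θ : G → ℂ) 1 * (θ : G → ℂ) 1)) := by
    have e : ∀ z : P, blockCoeff B (z : G) = (Nat.card G : ℂ)⁻¹ * ∑ χ : IrrCharacter G,
        if χ ∈ B then (χ : G → ℂ) 1 * conj ((χ : G → ℂ) z) else 0 := fun z => blockCoeff_eq_sum B _
    rw [Finset.sum_congr rfl (fun z _ => e z), ← Finset.mul_sum, Finset.sum_comm]
    congr 1
    have e2 : ∀ χ : IrrCharacter G, ∑ z : P, (if χ ∈ B then (χ : G → ℂ) 1 * conj ((χ : G → ℂ) z)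
        else 0) = if χ = θ then (Nat.card P : ℂ) * ((θ : G → ℂ) 1 * (θ : G → ℂ) 1) else 0 := by
      intro χ
      by_cases hχ : χ ∈ B
      · simp only [if_pos hχ]
        rw [← Finset.mul_sum, ← map_sum, sum_normal_subgroup_char P χ]
        by_cases hk : ∀ x ∈ P, (χ : G → ℂ) x = (χ : G → ℂ) 1
        · have hχθ := huniq χ hχ hk
          rw [if_pos hk, if_pos hχθ, hχθ, map_mul, irr_one_conj, Complex.conj_natCast]
          ring
        · have hne : χ ≠ θ := fun h => hk (h ▸ hker)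
          rw [if_neg hk, if_neg hne, map_zero, mul_zero]
      · have hne : χ ≠ θ := fun h => hχ (h ▸ hθ)
        simp only [if_neg hχ, Finset.sum_const_zero, if_neg hne]
    rw [Finset.sum_congr rfl (fun χ _ => e2 χ), Finset.sum_ite_eq' Finset.univ θ, if_pos (Finset.mem_univ _)]
  rw [h1, blockCoeff_eq_sum B 1] at h2
  have h3 := mul_left_cancel₀ (inv_ne_zero hG0) h2
  rw [← h3]
  refine Finset.sum_congr rfl fun χ _ => ?_
  split_ifs
  · rw [irr_one_conj]
  · rfl

end Dim

end Cfsg.Agent.Helper25
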