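import Cfsg.Agent.Helper25.BlockMinMax3
import Cfsg.Agent.Helper25.BlockOrth2
import Cfsg.Agent.Helper6.PRegular

set_option autoImplicit false
set_option linter.unusedSectionVars false

/-!
# Conjugacy of defect groups and height-zero characters on defect classes (helper25)
-/

namespace Cfsg.Agent.Helper25

open Cfsg
open scoped ComplexConjugate

section

variable {G : Type*} [Group G] [Fintype G] {M : Ideal AlgInt} {p : ℕ}

/-- A quotient of natural numbers whose denominator has the smaller `p`-part is a local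
integer. -/
theorem natCast_div_memLocalRing (hpM : IsPModular p M) {a b : ℕ} (hb : b ≠ 0)
    (h : b.factorization p ≤ a.factorization p) : MemLocalRing M ((a : ℂ) / (b : ℂ)) := by
  have hM := hpM.2.1.isPrime
  have hp := hpM.1
  have hp0 : (p : ℂ) ≠ 0 := by exact_mod_cast hp.ne_zero
  obtain ⟨α, hα⟩ : ∃ α, α = a.factorization p := ⟨_, rfl⟩
  obtain ⟨β, hβ⟩ : ∃ β, β = b.factorization p := ⟨_, rfl⟩
  rw [← hα, ← hβ] at h
  have ha' : p ^ α * (a / p ^ α) = a := by
    rw [hα]
    exact Nat.ordProj_mul_ordCompl_eq_self a p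
  have hb' : p ^ β * (b / p ^ β) = b := by
    rw [hβ]
    exact Nat.ordProj_mul_ordCompl_eq_self b p
  have hb'' : ¬ p ∣ b / p ^ β := by
    rw [hβ]
    exact Nat.not_dvd_ordCompl hp hb
  have hbu : ¬ MemLocalIdeal M ((b / p ^ β : ℕ) : ℂ) :=
    fun hh => hb'' ((memLocalIdeal_natCast_iff hpM _).1 hh)
  have hb0 : ((b / p ^ β : ℕ) : ℂ) ≠ 0 := ne_zero_of_not_memLocalIdeal hM.ne_top hbu
  have e : (a : ℂ) / (b : ℂ) = ((p : ℂ) ^ (α - β) * ((a / p ^ α : ℕ) : ℂ))
      * ((b / p ^ β : ℕ) : ℂ)⁻¹ := by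
    have h1 : (a : ℂ) = (p : ℂ) ^ α * ((a / p ^ α : ℕ) : ℂ) := by
      conv_lhs => rw [← ha']
      push_cast
      rfl
    have h2 : (b : ℂ) = (p : ℂ) ^ β * ((b / p ^ β : ℕ) : ℂ) := by
      conv_lhs => rw [← hb']
      push_cast
      rfl
    have h3 : (p : ℂ) ^ α = (p : ℂ) ^ β * (p : ℂ) ^ (α - β) := by
      rw [← pow_add]
      congr 1
      omega
    rw [h1, h2, h3]
    have hpb : (p : ℂ) ^ β ≠ 0 := pow_ne_zero _ hp0
    field_simp
  rw [e]
  exact MemLocalRing.mul hM (MemLocalRing.mul hM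
      (MemLocalRing.pow hM (memLocalRing_natCast hM.ne_top p) _)
      (memLocalRing_natCast hM.ne_top _))
      (MemLocalRing.inv (memLocalRing_natCast hM.ne_top _) hbu)

/-- Any two defect groups of a block are conjugate (one lies in a conjugate of the other). -/
theorem defectGroup_le_conj [Fact p.Prime] (hpM : IsPModular p M) {B : Set (IrrCharacter G)}
    (hB : IsPBlock M B) {D E : Subgroup G} (hD : IsDefectGroup p M B D)
    (hE : IsDefectGroup p M B E) :
    ∃ y : G, E ≤ D.map (MulAut.conj y).toMonoidHom := by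
  have hM := hpM.2.1.isPrime
  obtain ⟨g, hg, P, rfl⟩ := hD
  obtain ⟨h, hh, Q, rfl⟩ := hE
  obtain ⟨χ₀, hχ₀B⟩ : ∃ χ₀ : IrrCharacter G, χ₀ ∈ B := by
    obtain ⟨χ₁, hBeq⟩ := id hB
    exact ⟨χ₁, by rw [hBeq]; exact mem_blockOf_self hM.ne_top χ₁⟩
  have hQp : IsPGroup p ((Q : Subgroup (Subgroup.centralizer ({h} : Set G))).map
      (Subgroup.centralizer ({h} : Set G)).subtype) := Q.isPGroup'.map _
  have hQle : (Q : Subgroup (Subgroup.centralizer ({h} : Set G))).map
      (Subgroup.centralizer ({h} : Set G)).subtype ≤ Subgroup.centralizer ({h} : Set G) := by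
    rintro _ ⟨q, _, rfl⟩
    exact q.2
  obtain ⟨x, hx, hPx⟩ := minmax_core hpM hB χ₀ hχ₀B g (hg.2.2 χ₀ hχ₀B) h hh.2.1 _ hQp hQle
  exact exists_conj_le_of_centralizer g P _ hQp x hx hPx

/-- A height-zero character does not vanish modulo the ideal on a defect class. -/
theorem height_zero_not_mem [Fact p.Prime] (hpM : IsPModular p M) {B : Set (IrrCharacter G)}
    (hB : IsPBlock M B) (χ : IrrCharacter G) (hχ : χ ∈ B)
    (h0 : blockHeight p B (χ : G → ℂ) = 0) (k : G) (hk : IsDefectClass M B k) :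
    ¬ MemLocalIdeal M ((χ : G → ℂ) k) := by
  have hM := hpM.2.1.isPrime
  intro hmem
  apply hk.2.2 χ hχ
  obtain ⟨χ', hχ', hle⟩ := exists_degree_le_idx_of_coeff hpM hB k hk.2.1
  have h1 : (charDegree (χ : G → ℂ)).factorization p
      ≤ sInf ((fun ψ : IrrCharacter G => (charDegree (ψ : G → ℂ)).factorization p) '' B) := by
    unfold blockHeight at h0
    exact Nat.sub_eq_zero_iff_le.1 h0
  have h2 : sInf ((fun ψ : IrrCharacter G => (charDegree (ψ : G → ℂ)).factorization p) '' B)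
      ≤ (charDegree (χ' : G → ℂ)).factorization p :=
    Nat.sInf_le ⟨χ', hχ', rfl⟩
  have h3 : (charDegree (χ : G → ℂ)).factorization p
      ≤ (Subgroup.centralizer ({k} : Set G)).index.factorization p := (h1.trans h2).trans hle
  have hdeg : (χ : G → ℂ) 1 = (charDegree (χ : G → ℂ) : ℂ) :=
    Helper24.charDegree_spec (Helper24.isCharacter_of_irr χ.2)
  have hdeg0 : charDegree (χ : G → ℂ) ≠ 0 := by
    intro h
    have h4 := Helper24.irr_one_ne_zero χ.2
    apply h4
    rw [hdeg, h]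
    simp
  have hR := natCast_div_memLocalRing hpM hdeg0 h3
  have e : centralChar (χ : G → ℂ) k
      = ((Subgroup.centralizer ({k} : Set G)).index : ℂ) / (charDegree (χ : G → ℂ) : ℂ)
        * (χ : G → ℂ) k := by
    unfold centralChar
    rw [hdeg]
    ring
  rw [e]
  exact MemLocalIdeal.mul_left hM hR hmem

end

end Cfsg.Agent.Helper25
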