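import Cfsg.Agent.Helper25.BlockOrthGen

set_option autoImplicit false
set_option linter.unusedSectionVars false

/-!
# Sums over a finite group by `p`-sections (helper25)
-/

namespace Cfsg.Agent.Helper25

open Cfsg
open scoped ComplexConjugate

section

variable {G : Type*} [Group G] [Fintype G] {p : ℕ}

/-- Every element of a finite group has a `p`-part. -/
theorem exists_isPPart (p : ℕ) [Fact p.Prime] (g : G) : ∃ z : G, IsPPart p g z := by
  have hp := (Fact.out : p.Prime)
  obtain ⟨r, hr1, hr2, hr3⟩ := exists_pprime_exponent G p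
  have hc : Commute g (g ^ r) := (Commute.refl g).pow_right r
  have hzr : (g * (g ^ r)⁻¹) ^ r = 1 := by
    rw [(hc.inv_right).mul_pow, inv_pow, hr1 (g ^ r) (hr2 g), mul_inv_cancel]
  refine ⟨g * (g ^ r)⁻¹, g ^ r, ?_, ?_, ?_, hr2 g⟩
  · rw [inv_mul_cancel_right]
  · exact (hc).mul_left ((Commute.refl (g ^ r)).inv_left)
  · obtain ⟨z, hz⟩ : ∃ z : G, z = g * (g ^ r)⁻¹ := ⟨_, rfl⟩
    rw [← hz] at hzr ⊢
    have hn0 : orderOf z ≠ 0 := (orderOf_pos z).ne'
    refine ⟨(orderOf z).factorization p, ?_⟩
    have hdvd : p ^ (orderOf z).factorization p ∣ orderOf z := Nat.ordProj_dvd _ _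
    have hw : ¬ p ∣ orderOf (z ^ (p ^ (orderOf z).factorization p)) := by
      rw [orderOf_pow_of_dvd (pow_ne_zero _ hp.ne_zero) hdvd]
      exact Nat.not_dvd_ordCompl hp hn0
    have h1 := hr1 _ hw
    rw [← pow_mul, mul_comm, pow_mul, hzr, one_pow] at h1
    have h2 : orderOf z ∣ p ^ (orderOf z).factorization p := orderOf_dvd_of_pow_eq_one h1.symm
    exact Nat.dvd_antisymm h2 hdvd

theorem isPPart_mul_iff (z y : G) :
    IsPPart p (z * y) z ↔ Commute z y ∧ (∃ k : ℕ, orderOf z = p ^ k) ∧ ¬ p ∣ orderOf y := by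
  constructor
  · rintro ⟨y', h1, h2, h3, h4⟩
    have h5 : y' = y := mul_left_cancel h1
    subst h5
    exact ⟨h2, h3, h4⟩
  · rintro ⟨h2, h3, h4⟩
    exact ⟨y, rfl, h2, h3, h4⟩

theorem sum_subgroup_ite (K : Subgroup G) [Fintype K] [DecidablePred (· ∈ K)] (h : G → ℂ) :
    ∑ y : G, (if y ∈ K then h y else 0) = ∑ y : K, h (y : G) := by
  rw [← Finset.sum_filter]
  exact Finset.sum_subtype (Finset.univ.filter (· ∈ K)) (p := (· ∈ K)) (fun x => by simp) h

/-- The sum over the elements with a given `p`-part. -/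
theorem sum_isPPart_eq (F : G → ℂ) (z : G) (hz : ∃ k : ℕ, orderOf z = p ^ k)
    [Fintype (Subgroup.centralizer ({z} : Set G))] [DecidablePred fun g : G => IsPPart p g z] :
    ∑ g : G, (if IsPPart p g z then F g else 0)
      = ∑ y : Subgroup.centralizer ({z} : Set G),
        (if p ∣ orderOf y then 0 else F (z * (y : G))) := by
  classical
  have h1 := Equiv.sum_comp (Equiv.mulLeft z) (fun g : G => if IsPPart p g z then F g else 0)
  rw [← h1]
  have h2 : ∀ y : G, (if IsPPart p ((Equiv.mulLeft z) y) z then F ((Equiv.mulLeft z) y) else 0)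
      = if y ∈ Subgroup.centralizer ({z} : Set G) then
        (if p ∣ orderOf y then 0 else F (z * y)) else 0 := by
    intro y
    show (if IsPPart p (z * y) z then F (z * y) else 0) = _
    by_cases hy : y ∈ Subgroup.centralizer ({z} : Set G)
    · have hc : Commute z y := Subgroup.mem_centralizer_iff.mp hy z (Set.mem_singleton z)
      rw [if_pos hy]
      by_cases hpy : p ∣ orderOf y
      · rw [if_pos hpy, if_neg]
        rw [isPPart_mul_iff]
        exact fun h => h.2.2 hpy
      · rw [if_neg hpy, if_pos]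
        rw [isPPart_mul_iff]
        exact ⟨hc, hz, hpy⟩
    · rw [if_neg hy, if_neg]
      rw [isPPart_mul_iff]
      intro h
      apply hy
      rw [Subgroup.mem_centralizer_iff]
      intro t ht
      rw [Set.mem_singleton_iff] at ht
      rw [ht]
      exact h.1
  rw [Finset.sum_congr rfl fun y _ => h2 y, sum_subgroup_ite]
  refine Finset.sum_congr rfl fun y _ => ?_
  rw [Subgroup.orderOf_coe]

/-- The sum over the elements with a given `p`-part only depends on the class of the `p`-part. -/
theorem sum_isPPart_conj (F : G → ℂ) (hF : IsClassFunction G F) (z t : G)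
    [DecidablePred fun g : G => IsPPart p g z]
    [DecidablePred fun g : G => IsPPart p g (t * z * t⁻¹)] :
    ∑ g : G, (if IsPPart p g (t * z * t⁻¹) then F g else 0)
      = ∑ g : G, (if IsPPart p g z then F g else 0) := by
  have h1 := Equiv.sum_comp (MulAut.conj t).toEquiv
    (fun g : G => if IsPPart p g (t * z * t⁻¹) then F g else 0)
  rw [← h1]
  refine Finset.sum_congr rfl fun g _ => ?_
  show (if IsPPart p (t * g * t⁻¹) (t * z * t⁻¹) then F (t * g * t⁻¹) else 0) = _
  rw [hF g t]
  have hiff : IsPPart p (t * g * t⁻¹) (t * z * t⁻¹) ↔ IsPPart p g z := by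
    constructor
    · intro h
      have h2 := isPPart_conj h t⁻¹
      have e1 : t⁻¹ * (t * g * t⁻¹) * t⁻¹⁻¹ = g := by group
      have e2 : t⁻¹ * (t * z * t⁻¹) * t⁻¹⁻¹ = z := by group
      rw [e1, e2] at h2
      exact h2
    · intro h
      exact isPPart_conj h t
  by_cases h : IsPPart p g z
  · rw [if_pos h, if_pos (hiff.2 h)]
  · rw [if_neg h, if_neg (fun h' => h (hiff.1 h'))]

/-- The sum of a class function over a finite group, by `p`-sections. -/
theorem section_sum [Fact p.Prime] (F : G → ℂ) (hF : IsClassFunction G F) (X : Finset G)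
    (hX : ∀ x ∈ X, ∃ k : ℕ, orderOf x = p ^ k)
    (hXrep : ∀ g : G, (∃ k : ℕ, orderOf g = p ^ k) → ∃! x, x ∈ X ∧ IsConj g x)
    [∀ x : G, Fintype (Subgroup.centralizer ({x} : Set G))] :
    ∑ g : G, F g = ∑ x ∈ X, ((Subgroup.centralizer ({x} : Set G)).index : ℂ)
      * ∑ y : Subgroup.centralizer ({x} : Set G),
        (if p ∣ orderOf y then 0 else F (x * (y : G))) := by
  classical
  have h1 : ∑ g : G, F g = ∑ z : G, ∑ g : G, (if IsPPart p g z then F g else 0) := by
    rw [Finset.sum_comm]
    refine Finset.sum_congr rfl fun g _ => ?_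
    obtain ⟨z₀, hz₀⟩ := exists_isPPart p g
    rw [Finset.sum_eq_single z₀]
    · rw [if_pos hz₀]
    · intro z _ hz
      rw [if_neg]
      intro h
      exact hz (isPPart_unique h hz₀)
    · intro h
      exact absurd (Finset.mem_univ _) h
  have h2 : ∀ z : G, (¬ ∃ k : ℕ, orderOf z = p ^ k) →
      ∑ g : G, (if IsPPart p g z then F g else 0) = 0 := by
    intro z hz
    apply Finset.sum_eq_zero
    intro g _
    rw [if_neg]
    rintro ⟨y, _, _, h3, _⟩
    exact hz h3
  have h3 : ∀ z : G, ∑ g : G, (if IsPPart p g z then F g else 0)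
      = ∑ x ∈ X, if IsConj z x then ∑ g : G, (if IsPPart p g z then F g else 0) else 0 := by
    intro z
    by_cases hz : ∃ k : ℕ, orderOf z = p ^ k
    · obtain ⟨x₀, ⟨hx₀X, hx₀c⟩, huniq⟩ := hXrep z hz
      symm
      refine (Finset.sum_eq_single x₀ ?_ ?_).trans ?_
      · intro x hx hne
        rw [if_neg]
        intro hc
        exact hne (huniq x ⟨hx, hc⟩)
      · intro h
        exact absurd hx₀X h
      · rw [if_pos hx₀c]
    · rw [h2 z hz]
      symm
      apply Finset.sum_eq_zero
      intro x _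
      split_ifs <;> rfl
  rw [h1, Finset.sum_congr rfl fun z _ => h3 z, Finset.sum_comm]
  refine Finset.sum_congr rfl fun x hx => ?_
  have h4 : ∀ z : G, (if IsConj z x then ∑ g : G, (if IsPPart p g z then F g else 0) else 0)
      = if IsConj z x then ∑ g : G, (if IsPPart p g x then F g else 0) else 0 := by
    intro z
    by_cases hc : IsConj z x
    · rw [if_pos hc, if_pos hc]
      obtain ⟨c, hc'⟩ := isConj_iff.1 hc
      rw [← hc']
      exact (sum_isPPart_conj F hF z c).symm
    · rw [if_neg hc, if_neg hc]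
  rw [Finset.sum_congr rfl fun z _ => h4 z, ← Finset.sum_filter, Finset.sum_const, nsmul_eq_mul]
  have hcard : (Finset.univ.filter (fun g : G => IsConj g x)).card
      = (Subgroup.centralizer ({x} : Set G)).index := by
    rw [Helper2.index_centralizer_eq_card_conj, Nat.card_eq_fintype_card, Fintype.card_subtype]
  rw [hcard, sum_isPPart_eq F x (hX x hx)]

end

end Cfsg.Agent.Helper25
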