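import Cfsg.Agent.Helper25.ExtFirstMain
import Cfsg.Agent.Helper25.SectionSum
import Cfsg.Agent.Helper25.BlockOrthGen
import Cfsg.Agent.Helper25.DefectConj
import Cfsg.Agent.Helper25.HeightZero2
import Cfsg.Agent.Helper25.BlockQuot
import Cfsg.Agent.S0924

set_option autoImplicit false
set_option linter.unusedSectionVars false

/-!
# Classes with nonzero central character meet the centralizer of a defect group (helper25)
-/

namespace Cfsg.Agent.Helper25

open Cfsg
open scoped ComplexConjugate

theorem isPPart_coe {G : Type*} [Group G] {p : ℕ} (H : Subgroup G) {h z : H}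
    (hz : IsPPart p h z) : IsPPart p (h : G) (z : G) := by
  obtain ⟨y, hy, hc, ⟨k, hk⟩, hny⟩ := hz
  refine ⟨(y : G), ?_, ?_, ⟨k, ?_⟩, ?_⟩
  · rw [← hy]; rfl
  · exact hc.map H.subtype
  · rw [Subgroup.orderOf_coe]; exact hk
  · rw [Subgroup.orderOf_coe]; exact hny

/-- If the central character of a member of the block `B` with defect group `P` does not vanish
modulo the local ideal at `g`, then some conjugate of `g` centralizes `P` and has its `p`-part in
the centre of `P`. -/
theorem exists_conj_central_ppart {G : Type*} [Group G] [Finite G] {p : ℕ} [Fact p.Prime]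
    {M : Ideal AlgInt} (hpM : IsPModular p M) (B : Set (IrrCharacter G)) (hB : IsPBlock M B)
    (P : Subgroup G) (hP : IsDefectGroup p M B P) (g : G)
    (hg : ∃ χ ∈ B, ¬ MemLocalIdeal M (centralChar (χ : G → ℂ) g)) :
    ∃ x : G, IsConj g x ∧ x ∈ Subgroup.centralizer (P : Set G) ∧
      ∀ z : G, IsPPart p x z → z ∈ P ∧ ∀ w ∈ P, z * w = w * z := by
  classical
  have : Fintype G := Fintype.ofFinite G
  have := Helper24.finite_irrCharacter (G := G)
  have : Fintype (IrrCharacter G) := Fintype.ofFinite _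
  have hM := hpM.2.1.isPrime
  obtain ⟨χ, hχ, hχg⟩ := hg
  obtain ⟨L, hL⟩ : ∃ L : Subgroup G, L = P ⊔ Subgroup.centralizer (P : Set G) := ⟨_, rfl⟩
  have hPL : P ≤ L := hL ▸ le_sup_left
  have hCL : Subgroup.centralizer (P : Set G) ≤ L := hL ▸ le_sup_right
  have hLN : L ≤ Subgroup.normalizer (P : Set G) := by
    rw [hL]
    exact sup_le Subgroup.le_normalizer (Subgroup.centralizer_le_normalizer _)
  have : Fintype L := Fintype.ofFinite L
  obtain ⟨b, hDb, hind⟩ := exists_induced_defect hpM P L hPL hCL hLN B hB hP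
  obtain ⟨θ, hθ⟩ := block_nonempty hM hind.1
  have h1 : ¬ MemLocalIdeal M (inducedCentralChar L (θ : L → ℂ) g) := by
    intro h
    apply hχg
    have h2 := hind.2.2 θ hθ χ hχ g
    have h3 := MemLocalIdeal.sub hM h h2
    rw [sub_sub_cancel] at h3
    exact h3
  obtain ⟨h, hconj, hh⟩ := exists_conj_centralChar_of_induced hM L θ g h1
  have hPp : IsPGroup p P := by
    obtain ⟨y, hy, S, hDS⟩ := id hP
    rw [hDS]
    exact S.isPGroup'.map _
  have hnormal : (P.subgroupOf L).Normal := by
    refine ⟨fun n hn k => ?_⟩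
    rw [Subgroup.mem_subgroupOf] at hn ⊢
    have hk := hLN k.2
    rw [Subgroup.mem_normalizer_iff] at hk
    exact (hk (n : G)).1 hn
  have hhC : h ∈ Subgroup.centralizer ((P.subgroupOf L : Subgroup L) : Set L) := by
    by_contra hn
    exact hh (centralChar_mem_of_not_centralizer hpM (P.subgroupOf L) hPp.comap_subtype θ h hn)
  have hxC : (h : G) ∈ Subgroup.centralizer (P : Set G) := by
    rw [Subgroup.mem_centralizer_iff]
    intro w hw
    have hw' : (⟨w, hPL hw⟩ : L) ∈ ((P.subgroupOf L : Subgroup L) : Set L) := by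
      rw [SetLike.mem_coe, Subgroup.mem_subgroupOf]
      exact hw
    have h4 := Subgroup.mem_centralizer_iff.1 hhC _ hw'
    exact congrArg (Subtype.val) h4
  have hθh : (θ : L → ℂ) h ≠ 0 := by
    intro h0
    apply hh
    unfold centralChar
    rw [h0, mul_zero, zero_div]
    exact MemLocalIdeal.zero hM.ne_top
  obtain ⟨zL, hzL⟩ := exists_isPPart p h
  have hex : ∃ D : Subgroup L, IsDefectGroup p M (blockOf M (θ : L → ℂ)) D ∧ zL ∈ D := by
    by_contra hcon
    push Not at hcon
    exact hθh (Cfsg.Agent.S0924.result p M hpM θ h zL hzL hcon)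
  obtain ⟨D, hD, hzD⟩ := hex
  have hbθ : b = blockOf M (θ : L → ℂ) := by
    obtain ⟨θ₀, hb0⟩ := hind.1
    rw [hb0]
    rw [hb0] at hθ
    exact blockOf_eq_of_mem hM hθ
  rw [← hbθ] at hD
  obtain ⟨y, hy⟩ := defectGroup_le_conj hpM hind.1 hDb hD
  have hzP : (zL : G) ∈ P := by
    obtain ⟨q, hq, hqz⟩ := hy hzD
    have h5 := hnormal.conj_mem q hq y
    have h6 : (MulAut.conj y).toMonoidHom q = y * q * y⁻¹ := rfl
    rw [h6] at hqz
    rw [hqz] at h5
    exact Subgroup.mem_subgroupOf.1 h5
  have hzG := isPPart_coe L hzL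
  refine ⟨(h : G), hconj, hxC, ?_⟩
  intro z hz
  have hzeq : z = (zL : G) := isPPart_unique hz hzG
  rw [hzeq]
  refine ⟨hzP, ?_⟩
  intro w hw
  have h7 := isPPart_conj hzG w
  have h8 : w * (h : G) * w⁻¹ = (h : G) := by
    have := Subgroup.mem_centralizer_iff.1 hxC w hw
    rw [this, mul_inv_cancel_right]
  rw [h8] at h7
  have h9 := isPPart_unique h7 hzG
  calc (zL : G) * w = (w * (zL : G) * w⁻¹) * w := by rw [h9]
    _ = w * (zL : G) := by group

end Cfsg.Agent.Helper25
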