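import Cfsg.Agent.Helper25.CharZeros
import Cfsg.Agent.Helper25.Frobenius
import Cfsg.Agent.Helper6.Kernel

set_option autoImplicit false

namespace Cfsg.Agent.Helper25

open Cfsg Cfsg.Agent.Helper24
open scoped ComplexConjugate

/-- Over the primitive `n`-th roots of unity, the norms of the values of an integer polynomial
not vanishing there have average at least one. -/
theorem sum_norm_primitiveRoots_ge {n : ℕ} (hn : 0 < n) {ζ : ℂ} (hζ : IsPrimitiveRoot ζ n)
    (P : Polynomial ℤ) (h : Polynomial.aeval ζ P ≠ 0) :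
    ((primitiveRoots n ℂ).card : ℝ) ≤ ∑ η ∈ primitiveRoots n ℂ, ‖Polynomial.aeval η P‖ := by
  have hne : ∀ η ∈ primitiveRoots n ℂ, Polynomial.aeval η P ≠ 0 := fun η hη h0 =>
    h (aeval_primitive_transfer hn ((mem_primitiveRoots hn).mp hη) hζ P h0)
  obtain ⟨m, hm⟩ := prod_primitiveRoots_int hn P
  have hm0 : m ≠ 0 := by
    rintro rfl
    rw [Int.cast_zero, Finset.prod_eq_zero_iff] at hm
    obtain ⟨η, hη, h0⟩ := hm
    exact hne η hη h0
  have hprod : 1 ≤ ∏ η ∈ primitiveRoots n ℂ, ‖Polynomial.aeval η P‖ := by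
    rw [← norm_prod, hm, Complex.norm_intCast]
    exact_mod_cast Int.one_le_abs hm0
  have hpos : ∀ η ∈ primitiveRoots n ℂ, 0 < ‖Polynomial.aeval η P‖ := fun η hη =>
    norm_pos_iff.mpr (hne η hη)
  have hlog : 0 ≤ ∑ η ∈ primitiveRoots n ℂ, Real.log (‖Polynomial.aeval η P‖) := by
    rw [← Real.log_prod (fun η hη => (hpos η hη).ne')]
    exact Real.log_nonneg hprod
  have hle : ∑ η ∈ primitiveRoots n ℂ, Real.log (‖Polynomial.aeval η P‖)
      ≤ ∑ η ∈ primitiveRoots n ℂ, (‖Polynomial.aeval η P‖ - 1) :=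
    Finset.sum_le_sum fun η hη => Real.log_le_sub_one_of_pos (hpos η hη)
  rw [Finset.sum_sub_distrib, Finset.sum_const, nsmul_eq_mul, mul_one] at hle
  linarith

/-- Burnside-type estimate for norms: over a set `S` closed under the Galois action (powers
coprime to the group order), the nonzero values of a character have average norm at least
one. -/
theorem char_sum_norm_sub_one_nonneg {G : Type*} [Group G] [Fintype G] {χ : G → ℂ}
    (hchar : IsCharacter G χ) (S : Set G)
    (hS : ∀ (g : G) (k : ℕ), k.Coprime (Nat.card G) → (g ^ k ∈ S ↔ g ∈ S))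
    (φ : G → ℝ) (hφ1 : ∀ g, g ∈ S → χ g ≠ 0 → φ g = ‖χ g‖ - 1)
    (hφ0 : ∀ g, ¬ (g ∈ S ∧ χ g ≠ 0) → φ g = 0) :
    0 ≤ ∑ g : G, φ g := by
  classical
  have hn : 0 < Nat.card G := Nat.card_pos
  generalize hn_def : Nat.card G = n at hn hS
  have hgn : ∀ g : G, g ^ n = 1 := fun g => by rw [← hn_def]; exact pow_card_eq_one'
  have hζ := Complex.isPrimitiveRoot_exp n hn.ne'
  generalize Complex.exp (2 * Real.pi * Complex.I / n) = ζ at hζ
  have hP : ∀ g : G, ∃ P : Polynomial ℤ, ∀ k : ℕ, χ (g ^ k) = Polynomial.aeval (ζ ^ k) P :=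
    fun g => char_poly hchar g n hn (hgn g) ζ hζ
  choose P hP using hP
  have hP1 : ∀ g : G, χ g = Polynomial.aeval ζ (P g) := by
    intro g
    have := hP g 1
    rwa [pow_one, pow_one] at this
  have hzero : ∀ (g : G) (k : ℕ), k.Coprime n → (χ (g ^ k) = 0 ↔ χ g = 0) := by
    intro g k hk
    rw [hP g k, hP1 g]
    exact ⟨aeval_primitive_transfer hn (hζ.pow_of_coprime k hk) hζ (P g),
      aeval_primitive_transfer hn hζ (hζ.pow_of_coprime k hk) (P g)⟩
  obtain ⟨K, hK⟩ : ∃ K : Finset ℕ, K = (Finset.range n).filter (fun k => k.Coprime n) :=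
    ⟨_, rfl⟩
  have hKmem : ∀ k ∈ K, k.Coprime n := by
    intro k hk
    rw [hK, Finset.mem_filter] at hk
    exact hk.2
  have hφsum : ∀ g : G, 0 ≤ ∑ k ∈ K, φ (g ^ k) := by
    intro g
    by_cases hR : (g ∈ S ∧ χ g ≠ 0)
    · have h1 : ∀ k ∈ K, φ (g ^ k) = ‖Polynomial.aeval (ζ ^ k) (P g)‖ - 1 := by
        intro k hk
        have hc := hKmem k hk
        rw [hφ1 _ ((hS g k hc).mpr hR.1) (fun h => hR.2 ((hzero g k hc).mp h)), hP g k]
      rw [Finset.sum_congr rfl h1, hK,
        ← sum_primitiveRoots_eq hn hζ (fun η => ‖Polynomial.aeval η (P g)‖ - 1),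
        Finset.sum_sub_distrib, Finset.sum_const, nsmul_eq_mul, mul_one, sub_nonneg]
      apply sum_norm_primitiveRoots_ge hn hζ
      rw [← hP1 g]
      exact hR.2
    · have h1 : ∀ k ∈ K, φ (g ^ k) = 0 := by
        intro k hk
        have hc := hKmem k hk
        apply hφ0
        rintro ⟨ha, hb⟩
        exact hR ⟨(hS g k hc).mp ha, fun h => hb ((hzero g k hc).mpr h)⟩
      rw [Finset.sum_congr rfl h1, Finset.sum_const_zero]
  have hinvar : ∀ k ∈ K, ∑ g : G, φ (g ^ k) = ∑ g : G, φ g := by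
    intro k hk
    have hc : (Nat.card G).Coprime k := by
      rw [hn_def]; exact (hKmem k hk).symm
    exact Equiv.sum_comp (powCoprime hc) φ
  have hKpos : 0 < K.card := by
    rw [Finset.card_pos]
    rcases Nat.lt_or_ge 1 n with h1 | h1
    · exact ⟨1, by rw [hK, Finset.mem_filter, Finset.mem_range]; exact ⟨h1, Nat.coprime_one_left n⟩⟩
    · have : n = 1 := by omega
      subst this
      exact ⟨0, by rw [hK, Finset.mem_filter, Finset.mem_range]; exact ⟨Nat.one_pos, by decide⟩⟩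
  have h1 : (K.card : ℝ) * ∑ g : G, φ g = ∑ g : G, ∑ k ∈ K, φ (g ^ k) := by
    rw [Finset.sum_comm, Finset.sum_congr rfl hinvar, Finset.sum_const, nsmul_eq_mul]
  have h2 : 0 ≤ (K.card : ℝ) * ∑ g : G, φ g := by
    rw [h1]
    exact Finset.sum_nonneg fun g _ => hφsum g
  have h3 : (0 : ℝ) < K.card := by exact_mod_cast hKpos
  exact nonneg_of_mul_nonneg_right h2 h3

section CosetNorm

variable {G : Type*} [Group G]

/-- The average of `|χ|²` over the coset `N g`. -/
noncomputable def cosetNorm (N : Subgroup G) [Fintype N] (χ : G → ℂ) : G → ℂ :=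
  fun g => (Nat.card N : ℂ)⁻¹ * ∑ n : N, χ ((n : G) * g) * conj (χ ((n : G) * g))

theorem cosetNorm_apply (N : Subgroup G) [Fintype N] (χ : G → ℂ) (g : G) :
    cosetNorm N χ g = (Nat.card N : ℂ)⁻¹ * ∑ n : N, χ ((n : G) * g) * conj (χ ((n : G) * g)) :=
  rfl

theorem cosetNorm_eq_ofReal (N : Subgroup G) [Fintype N] (χ : G → ℂ) (g : G) :
    cosetNorm N χ g = (((Nat.card N : ℝ)⁻¹ * ∑ n : N, ‖χ ((n : G) * g)‖ ^ 2 : ℝ) : ℂ) := by
  rw [cosetNorm_apply, Complex.ofReal_mul, Complex.ofReal_inv, Complex.ofReal_natCast,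
    Complex.ofReal_sum]
  congr 1
  refine Finset.sum_congr rfl fun n _ => ?_
  rw [Complex.mul_conj, Complex.normSq_eq_norm_sq]

theorem cosetNorm_mul_left (N : Subgroup G) [Fintype N] (χ : G → ℂ) (m : N) (g : G) :
    cosetNorm N χ ((m : G) * g) = cosetNorm N χ g := by
  rw [cosetNorm_apply, cosetNorm_apply]
  congr 1
  refine Fintype.sum_equiv (Equiv.mulRight m) _ _ (fun n => ?_)
  rw [Equiv.coe_mulRight, Subgroup.coe_mul, mul_assoc]

theorem isClassFunction_cosetNorm (N : Subgroup G) [hN : N.Normal] [Fintype N] {χ : G → ℂ}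
    (hχ : IsClassFunction G χ) : IsClassFunction G (cosetNorm N χ) := by
  intro g h
  rw [cosetNorm_apply, cosetNorm_apply]
  congr 1
  refine Fintype.sum_equiv (MulAut.conjNormal h⁻¹ : N ≃* N).toEquiv _ _ (fun n => ?_)
  have h1 : (((MulAut.conjNormal h⁻¹ : N ≃* N).toEquiv n : N) : G) * g =
      h⁻¹ * ((n : G) * (h * g * h⁻¹)) * h⁻¹⁻¹ := by
    show ((MulAut.conjNormal h⁻¹ n : N) : G) * g = _
    rw [MulAut.conjNormal_apply]
    group
  rw [h1, hχ]

/-- The inner product of a coset average with an irreducible character is a natural number. -/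
theorem classInner_cosetNorm_nat [Fintype G] (N : Subgroup G) [hN : N.Normal] [Fintype N] {χ : G → ℂ}
    (hχ : IsCharacter G χ) {β : G → ℂ} (hβ : IsIrrCharacter G β) :
    ∃ m : ℕ, classInner (cosetNorm N χ) β = (m : ℂ) := by
  by_cases hk : ∃ x ∈ N, β x ≠ β 1
  · exact ⟨0, by
      rw [Helper6.classInner_eq_zero_of_not_ker N (cosetNorm N χ) β
        (fun m g => cosetNorm_mul_left N χ m g) hβ hk]; simp⟩
  · push Not at hk
    have hβc := Helper24.isCharacter_of_irr hβ
    have h1 := Helper6.classInner_cosetAvg N χ χ β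
      (fun m g => Helper6.char_mul_of_eq_degree hβc (hk (m : G) m.2) g)
    obtain ⟨m, hm⟩ := Helper2.classInner_char_nat hχ (Helper2.IsCharacter.mul hβc hχ)
    exact ⟨m, by rw [← hm, ← h1]; rfl⟩

theorem isCharacter_cosetNorm [Fintype G] (N : Subgroup G) [hN : N.Normal] [Fintype N] {χ : G → ℂ}
    (hχ : IsCharacter G χ) : IsCharacter G (cosetNorm N χ) :=
  Helper2.isCharacter_of_classInner_nat
    (isClassFunction_cosetNorm N (Helper2.IsCharacter.isClassFunction hχ))
    (fun _ hβ => classInner_cosetNorm_nat N hχ hβ)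

/-- The multiplicity of the principal character in a coset average. -/
theorem classInner_cosetNorm_one [Fintype G] (N : Subgroup G) [Fintype N] (χ : G → ℂ) :
    classInner (cosetNorm N χ) (fun _ => (1 : ℂ)) = classInner χ χ := by
  have h1 := Helper6.classInner_cosetAvg N χ χ (fun _ => (1 : ℂ)) (fun _ _ => rfl)
  have h2 : ((fun _ => (1 : ℂ)) * χ : G → ℂ) = χ := by
    funext g; simp
  rw [h2] at h1
  exact h1

/-- The value at the identity of a coset average is the norm of the restriction. -/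
theorem cosetNorm_one (N : Subgroup G) [Fintype N] (χ : G → ℂ) :
    cosetNorm N χ 1 = classInner (fun n : N => χ n) (fun n : N => χ n) := by
  rw [cosetNorm_apply]
  unfold classInner
  simp

end CosetNorm

end Cfsg.Agent.Helper25
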