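import Cfsg.Agent.Helper25.BlockThird
import Cfsg.Agent.Helper6.BrauerInd
import Cfsg.Agent.Helper10.VirtualChar
import Cfsg.Agent.Helper2.IndFun
import Cfsg.Agent.Helper2.CharLinear
import Cfsg.Agent.Helper2.CharNat
import Cfsg.Agent.Helper2.CharComplete
import Cfsg.Agent.Helper24.CharValues
import Cfsg.Agent.Helper24.CharInv

set_option autoImplicit false

/-!
# Power maps on characters (Galois conjugation), helper25

For `k` coprime to the group order, `g ↦ χ (g ^ k)` is again an irreducible character (via
Brauer's induction theorem).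
-/

universe u

namespace Cfsg.Agent.Helper25

open Cfsg
open scoped ComplexConjugate

section

variable {G : Type u} [Group G] [Fintype G]

omit [Fintype G] in
theorem pow_mem_iff_of_coprime [Finite G] {k : ℕ} (hk : Nat.Coprime k (Nat.card G))
    (E : Subgroup G) (y : G) : y ^ k ∈ E ↔ y ∈ E := by
  constructor
  · intro h
    have h1 : (powCoprime hk.symm).symm (y ^ k) = y := (powCoprime hk.symm).symm_apply_apply y
    have h2 : (y ^ k) ^ ((Nat.card G).gcdB k) = y := h1
    rw [← h2]
    exact E.zpow_mem h _
  · exact fun h => E.pow_mem h k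

theorem indFun_pow {k : ℕ} (hk : Nat.Coprime k (Nat.card G)) (E : Subgroup G) (φ : E → ℂ)
    (g : G) : indFun E φ (g ^ k) = indFun E (fun e => φ (e ^ k)) g := by
  classical
  rw [Helper2.indFun_apply, Helper2.indFun_apply]
  congr 1
  refine Finset.sum_congr rfl (fun x _ => ?_)
  have e1 : x⁻¹ * g ^ k * x = (x⁻¹ * g * x) ^ k := by
    have := conj_pow (i := k) (a := x⁻¹) (b := g)
    rw [inv_inv] at this
    exact this.symm
  rw [e1]
  by_cases hy : x⁻¹ * g * x ∈ E
  · rw [Helper2.extendByZero_apply_mem E _ hy,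
      Helper2.extendByZero_apply_mem E _ (E.pow_mem hy k)]
    rfl
  · rw [Helper2.extendByZero_apply_not_mem E _ hy,
      Helper2.extendByZero_apply_not_mem E _
        (fun h => hy ((pow_mem_iff_of_coprime hk E _).1 h))]

/-- Composing a character with a power map coprime to the group order gives a generalized
character. -/
theorem isGeneralizedCharacter_pow {k : ℕ} (hk : Nat.Coprime k (Nat.card G)) {χ : G → ℂ}
    (hχ : IsCharacter G χ) : IsGeneralizedCharacter G (fun g => χ (g ^ k)) := by
  obtain ⟨l, -, rfl⟩ := Helper6.BrauerInd.brauer_induction hχ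
  clear hχ
  induction l with
  | nil =>
    have e : (fun g : G => (List.map (fun t : (E : Subgroup G) × ((E →* ℂˣ) × ℤ) =>
        (t.2.2 : ℂ) • indFun t.1 (fun e => (t.2.1 e : ℂ))) []).sum (g ^ k)) = 0 := by
      funext g
      simp
    rw [e]
    exact Helper10.isGeneralizedCharacter_of_char Helper2.isCharacter_zero
  | cons t l ih =>
    have e : (fun g : G => (List.map (fun t : (E : Subgroup G) × ((E →* ℂˣ) × ℤ) =>
        (t.2.2 : ℂ) • indFun t.1 (fun e => (t.2.1 e : ℂ))) (t :: l)).sum (g ^ k))
        = (t.2.2 : ℂ) • indFun t.1 (fun e => (((t.2.1 ^ k) e : ℂˣ) : ℂ))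
          + (fun g : G => (List.map (fun t : (E : Subgroup G) × ((E →* ℂˣ) × ℤ) =>
            (t.2.2 : ℂ) • indFun t.1 (fun e => (t.2.1 e : ℂ))) l).sum (g ^ k)) := by
      funext g
      simp only [List.map_cons, List.sum_cons, Pi.add_apply, Pi.smul_apply]
      rw [indFun_pow hk]
      congr 3
      funext e
      rw [map_pow, MonoidHom.pow_apply]
    rw [e]
    exact Helper10.IsGeneralizedCharacter.add (Helper6.BrauerInd.isGeneralizedCharacter_zsmul
      (Helper10.isGeneralizedCharacter_of_char
        (Helper2.isCharacter_indFun _ (Helper2.isCharacter_of_hom (t.2.1 ^ k)))) t.2.2) ih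

/-- Composing an irreducible character with a power map coprime to the group order gives an
irreducible character. -/
theorem isIrrCharacter_pow {k : ℕ} (hk : Nat.Coprime k (Nat.card G)) {χ : G → ℂ}
    (hχ : IsIrrCharacter G χ) : IsIrrCharacter G (fun g => χ (g ^ k)) := by
  have hχc := Helper24.isCharacter_of_irr hχ
  have hgen := isGeneralizedCharacter_pow hk hχc
  have hnorm : classInner (fun g => χ (g ^ k)) (fun g => χ (g ^ k)) = 1 := by
    have h1 := Helper2.classInner_irr hχ hχ
    rw [if_pos rfl] at h1
    rw [← h1]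
    unfold classInner
    congr 1
    exact Equiv.sum_comp (powCoprime hk.symm) (fun g => χ g * conj (χ g))
  obtain ⟨χ', e, hχ', he, heq⟩ := Helper10.gen_norm_one hgen hnorm
  rcases he with rfl | rfl
  · have e1 : (fun g => χ (g ^ k)) = χ' := by
      rw [heq]
      funext g
      simp
    rw [e1]
    exact hχ'
  · exfalso
    have h1 := congrFun heq 1
    have hd := Helper24.charDegree_spec hχc
    have hd' := Helper24.charDegree_spec (Helper24.isCharacter_of_irr hχ')
    have hpos := Helper24.irr_degree_pos hχ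
    have hpos' := Helper24.irr_degree_pos hχ'
    simp only [one_pow, Pi.smul_apply] at h1
    rw [hd, hd'] at h1
    have h2 : ((charDegree χ + charDegree χ' : ℕ) : ℂ) = 0 := by
      push_cast
      rw [h1]
      simp
    have h3 : charDegree χ + charDegree χ' = 0 := by exact_mod_cast h2
    omega

/-- The Galois conjugate `g ↦ χ (g ^ k)` of an irreducible character. -/
noncomputable def powIrr {k : ℕ} (hk : Nat.Coprime k (Nat.card G)) (χ : IrrCharacter G) :
    IrrCharacter G :=
  ⟨fun g => (χ : G → ℂ) (g ^ k), isIrrCharacter_pow hk χ.2⟩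

theorem powIrr_apply {k : ℕ} (hk : Nat.Coprime k (Nat.card G)) (χ : IrrCharacter G) (g : G) :
    (powIrr hk χ : G → ℂ) g = (χ : G → ℂ) (g ^ k) := rfl

/-- The principal block is stable under Galois conjugation. -/
theorem powIrr_mem_principal_iff {p : ℕ} [Fact p.Prime] {M : Ideal AlgInt}
    (hM : IsPModular p M) {k : ℕ} (hk : Nat.Coprime k (Nat.card G)) (χ : IrrCharacter G) :
    powIrr hk χ ∈ principalBlock M G ↔ χ ∈ principalBlock M G := by
  rw [mem_principal_iff hM, mem_principal_iff hM]
  have e : ∑ g : G, (if p ∣ orderOf g then 0 else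
        (powIrr hk χ : G → ℂ) g / (powIrr hk χ : G → ℂ) 1)
      = ∑ g : G, (if p ∣ orderOf g then 0 else (χ : G → ℂ) g / (χ : G → ℂ) 1) := by
    rw [← Equiv.sum_comp (powCoprime hk.symm)
      (fun g => if p ∣ orderOf g then 0 else (χ : G → ℂ) g / (χ : G → ℂ) 1)]
    refine Finset.sum_congr rfl (fun g _ => ?_)
    have h1 : (powCoprime hk.symm) g = g ^ k := rfl
    have h2 : orderOf (g ^ k) = orderOf g :=
      Nat.Coprime.orderOf_pow (Nat.Coprime.coprime_dvd_left (orderOf_dvd_natCard g) hk.symm)
    rw [h1, h2, powIrr_apply, powIrr_apply, one_pow]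
  rw [e]

end

end Cfsg.Agent.Helper25
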