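import Cfsg.Agent.Helper24.CharInv

set_option autoImplicit false

namespace Cfsg.Agent.Helper25

open Cfsg Cfsg.Agent.Helper24

/-- Burnside-type estimate: over a set `S` closed under the Galois action (powers coprime to
the group order), the nonzero values of a character have average square norm at least one. -/
theorem char_sum_normSq_sub_one_nonneg {G : Type*} [Group G] [Fintype G] {χ : G → ℂ}
    (hchar : IsCharacter G χ) (S : Set G)
    (hS : ∀ (g : G) (k : ℕ), k.Coprime (Nat.card G) → (g ^ k ∈ S ↔ g ∈ S))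
    (φ : G → ℝ) (hφ1 : ∀ g, g ∈ S → χ g ≠ 0 → φ g = ‖χ g‖ ^ 2 - 1)
    (hφ0 : ∀ g, ¬ (g ∈ S ∧ χ g ≠ 0) → φ g = 0) :
    0 ≤ ∑ g : G, φ g := by
  classical
  have hn : 0 < Nat.card G := Nat.card_pos
  generalize hn_def : Nat.card G = n at hn hS
  have hgn : ∀ g : G, g ^ n = 1 := fun g => by rw [← hn_def]; exact pow_card_eq_one'
  have hζ := Complex.isPrimitiveRoot_exp n hn.ne'
  generalize Complex.exp (2 * Real.pi * Complex.I / n) = ζ at hζ
  have hP : ∀ g : G, ∃ P : Polynomial ℤ, ∀ k : ℕ, χ (g ^ k) = Polynomial.aeval (ζ ^ k) P :=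
    fun g => char_poly hchar g n hn (hgn g) ζ hζ
  choose P hP using hP
  have hP1 : ∀ g : G, χ g = Polynomial.aeval ζ (P g) := by
    intro g
    have := hP g 1
    rwa [pow_one, pow_one] at this
  have hzero : ∀ (g : G) (k : ℕ), k.Coprime n → (χ (g ^ k) = 0 ↔ χ g = 0) := by
    intro g k hk
    rw [hP g k, hP1 g]
    exact ⟨aeval_primitive_transfer hn (hζ.pow_of_coprime k hk) hζ (P g),
      aeval_primitive_transfer hn hζ (hζ.pow_of_coprime k hk) (P g)⟩
  obtain ⟨K, hK⟩ : ∃ K : Finset ℕ, K = (Finset.range n).filter (fun k => k.Coprime n) :=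
    ⟨_, rfl⟩
  have hKmem : ∀ k ∈ K, k.Coprime n := by
    intro k hk
    rw [hK, Finset.mem_filter] at hk
    exact hk.2
  have hφsum : ∀ g : G, 0 ≤ ∑ k ∈ K, φ (g ^ k) := by
    intro g
    by_cases hR : (g ∈ S ∧ χ g ≠ 0)
    · have h1 : ∀ k ∈ K, φ (g ^ k) = ‖Polynomial.aeval (ζ ^ k) (P g)‖ ^ 2 - 1 := by
        intro k hk
        have hc := hKmem k hk
        rw [hφ1 _ ((hS g k hc).mpr hR.1) (fun h => hR.2 ((hzero g k hc).mp h)), hP g k]
      rw [Finset.sum_congr rfl h1, hK,
        ← sum_primitiveRoots_eq hn hζ (fun η => ‖Polynomial.aeval η (P g)‖ ^ 2 - 1),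
        Finset.sum_sub_distrib, Finset.sum_const, nsmul_eq_mul, mul_one, sub_nonneg]
      apply sum_normSq_primitiveRoots_ge hn hζ
      rw [← hP1 g]
      exact hR.2
    · have h1 : ∀ k ∈ K, φ (g ^ k) = 0 := by
        intro k hk
        have hc := hKmem k hk
        apply hφ0
        rintro ⟨ha, hb⟩
        exact hR ⟨(hS g k hc).mp ha, fun h => hb ((hzero g k hc).mpr h)⟩
      rw [Finset.sum_congr rfl h1, Finset.sum_const_zero]
  have hinvar : ∀ k ∈ K, ∑ g : G, φ (g ^ k) = ∑ g : G, φ g := by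
    intro k hk
    have hc : (Nat.card G).Coprime k := by
      rw [hn_def]; exact (hKmem k hk).symm
    exact Equiv.sum_comp (powCoprime hc) φ
  have hKpos : 0 < K.card := by
    rw [Finset.card_pos]
    rcases Nat.lt_or_ge 1 n with h1 | h1
    · exact ⟨1, by rw [hK, Finset.mem_filter, Finset.mem_range]; exact ⟨h1, Nat.coprime_one_left n⟩⟩
    · have : n = 1 := by omega
      subst this
      exact ⟨0, by rw [hK, Finset.mem_filter, Finset.mem_range]; exact ⟨Nat.one_pos, by decide⟩⟩
  have h1 : (K.card : ℝ) * ∑ g : G, φ g = ∑ g : G, ∑ k ∈ K, φ (g ^ k) := by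
    rw [Finset.sum_comm, Finset.sum_congr rfl hinvar, Finset.sum_const, nsmul_eq_mul]
  have h2 : 0 ≤ (K.card : ℝ) * ∑ g : G, φ g := by
    rw [h1]
    exact Finset.sum_nonneg fun g _ => hφsum g
  have h3 : (0 : ℝ) < K.card := by exact_mod_cast hKpos
  exact nonneg_of_mul_nonneg_right h2 h3

/-- A power coprime to the group order preserves (non)membership in a subgroup. -/
theorem pow_coprime_mem_iff {G : Type*} [Group G] [Finite G] (H : Subgroup G) (g : G) (k : ℕ)
    (hk : k.Coprime (Nat.card G)) : g ^ k ∈ H ↔ g ∈ H := by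
  constructor
  · intro h
    have h1 : (powCoprime hk.symm).symm (g ^ k) = g := (powCoprime hk.symm).symm_apply_apply g
    rw [← h1]
    exact H.zpow_mem h _
  · intro h
    exact H.pow_mem h k

end Cfsg.Agent.Helper25
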