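import Cfsg.Agent.Helper25.CentralPPart
import Cfsg.Agent.Helper25.BlockCover
import Cfsg.Agent.Helper25.BlockBrauer
import Cfsg.Agent.Helper25.BlockMinMax3
import Cfsg.Agent.Helper25.BlockOrth2
import Cfsg.Agent.Helper25.BlockSection

set_option autoImplicit false
set_option linter.unusedSectionVars false

/-!
# Blocks of maximal defect covering an invariant block (helper25)
-/

namespace Cfsg.Agent.Helper25

open Cfsg
open scoped ComplexConjugate

section Generic

variable {G : Type*} [Group G] [Fintype G]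

theorem sum_right_invariant (T : Subgroup G) [Fintype (G ⧸ T)] (F : G → ℂ)
    (hF : ∀ t : G, ∀ c ∈ T, F (t * c) = F t) :
    ∑ t : G, F t = (Nat.card T : ℂ) * ∑ q : G ⧸ T, F (Quotient.out q) := by
  classical
  have : Fintype T := Fintype.ofFinite _
  have hinj : Function.Injective
      (fun x : (G ⧸ T) × T => (Quotient.out x.1) * (x.2 : G)) := by
    rintro ⟨q, c⟩ ⟨q', c'⟩ h
    simp only at h
    have h1 : (QuotientGroup.mk (Quotient.out q * (c : G)) : G ⧸ T)
        = QuotientGroup.mk (Quotient.out q' * (c' : G)) := by rw [h]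
    rw [QuotientGroup.mk_mul_of_mem _ c.2, QuotientGroup.mk_mul_of_mem _ c'.2,
      QuotientGroup.out_eq', QuotientGroup.out_eq'] at h1
    subst h1
    have h2 : (c : G) = c' := mul_left_cancel h
    rw [Subtype.ext h2]
  have hbij : Function.Bijective
      (fun x : (G ⧸ T) × T => (Quotient.out x.1) * (x.2 : G)) := by
    rw [Fintype.bijective_iff_injective_and_card]
    refine ⟨hinj, ?_⟩
    rw [Fintype.card_prod, ← Nat.card_eq_fintype_card, ← Nat.card_eq_fintype_card,
      ← Nat.card_eq_fintype_card]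
    exact (Subgroup.card_eq_card_quotient_mul_card_subgroup T).symm
  rw [← hbij.sum_comp F, Fintype.sum_prod_type, Finset.mul_sum]
  refine Finset.sum_congr rfl fun q _ => ?_
  simp only
  rw [Finset.sum_congr rfl (fun (c : T) _ => hF (Quotient.out q) (c : G) c.2), Finset.sum_const,
    Finset.card_univ, nsmul_eq_mul, Nat.card_eq_fintype_card]

theorem index_centralizer_eq_mul (N : Subgroup G) [hN : N.Normal] (y : N) :
    (Subgroup.centralizer ({(y : G)} : Set G)).index
      = (N ⊔ Subgroup.centralizer ({(y : G)} : Set G)).index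
        * (Subgroup.centralizer ({y} : Set N)).index := by
  obtain ⟨C, hC⟩ : ∃ C : Subgroup G, C = Subgroup.centralizer ({(y : G)} : Set G) := ⟨_, rfl⟩
  rw [← hC]
  have h1 : N.relIndex (N ⊔ C) = N.relIndex C := Subgroup.relIndex_sup_left C N
  have h2 : N.relIndex (N ⊔ C) * (N ⊔ C).index = N.index := Subgroup.relIndex_mul_index le_sup_left
  have h3 : (N ⊓ C).relIndex C = N.relIndex C := Subgroup.inf_relIndex_right N C
  have h4 : (N ⊓ C).relIndex C * C.index = (N ⊓ C).index := Subgroup.relIndex_mul_index inf_le_right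
  have h5 : (N ⊓ C).relIndex N * N.index = (N ⊓ C).index := Subgroup.relIndex_mul_index inf_le_left
  have h6 : (N ⊓ C).relIndex N = (Subgroup.centralizer ({y} : Set N)).index := by
    unfold Subgroup.relIndex
    congr 1
    ext n
    rw [Subgroup.mem_subgroupOf, Subgroup.mem_inf, hC, Subgroup.mem_centralizer_singleton_iff,
      Subgroup.mem_centralizer_singleton_iff]
    constructor
    · rintro ⟨_, h⟩
      exact Subtype.ext h
    · intro h
      exact ⟨n.2, congrArg Subtype.val h⟩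
  have hr : N.relIndex C ≠ 0 := Subgroup.index_ne_zero_of_finite
  have h7 : N.relIndex C * C.index = N.relIndex C
      * ((N ⊔ C).index * (Subgroup.centralizer ({y} : Set N)).index) := by
    rw [← h3, h4, ← h5, h6, ← h2, h1, h3]
    ring
  exact Nat.eq_of_mul_eq_mul_left (Nat.pos_of_ne_zero hr) h7

end Generic



section Cover

variable {G : Type*} [Group G] [Fintype G] [Fintype (IrrCharacter G)] {M : Ideal AlgInt} {p : ℕ}

theorem extendByZero_coe (N : Subgroup G) (f : N → ℂ) (n : N) : extendByZero N f (n : G) = f n := by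
  unfold extendByZero
  exact Subtype.val_injective.extend_apply _ _ n

theorem extendByZero_not_mem (N : Subgroup G) (f : N → ℂ) (x : G) (hx : x ∉ N) :
    extendByZero N f x = 0 := by
  unfold extendByZero
  rw [Function.extend_apply']
  · rfl
  · rintro ⟨a, ha⟩
    exact hx (ha ▸ a.2)

/-- For a `G`-invariant block `b` of the normal subgroup `N` and `χ₀` lying over `θ₀ ∈ b`, there is
an element `y` of `N` at which the idempotent coefficient of `b` and the central characters of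
`θ₀` and `χ₀` are all units. -/
theorem exists_good_class (hM : M.IsPrime) (N : Subgroup G) [hN : N.Normal] [Fintype N]
    [Fintype (IrrCharacter N)] (b : Set (IrrCharacter N)) (hb : IsPBlock M b)
    (hinv : ∀ (g : G) (θ : IrrCharacter N), conjIrr N g θ ∈ b ↔ θ ∈ b)
    (χ₀ : IrrCharacter G) (θ₀ : IrrCharacter N) (hθ₀ : θ₀ ∈ b)
    (hcon : classInner (fun n : N => (χ₀ : G → ℂ) n) (θ₀ : N → ℂ) ≠ 0) :
    ∃ y : N, ¬ MemLocalIdeal M (blockCoeff b y) ∧ ¬ MemLocalIdeal M (centralChar (θ₀ : N → ℂ) y)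
      ∧ ¬ MemLocalIdeal M (centralChar (χ₀ : G → ℂ) (y : G)) := by
  classical
  obtain ⟨Φ, hΦ⟩ : ∃ Φ : IrrCharacter N → ℂ, Φ = fun θ => if θ ∈ b then (1 : ℂ) else 0 :=
    ⟨_, rfl⟩
  have hinvΦ : ∀ (g : G) (θ : IrrCharacter N), Φ (conjIrr N g θ) = Φ θ := by
    intro g θ
    rw [hΦ]
    simp only [hinv g θ]
  have hE := isClassFunction_extend_coeffT N Φ hinvΦ
  have h1 : ∑ g : G, extendByZero N (coeffT Φ) g * ((χ₀ : G → ℂ) g / (χ₀ : G → ℂ) 1) = 1 := by
    rw [spec_extend_over N Φ hinvΦ χ₀ θ₀ hcon, hΦ]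
    exact if_pos hθ₀
  have hcl : IsClassFunction G (fun g => extendByZero N (coeffT Φ) g
      * ((χ₀ : G → ℂ) g / (χ₀ : G → ℂ) 1)) := by
    intro g k
    simp only
    rw [hE g k, (Helper2.IsIrrCharacter.isClassFunction χ₀.2) g k]
  have hex : ∃ x : G, ¬ MemLocalIdeal M (((Subgroup.centralizer ({x} : Set G)).index : ℂ)
      * (extendByZero N (coeffT Φ) x * ((χ₀ : G → ℂ) x / (χ₀ : G → ℂ) 1))) := by
    by_contra hall
    push Not at hall
    have h2 := sum_class_mem (localIdeal M hM) _ hcl hall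
    rw [h1] at h2
    exact not_memLocalIdeal_one h2
  obtain ⟨x, hx⟩ := hex
  have hxN : x ∈ N := by
    by_contra hn
    apply hx
    rw [extendByZero_not_mem N _ x hn, zero_mul, mul_zero]
    exact MemLocalIdeal.zero hM.ne_top
  have hEx : extendByZero N (coeffT Φ) x = blockCoeff b (⟨x, hxN⟩ : N) := by
    rw [blockCoeff_eq_coeffT, ← hΦ]
    exact extendByZero_coe N (coeffT Φ) ⟨x, hxN⟩
  have hprod : ((Subgroup.centralizer ({x} : Set G)).index : ℂ)
      * (extendByZero N (coeffT Φ) x * ((χ₀ : G → ℂ) x / (χ₀ : G → ℂ) 1))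
      = blockCoeff b (⟨x, hxN⟩ : N) * centralChar (χ₀ : G → ℂ) x := by
    rw [hEx]
    unfold centralChar
    ring
  rw [hprod] at hx
  have haR := blockCoeff_memLocalRing hM hb (⟨x, hxN⟩ : N)
  have hωR : MemLocalRing M (centralChar (χ₀ : G → ℂ) x) :=
    memLocalRing_of_isIntegral hM.ne_top (centralChar_isIntegral χ₀ x)
  have ha : ¬ MemLocalIdeal M (blockCoeff b (⟨x, hxN⟩ : N)) :=
    fun h => hx (MemLocalIdeal.mul_right hM h hωR)
  have hω : ¬ MemLocalIdeal M (centralChar (χ₀ : G → ℂ) x) :=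
    fun h => hx (MemLocalIdeal.mul_left hM haR h)
  have hcc : centralChar (χ₀ : G → ℂ) x = inducedCentralChar N (θ₀ : N → ℂ) x :=
    (constituent_iff_centralChar N χ₀ θ₀).1 hcon ⟨x, hxN⟩
  rw [hcc] at hω
  obtain ⟨h, hconj, hh⟩ := exists_conj_centralChar_of_induced hM N θ₀ x hω
  obtain ⟨t, ht⟩ := isConj_iff.1 hconj
  refine ⟨h, ?_, hh, ?_⟩
  · have e : h = ⟨t * ((⟨x, hxN⟩ : N) : G) * t⁻¹, hN.conj_mem _ hxN t⟩ := Subtype.ext ht.symm
    rw [blockCoeff_eq_coeffT, ← hΦ, e, coeffT_conj_invariant N Φ hinvΦ t ⟨x, hxN⟩, hΦ,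
      ← blockCoeff_eq_coeffT]
    exact ha
  · rw [← ht, centralChar_conj, hcc]
    exact hω

/-- The defect of an invariant block and the centralizer orders at a good class. -/
theorem defect_of_good_class [Fact p.Prime] (hpM : IsPModular p M) (N : Subgroup G)
    [hN : N.Normal] [Fintype N] [Fintype (IrrCharacter N)] (b : Set (IrrCharacter N))
    (hb : IsPBlock M b) (hinv : ∀ (g : G) (θ : IrrCharacter N), conjIrr N g θ ∈ b ↔ θ ∈ b)
    (χ₀ : IrrCharacter G) (θ₀ : IrrCharacter N) (hθ₀ : θ₀ ∈ b)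
    (hcon : classInner (fun n : N => (χ₀ : G → ℂ) n) (θ₀ : N → ℂ) ≠ 0) (y : N)
    (h4a : ¬ MemLocalIdeal M (blockCoeff b y))
    (h4b : ¬ MemLocalIdeal M (centralChar (θ₀ : N → ℂ) y))
    (h4c : ¬ MemLocalIdeal M (centralChar (χ₀ : G → ℂ) (y : G))) :
    blockDefect p b = (Nat.card (Subgroup.centralizer ({y} : Set N))).factorization p ∧
    (Nat.card (Subgroup.centralizer ({(y : G)} : Set G))).factorization p
      = (Nat.card (Subgroup.centralizer ({y} : Set N))).factorization p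
        + N.index.factorization p := by
  classical
  have hM := hpM.2.1.isPrime
  have hp : p.Prime := Fact.out
  refine ⟨le_antisymm (blockDefect_le_of_centralChar hpM hb θ₀ hθ₀ y h4b)
    (le_blockDefect_of_coeff hpM hb y h4a), ?_⟩
  obtain ⟨C, hC⟩ : ∃ C : Subgroup G, C = Subgroup.centralizer ({(y : G)} : Set G) := ⟨_, rfl⟩
  obtain ⟨T, hT⟩ : ∃ T : Subgroup G, T = N ⊔ C := ⟨_, rfl⟩
  have : Fintype (G ⧸ T) := Fintype.ofFinite _
  obtain ⟨F, hFdef⟩ : ∃ F : G → ℂ, F = fun t =>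
      centralChar ((conjIrr N t θ₀ : IrrCharacter N) : N → ℂ) y := ⟨_, rfl⟩
  have hθ1 : (θ₀ : N → ℂ) 1 ≠ 0 := Helper24.irr_one_ne_zero θ₀.2
  have hidxN : ((Subgroup.centralizer ({y} : Set N)).index : ℂ) ≠ 0 :=
    Nat.cast_ne_zero.2 Subgroup.index_ne_zero_of_finite
  have hF1 : ∀ t : G, F t = ((Subgroup.centralizer ({y} : Set N)).index : ℂ)
      * (θ₀ : N → ℂ) ⟨t * (y : G) * t⁻¹, hN.conj_mem _ y.2 t⟩ / (θ₀ : N → ℂ) 1 := by
    intro t
    rw [hFdef]
    simp only
    rw [conjIrr_coe]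
    unfold centralChar
    rw [Helper6.conjFun_apply, Helper6.conjFun_apply]
    have e : (⟨t * ((1 : N) : G) * t⁻¹, hN.conj_mem _ (1 : N).2 t⟩ : N) = 1 :=
      Subtype.ext (by simp)
    rw [e]
  have hFinv : ∀ t : G, ∀ c ∈ T, F (t * c) = F t := by
    intro t c hc
    rw [hT, ← SetLike.mem_coe, Subgroup.normal_mul N C] at hc
    obtain ⟨n, hn, c', hc', rfl⟩ := Set.mem_mul.1 hc
    rw [hF1, hF1]
    have hc'y : c' * (y : G) * c'⁻¹ = (y : G) := by
      rw [SetLike.mem_coe, hC, Subgroup.mem_centralizer_singleton_iff] at hc'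
      rw [hc', mul_inv_cancel_right]
    have e : (⟨t * (n * c') * (y : G) * (t * (n * c'))⁻¹, hN.conj_mem _ y.2 (t * (n * c'))⟩ : N)
        = (⟨t * n * t⁻¹, hN.conj_mem _ hn t⟩ : N)
          * ⟨t * (y : G) * t⁻¹, hN.conj_mem _ y.2 t⟩
          * (⟨t * n * t⁻¹, hN.conj_mem _ hn t⟩ : N)⁻¹ := by
      apply Subtype.ext
      show t * (n * c') * (y : G) * (t * (n * c'))⁻¹
        = t * n * t⁻¹ * (t * (y : G) * t⁻¹) * (t * n * t⁻¹)⁻¹
      calc t * (n * c') * (y : G) * (t * (n * c'))⁻¹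
          = t * n * (c' * (y : G) * c'⁻¹) * n⁻¹ * t⁻¹ := by group
        _ = t * n * (y : G) * n⁻¹ * t⁻¹ := by rw [hc'y]
        _ = t * n * t⁻¹ * (t * (y : G) * t⁻¹) * (t * n * t⁻¹)⁻¹ := by group
    rw [e, (Helper2.IsIrrCharacter.isClassFunction θ₀.2) _ _]
  have hFR : ∀ t : G, MemLocalRing M (F t) := by
    intro t
    rw [hFdef]
    exact memLocalRing_of_isIntegral hM.ne_top (centralChar_isIntegral _ y)
  have hFJ : ∀ t : G, MemLocalIdeal M (F t - F 1) := by
    intro t
    rw [hFdef]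
    simp only
    rw [conjIrr_one]
    exact sameBlock_of_mem_block hM hb ((hinv t θ₀).2 hθ₀) hθ₀ y
  have hK1 := index_centralizer_eq_mul N y
  rw [← hC, ← hT] at hK1
  have hsum : inducedCentralChar N (θ₀ : N → ℂ) (y : G) = ∑ q : G ⧸ T, F (Quotient.out q) := by
    rw [inducedCentralChar_eq]
    unfold centralChar
    rw [Helper6.indFun_one]
    unfold indFun
    have h1 : ∑ x : G, extendByZero N (θ₀ : N → ℂ) (x⁻¹ * (y : G) * x)
        = ∑ t : G, extendByZero N (θ₀ : N → ℂ) (t * (y : G) * t⁻¹) := by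
      rw [← Equiv.sum_comp (Equiv.inv G)]
      refine Finset.sum_congr rfl fun x _ => ?_
      simp only [Equiv.inv_apply, inv_inv]
    have h2 : ∀ t : G, extendByZero N (θ₀ : N → ℂ) (t * (y : G) * t⁻¹)
        = F t * ((θ₀ : N → ℂ) 1 / ((Subgroup.centralizer ({y} : Set N)).index : ℂ)) := by
      intro t
      rw [hF1]
      have := extendByZero_coe N (θ₀ : N → ℂ) ⟨t * (y : G) * t⁻¹, hN.conj_mem _ y.2 t⟩
      rw [this]
      field_simp
    rw [h1, Finset.sum_congr rfl (fun t _ => h2 t), ← Finset.sum_mul,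
      sum_right_invariant T F hFinv, ← hC, hK1]
    have hTG : (Nat.card T : ℂ) * (T.index : ℂ) = (Nat.card G : ℂ) := by
      rw [← Nat.cast_mul, Subgroup.card_mul_index]
    have hG0 : (Nat.card G : ℂ) ≠ 0 := Nat.cast_ne_zero.2 Nat.card_pos.ne'
    have hN0 : (Nat.card N : ℂ) ≠ 0 := Nat.cast_ne_zero.2 Nat.card_pos.ne'
    rw [← hTG]
    have hT0 : (Nat.card T : ℂ) ≠ 0 := Nat.cast_ne_zero.2 Nat.card_pos.ne'
    have hTi0 : (T.index : ℂ) ≠ 0 := Nat.cast_ne_zero.2 Subgroup.index_ne_zero_of_finite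
    push_cast
    field_simp
  have hnd : ¬ p ∣ T.index := by
    intro hdvd
    apply h4c
    have hcc : centralChar (χ₀ : G → ℂ) (y : G) = inducedCentralChar N (θ₀ : N → ℂ) (y : G) :=
      (constituent_iff_centralChar N χ₀ θ₀).1 hcon y
    rw [hcc, hsum]
    have h3 : ∑ q : G ⧸ T, F (Quotient.out q)
        = ∑ q : G ⧸ T, (F (Quotient.out q) - F 1) + (T.index : ℂ) * F 1 := by
      rw [Finset.sum_sub_distrib, Finset.sum_const, Finset.card_univ, nsmul_eq_mul,
        Subgroup.index, Nat.card_eq_fintype_card]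
      ring
    rw [h3]
    refine MemLocalIdeal.add hM (memLocalIdeal_sum hM _ _ fun q _ => hFJ _) ?_
    exact MemLocalIdeal.mul_right hM ((memLocalIdeal_natCast_iff hpM _).2 hdvd) (hFR 1)
  have hT0 : T.index ≠ 0 := Subgroup.index_ne_zero_of_finite
  have hiN0 : (Subgroup.centralizer ({y} : Set N)).index ≠ 0 := Subgroup.index_ne_zero_of_finite
  have e1 := factorization_card_eq (p := p) (y : G)
  have e2 := factorization_card_eq (p := p) y
  rw [← hC] at e1 ⊢
  have e3 : C.index.factorization p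
      = (Subgroup.centralizer ({y} : Set N)).index.factorization p := by
    rw [hK1, Nat.factorization_mul hT0 hiN0, Finsupp.add_apply,
      Nat.factorization_eq_zero_of_not_dvd hnd, zero_add]
  have e4 : (Nat.card G).factorization p = (Nat.card N).factorization p
      + N.index.factorization p := by
    rw [← Subgroup.card_mul_index N, Nat.factorization_mul Nat.card_pos.ne'
      Subgroup.index_ne_zero_of_finite, Finsupp.add_apply]
  omega

/-- Some block covering the invariant block `b` has a unit idempotent coefficient wherever `b`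
does. -/
theorem exists_cover_coeff (hM : M.IsPrime) (N : Subgroup G) [hN : N.Normal] [Fintype N]
    [Fintype (IrrCharacter N)] (b : Set (IrrCharacter N)) (hb : IsPBlock M b)
    (hinv : ∀ (g : G) (θ : IrrCharacter N), conjIrr N g θ ∈ b ↔ θ ∈ b) (y : N)
    (h4a : ¬ MemLocalIdeal M (blockCoeff b y)) :
    ∃ B₁ : Set (IrrCharacter G), IsPBlock M B₁ ∧
      (∃ χ ∈ B₁, ∃ θ ∈ b, classInner (fun n : N => (χ : G → ℂ) n) (θ : N → ℂ) ≠ 0) ∧
      ¬ MemLocalIdeal M (blockCoeff B₁ (y : G)) := by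
  classical
  obtain ⟨Φ, hΦ⟩ : ∃ Φ : IrrCharacter N → ℂ, Φ = fun θ => if θ ∈ b then (1 : ℂ) else 0 :=
    ⟨_, rfl⟩
  have hinvΦ : ∀ (g : G) (θ : IrrCharacter N), Φ (conjIrr N g θ) = Φ θ := by
    intro g θ
    rw [hΦ]
    simp only [hinv g θ]
  have hE := isClassFunction_extend_coeffT N Φ hinvΦ
  obtain ⟨Ψ, hΨdef⟩ : ∃ Ψ : IrrCharacter G → ℂ, Ψ = fun χ : IrrCharacter G =>
      ∑ h : G, extendByZero N (coeffT Φ) h * ((χ : G → ℂ) h / (χ : G → ℂ) 1) := ⟨_, rfl⟩
  have hΨ : ∀ (χ : IrrCharacter G) (θ : IrrCharacter N),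
      classInner (fun n : N => (χ : G → ℂ) n) (θ : N → ℂ) ≠ 0 → Ψ χ = Φ θ := by
    intro χ θ hcon
    rw [hΨdef]
    exact spec_extend_over N Φ hinvΦ χ θ hcon
  have hco : coeffT Ψ (y : G) = blockCoeff b y := by
    rw [hΨdef, coeffT_forward _ hE (y : G), extendByZero_coe, blockCoeff_eq_coeffT, ← hΦ]
  by_contra hall
  push Not at hall
  obtain ⟨S, hS⟩ : ∃ S : Finset (Set (IrrCharacter G)),
      S = Finset.univ.image (fun χ : IrrCharacter G => blockOf M (χ : G → ℂ)) := ⟨_, rfl⟩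
  have hsum : Ψ = ∑ B' ∈ S, fun χ : IrrCharacter G => if χ ∈ B' then Ψ χ else 0 := by
    funext χ
    rw [Finset.sum_apply]
    rw [Finset.sum_eq_single (blockOf M (χ : G → ℂ))]
    · exact (if_pos (mem_blockOf_self hM.ne_top χ)).symm
    · intro B' hB' hne
      rw [if_neg]
      intro hχB
      rw [hS] at hB'
      obtain ⟨χ₁, _, rfl⟩ := Finset.mem_image.1 hB'
      exact hne (blockOf_eq_of_mem hM hχB)
    · intro h
      rw [hS] at h
      exact absurd (Finset.mem_image_of_mem _ (Finset.mem_univ χ)) h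
  apply h4a
  rw [← hco, hsum, coeffT_finset_sum]
  refine memLocalIdeal_sum hM _ _ fun B' hB' => ?_
  rw [hS] at hB'
  obtain ⟨χ₁, _, rfl⟩ := Finset.mem_image.1 hB'
  by_cases hcov : ∃ χ ∈ blockOf M (χ₁ : G → ℂ), ∃ θ ∈ b,
      classInner (fun n : N => (χ : G → ℂ) n) (θ : N → ℂ) ≠ 0
  · have e : (fun χ : IrrCharacter G => if χ ∈ blockOf M (χ₁ : G → ℂ) then Ψ χ else 0)
        = fun χ : IrrCharacter G => if χ ∈ blockOf M (χ₁ : G → ℂ) then (1 : ℂ) else 0 := by
      funext χ
      by_cases hχ : χ ∈ blockOf M (χ₁ : G → ℂ)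
      · rw [if_pos hχ, if_pos hχ]
        obtain ⟨χ', hχ', θ', hθ', hcon'⟩ := hcov
        obtain ⟨θ, hθ⟩ := exists_under N χ
        have hs : SameBlock M (χ' : G → ℂ) (χ : G → ℂ) :=
          sameBlock_trans hM (sameBlock_symm (mem_blockOf.1 hχ')) (mem_blockOf.1 hχ)
        obtain ⟨g, θ'', hθ'', rfl⟩ := cover_conj hM N hb hs hθ' hcon' hθ
        rw [hΨ χ _ hθ, hΦ]
        exact if_pos ((hinv g θ'').2 hθ'')
      · rw [if_neg hχ, if_neg hχ]
    rw [e, ← blockCoeff_eq_coeffT]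
    exact hall _ ⟨χ₁, rfl⟩ hcov
  · have e : (fun χ : IrrCharacter G => if χ ∈ blockOf M (χ₁ : G → ℂ) then Ψ χ else 0)
        = (0 : IrrCharacter G → ℂ) := by
      funext χ
      by_cases hχ : χ ∈ blockOf M (χ₁ : G → ℂ)
      · rw [if_pos hχ]
        obtain ⟨θ, hθ⟩ := exists_under N χ
        rw [hΨ χ _ hθ, hΦ]
        simp only [Pi.zero_apply]
        rw [if_neg]
        intro hθb
        exact hcov ⟨χ, hχ, θ, hθb, hθ⟩
      · rw [if_neg hχ]
        rfl
    rw [e, coeffT_zero]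
    exact MemLocalIdeal.zero hM.ne_top

end Cover

section Main

/-- A block of maximal defect covering a `G`-invariant block of a normal subgroup. -/
theorem fong_max_defect {G : Type*} [Group G] [Fintype G] {p : ℕ} [Fact p.Prime]
    {M : Ideal AlgInt} (hpM : IsPModular p M) (N : Subgroup G) [hN : N.Normal] [Fintype N]
    (b : Set (IrrCharacter N)) (hb : IsPBlock M b)
    (hinv0 : ∀ g : G, ∀ θ ∈ b, ∀ θ' : IrrCharacter N,
      (∀ n : N, (θ' : N → ℂ) n = (θ : N → ℂ) ⟨g * n * g⁻¹, hN.conj_mem n n.2 g⟩) → θ' ∈ b)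
    (B : Set (IrrCharacter G)) (hB : IsPBlock M B)
    (hcov : ∃ χ ∈ B, ∃ θ ∈ b, classInner (fun n : N => (χ : G → ℂ) n) (θ : N → ℂ) ≠ 0)
    (hmax : ∀ B' : Set (IrrCharacter G), IsPBlock M B' →
      (∃ χ ∈ B', ∃ θ ∈ b, classInner (fun n : N => (χ : G → ℂ) n) (θ : N → ℂ) ≠ 0) →
      blockDefect p B' ≤ blockDefect p B)
    (P : Subgroup G) (hP : IsDefectGroup p M B P) :
    ¬ p ∣ (P ⊔ N).index ∧ IsDefectGroup p M b ((P ⊓ N).subgroupOf N) ∧
      blockDefect p B = blockDefect p b + N.index.factorization p := by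
  classical
  have := Helper24.finite_irrCharacter (G := G)
  have : Fintype (IrrCharacter G) := Fintype.ofFinite _
  have := Helper24.finite_irrCharacter (G := N)
  have : Fintype (IrrCharacter N) := Fintype.ofFinite _
  have hM := hpM.2.1.isPrime
  have hp : p.Prime := Fact.out
  have hinv : ∀ (g : G) (θ : IrrCharacter N), conjIrr N g θ ∈ b ↔ θ ∈ b := by
    intro g θ
    constructor
    · intro h
      have h1 := hinv0 g⁻¹ _ h (conjIrr N g⁻¹ (conjIrr N g θ)) (fun n => by
        rw [conjIrr_coe]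
        rfl)
      rwa [conjIrr_mul, mul_inv_cancel, conjIrr_one] at h1
    · intro h
      exact hinv0 g θ h (conjIrr N g θ) (fun n => by
        rw [conjIrr_coe]
        rfl)
  obtain ⟨χ₀, hχ₀, θ₀, hθ₀, hcon⟩ := hcov
  obtain ⟨y, h4a, h4b, h4c⟩ := exists_good_class hM N b hb hinv χ₀ θ₀ hθ₀ hcon
  obtain ⟨hdb, hcG⟩ := defect_of_good_class hpM N b hb hinv χ₀ θ₀ hθ₀ hcon y h4a h4b h4c
  obtain ⟨B₁, hB₁, hcov₁, hB₁y⟩ := exists_cover_coeff hM N b hb hinv y h4a
  have hdB : blockDefect p B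
      = (Nat.card (Subgroup.centralizer ({(y : G)} : Set G))).factorization p := by
    refine le_antisymm (blockDefect_le_of_centralChar hpM hB χ₀ hχ₀ (y : G) h4c) ?_
    exact (le_blockDefect_of_coeff hpM hB₁ (y : G) hB₁y).trans (hmax B₁ hB₁ hcov₁)
  have h3 : blockDefect p B = blockDefect p b + N.index.factorization p := by
    rw [hdB, hcG, hdb]
  obtain ⟨x', hconj, hx'C, _⟩ := exists_conj_central_ppart hpM B hB P hP (y : G) ⟨χ₀, hχ₀, h4c⟩
  obtain ⟨t, ht⟩ := isConj_iff.1 hconj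
  have hx'N : x' ∈ N := ht ▸ hN.conj_mem _ y.2 t
  obtain ⟨y', hy'⟩ : ∃ y' : N, y' = ⟨t * (y : G) * t⁻¹, hN.conj_mem _ y.2 t⟩ := ⟨_, rfl⟩
  have hy'G : (y' : G) = x' := by
    rw [hy']
    exact ht
  obtain ⟨Φ, hΦ⟩ : ∃ Φ : IrrCharacter N → ℂ, Φ = fun θ => if θ ∈ b then (1 : ℂ) else 0 :=
    ⟨_, rfl⟩
  have hinvΦ : ∀ (g : G) (θ : IrrCharacter N), Φ (conjIrr N g θ) = Φ θ := by
    intro g θ
    rw [hΦ]
    simp only [hinv g θ]
  have h4a' : ¬ MemLocalIdeal M (blockCoeff b y') := by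
    rw [blockCoeff_eq_coeffT, ← hΦ, hy', coeffT_conj_invariant N Φ hinvΦ t y, hΦ,
      ← blockCoeff_eq_coeffT]
    exact h4a
  have hall : ∀ θ ∈ b, ¬ MemLocalIdeal M (centralChar (θ : N → ℂ) y') := by
    intro θ hθ hmem
    apply h4b
    have h1 : centralChar ((conjIrr N t θ : IrrCharacter N) : N → ℂ) y
        = centralChar (θ : N → ℂ) y' := by
      rw [conjIrr_coe, centralChar_conjFun, hy']
    have h2 := sameBlock_of_mem_block hM hb hθ₀ ((hinv t θ).2 hθ) y
    rw [h1] at h2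
    have h5 := MemLocalIdeal.add hM h2 hmem
    rw [sub_add_cancel] at h5
    exact h5
  have h4b' := hall θ₀ hθ₀
  have h4c' : ¬ MemLocalIdeal M (centralChar (χ₀ : G → ℂ) (y' : G)) := by
    rw [hy'G, ← ht, centralChar_conj]
    exact h4c
  obtain ⟨hdb', hcG'⟩ := defect_of_good_class hpM N b hb hinv χ₀ θ₀ hθ₀ hcon y' h4a' h4b' h4c'
  have hcardC : (Nat.card (Subgroup.centralizer ({(y' : G)} : Set G))).factorization p
      = blockDefect p B := by
    rw [hdB, hy'G, ← ht, card_centralizer_conj]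
  have hcardP := card_defectGroup hpM hB P hP
  -- the subgroups
  have hQ'le : (P ⊓ N).subgroupOf N ≤ Subgroup.centralizer ({y'} : Set N) := by
    intro n hn
    rw [Subgroup.mem_subgroupOf] at hn
    rw [Subgroup.mem_centralizer_singleton_iff]
    apply Subtype.ext
    have h1 := Subgroup.mem_centralizer_iff.1 hx'C (n : G) hn.1
    show (n : G) * (y' : G) = (y' : G) * (n : G)
    rw [hy'G]
    exact h1
  have hq1 : Nat.card ((P ⊓ N).subgroupOf N) = Nat.card (P ⊓ N : Subgroup G) :=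
    Nat.card_congr (Subgroup.subgroupOfEquivOfLe inf_le_right).toEquiv
  have hq2 : Nat.card (N.subgroupOf P) = Nat.card (P ⊓ N : Subgroup G) := by
    rw [← Subgroup.inf_subgroupOf_left]
    exact Nat.card_congr (Subgroup.subgroupOfEquivOfLe inf_le_left).toEquiv
  have hq3 : Nat.card (N.subgroupOf P) * N.relIndex P = Nat.card P :=
    Subgroup.card_mul_index (N.subgroupOf P)
  have hr1 : N.relIndex P ∣ N.index := Subgroup.relIndex_dvd_index_of_normal N P
  have hq4 : Nat.card ((P ⊓ N).subgroupOf N) ∣ Nat.card (Subgroup.centralizer ({y'} : Set N)) :=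
    Subgroup.card_dvd_of_le hQ'le
  rw [hq2, hcardP] at hq3
  rw [hq1] at hq4
  obtain ⟨j, hj, hqj⟩ := (Nat.dvd_prime_pow hp).1 (Dvd.intro _ hq3)
  obtain ⟨i, hi, hri⟩ := (Nat.dvd_prime_pow hp).1 (Dvd.intro_left _ hq3)
  have hij : j + i = blockDefect p B := by
    rw [hqj, hri, ← pow_add] at hq3
    exact Nat.pow_right_injective hp.two_le hq3
  have hNi0 : N.index ≠ 0 := Subgroup.index_ne_zero_of_finite
  have hik : i ≤ N.index.factorization p := by
    rw [hri] at hr1
    exact (hp.pow_dvd_iff_le_factorization hNi0).1 hr1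
  have hjc : j ≤ (Nat.card (Subgroup.centralizer ({y'} : Set N))).factorization p := by
    rw [hqj] at hq4
    exact (hp.pow_dvd_iff_le_factorization Nat.card_pos.ne').1 hq4
  have hi_eq : i = N.index.factorization p := by omega
  have hj_eq : j = (Nat.card (Subgroup.centralizer ({y'} : Set N))).factorization p := by omega
  refine ⟨?_, ?_, h3⟩
  · intro hdvd
    have h1 : N.relIndex (P ⊔ N) * (P ⊔ N).index = N.index :=
      Subgroup.relIndex_mul_index le_sup_right
    rw [Subgroup.relIndex_sup_right P N, hri, hi_eq] at h1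
    obtain ⟨c, hc⟩ := hdvd
    have h2 : p ^ (N.index.factorization p + 1) ∣ N.index := by
      have h4 : N.index = p ^ (N.index.factorization p + 1) * c := by
        calc N.index = p ^ N.index.factorization p * (P ⊔ N).index := h1.symm
          _ = p ^ N.index.factorization p * (p * c) := congrArg _ hc
          _ = p ^ (N.index.factorization p + 1) * c := by
            rw [pow_succ, mul_assoc]
      exact ⟨c, h4⟩
    have h3 := (hp.pow_dvd_iff_le_factorization hNi0).1 h2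
    omega
  · have hdc : IsDefectClass M b y' := ⟨blockCoeff_memLocalRing hM hb y', h4a', hall⟩
    have hcard : Nat.card (((P ⊓ N).subgroupOf N).subgroupOf (Subgroup.centralizer ({y'} : Set N)))
        = p ^ (Nat.card (Subgroup.centralizer ({y'} : Set N))).factorization p := by
      rw [Nat.card_congr (Subgroup.subgroupOfEquivOfLe hQ'le).toEquiv, hq1, hqj, hj_eq]
    refine ⟨y', hdc, Sylow.ofCard _ hcard, ?_⟩
    rw [Sylow.coe_ofCard, Subgroup.map_subgroupOf_eq_of_le hQ'le]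

end Main

end Cfsg.Agent.Helper25
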