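import Cfsg.Agent.Helper25.CentralDefect
import Cfsg.Agent.Helper25.FongCover
import Cfsg.Agent.Helper25.SectionSum
import Cfsg.Agent.Helper25.CliffordCC
import Cfsg.Agent.Helper25.SchurTrace
import Cfsg.Agent.Helper25.DefectConj
import Cfsg.Agent.Helper24.ClassSum
import Cfsg.Agent.Helper6.Clifford
import Cfsg.Agent.S0924

set_option autoImplicit false
set_option linter.unusedSectionVars false

/-!
# Blocks of `G = D C_G(D)` with defect group `D` (helper25)
-/

namespace Cfsg.Agent.Helper25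

open Cfsg
open scoped ComplexConjugate

section DCGroup

variable {G : Type*} [Group G] [Fintype G]

theorem normal_of_sup_centralizer (D : Subgroup G)
    (hG : D ⊔ Subgroup.centralizer (D : Set G) = ⊤) : D.Normal := by
  rw [← Subgroup.normalizer_eq_top_iff]
  apply top_le_iff.1
  rw [← hG]
  exact sup_le Subgroup.le_normalizer (Subgroup.centralizer_le_normalizer _)

theorem exists_mul_of_sup_top (D C : Subgroup G) [D.Normal] (h : D ⊔ C = ⊤) (g : G) :
    ∃ d ∈ D, ∃ c ∈ C, g = d * c := by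
  have hg : g ∈ ((D ⊔ C : Subgroup G) : Set G) := by
    rw [h]
    exact Set.mem_univ g
  rw [Subgroup.normal_mul] at hg
  obtain ⟨d, hd, c, hc, hdc⟩ := Set.mem_mul.1 hg
  exact ⟨d, hd, c, hc, hdc.symm⟩

theorem exists_mul_of_sup_top' (D C : Subgroup G) [D.Normal] (h : D ⊔ C = ⊤) (g : G) :
    ∃ c ∈ C, ∃ d ∈ D, g = c * d := by
  have hg : g ∈ ((C ⊔ D : Subgroup G) : Set G) := by
    rw [sup_comm, h]
    exact Set.mem_univ g
  rw [Subgroup.mul_normal] at hg
  obtain ⟨c, hc, d, hd, hcd⟩ := Set.mem_mul.1 hg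
  exact ⟨c, hc, d, hd, hcd.symm⟩

theorem irr_mul_of_central_prod {χ : G → ℂ} (hχ : IsIrrCharacter G χ) (d c : G)
    (h : ∀ t : G, ∃ u v : G, t = u * v ∧ Commute u d ∧ Commute v c) :
    χ 1 * χ (d * c) = χ d * χ c := by
  have hcl := Helper2.IsIrrCharacter.isClassFunction hχ
  have h1 := Helper24.irr_class_sum_formula hχ d c
  have h2 : ∀ t : G, χ (d * (t * c * t⁻¹)) = χ (d * c) := by
    intro t
    obtain ⟨u, v, rfl, hu, hv⟩ := h t
    have hv' : v * c * v⁻¹ = c := by rw [hv.eq, mul_inv_cancel_right]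
    have e : d * (u * v * c * (u * v)⁻¹) = u * (d * c) * u⁻¹ := by
      calc d * (u * v * c * (u * v)⁻¹) = d * (u * (v * c * v⁻¹) * u⁻¹) := by group
        _ = (d * u) * c * u⁻¹ := by rw [hv']; group
        _ = (u * d) * c * u⁻¹ := by rw [hu.eq]
        _ = u * (d * c) * u⁻¹ := by group
    rw [e, hcl]
  rw [Finset.sum_congr rfl (fun t _ => h2 t), Finset.sum_const, Finset.card_univ, nsmul_eq_mul,
    ← Nat.card_eq_fintype_card] at h1
  have hG0 : (Nat.card G : ℂ) ≠ 0 := Nat.cast_ne_zero.2 Nat.card_pos.ne'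
  apply mul_left_cancel₀ hG0
  linear_combination h1

theorem conj_invariant_of_central_prod (N : Subgroup G) [hN : N.Normal]
    (hdec : ∀ g : G, ∃ u ∈ N, ∃ v ∈ Subgroup.centralizer (N : Set G), g = u * v)
    (θ : IrrCharacter N) (g : G) (n : N) :
    (θ : N → ℂ) ⟨g * n * g⁻¹, hN.conj_mem (n : G) n.2 g⟩ = (θ : N → ℂ) n := by
  obtain ⟨u, hu, v, hv, rfl⟩ := hdec g
  have hvn : v * (n : G) * v⁻¹ = n := by
    have := (Subgroup.mem_centralizer_iff.1 hv) (n : G) n.2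
    rw [← this, mul_inv_cancel_right]
  have e : (⟨u * v * n * (u * v)⁻¹, hN.conj_mem (n : G) n.2 (u * v)⟩ : N)
      = ⟨u, hu⟩ * n * (⟨u, hu⟩ : N)⁻¹ := by
    apply Subtype.ext
    simp only [Subgroup.coe_mul, Subgroup.coe_inv]
    calc u * v * n * (u * v)⁻¹ = u * (v * n * v⁻¹) * u⁻¹ := by group
      _ = u * n * u⁻¹ := by rw [hvn]
  rw [e]
  exact (Helper2.IsIrrCharacter.isClassFunction θ.2) n ⟨u, hu⟩

theorem exists_ratio_char [Fintype (IrrCharacter G)] (N : Subgroup G) [hN : N.Normal] [Fintype N]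
    (hdec : ∀ g : G, ∃ u ∈ N, ∃ v ∈ Subgroup.centralizer (N : Set G), g = u * v)
    (χ : IrrCharacter G) :
    ∃ θ : IrrCharacter N, classInner (fun n : N => (χ : G → ℂ) n) (θ : N → ℂ) ≠ 0 ∧
      ∀ n : N, (χ : G → ℂ) n / (χ : G → ℂ) 1 = (θ : N → ℂ) n / (θ : N → ℂ) 1 := by
  obtain ⟨θ, hθ⟩ := exists_under N χ
  refine ⟨θ, hθ, fun n => ?_⟩
  have hinv := conj_invariant_of_central_prod N hdec θ
  have h1 := (constituent_iff_ratio N χ θ).1 hθ n
  have h2 := Helper6.indFun_apply_of_invariant N (θ : N → ℂ) hinv n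
  have h3 := Helper6.indFun_apply_of_invariant N (θ : N → ℂ) hinv 1
  rw [Subgroup.coe_one] at h3
  rw [h1, h2, h3]
  have hidx : (N.index : ℂ) ≠ 0 := Nat.cast_ne_zero.2 Subgroup.index_ne_zero_of_finite
  rw [mul_div_mul_left _ _ hidx]

theorem sum_mul_subgroups (D C : Subgroup G) [Fintype D] [Fintype C]
    [Fintype (D ⊓ C : Subgroup G)]
    (hdec : ∀ g : G, ∃ d ∈ D, ∃ c ∈ C, g = d * c) (F : G → ℂ) :
    ∑ d : D, ∑ c : C, F ((d : G) * c) = (Nat.card (D ⊓ C : Subgroup G) : ℂ) * ∑ g : G, F g := by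
  classical
  have h1 : ∀ d : D, ∑ c : C, F ((d : G) * c)
      = ∑ g : G, if (d : G)⁻¹ * g ∈ C then F g else 0 := by
    intro d
    rw [← sum_subgroup_ite C (fun y => F ((d : G) * y))]
    refine Fintype.sum_equiv (Equiv.mulLeft (d : G)) _ _ (fun y => ?_)
    simp only [Equiv.coe_mulLeft, inv_mul_cancel_left]
  rw [Finset.sum_congr rfl (fun d _ => h1 d), Finset.sum_comm, Finset.mul_sum]
  refine Finset.sum_congr rfl fun g _ => ?_
  obtain ⟨d₀, hd₀, c₀, hc₀, rfl⟩ := hdec g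
  have h2 : ∀ d : D, ((d : G)⁻¹ * (d₀ * c₀) ∈ C) ↔ (((⟨d₀, hd₀⟩ : D)⁻¹ * d : D) : G) ∈ C := by
    intro d
    simp only [Subgroup.coe_mul, Subgroup.coe_inv]
    constructor
    · intro h
      have e : d₀⁻¹ * (d : G) = c₀ * ((d : G)⁻¹ * (d₀ * c₀))⁻¹ := by group
      rw [e]
      exact C.mul_mem hc₀ (C.inv_mem h)
    · intro h
      have e : (d : G)⁻¹ * (d₀ * c₀) = (d₀⁻¹ * (d : G))⁻¹ * c₀ := by group
      rw [e]
      exact C.mul_mem (C.inv_mem h) hc₀
  have h3 : ∑ d : D, (if (d : G)⁻¹ * (d₀ * c₀) ∈ C then F (d₀ * c₀) else 0)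
      = ∑ d : D, (if ((d : D) : G) ∈ C then F (d₀ * c₀) else 0) := by
    exact Fintype.sum_equiv (Equiv.mulLeft ((⟨d₀, hd₀⟩ : D)⁻¹))
      (fun d : D => if (d : G)⁻¹ * (d₀ * c₀) ∈ C then F (d₀ * c₀) else 0)
      (fun d : D => if ((d : D) : G) ∈ C then F (d₀ * c₀) else 0)
      (fun d => if_congr (h2 d) rfl rfl)
  rw [h3, ← sum_subgroup_ite D (fun y => if y ∈ C then F (d₀ * c₀) else 0)]
  have h5 : ∀ y : G, (if y ∈ D then (if y ∈ C then F (d₀ * c₀) else 0) else 0)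
      = if y ∈ (D ⊓ C : Subgroup G) then F (d₀ * c₀) else 0 := by
    intro y
    by_cases hyD : y ∈ D
    · by_cases hyC : y ∈ C
      · rw [if_pos hyD, if_pos hyC, if_pos (Subgroup.mem_inf.2 ⟨hyD, hyC⟩)]
      · rw [if_pos hyD, if_neg hyC, if_neg (fun h => hyC (Subgroup.mem_inf.1 h).2)]
    · rw [if_neg hyD, if_neg (fun h => hyD (Subgroup.mem_inf.1 h).1)]
  rw [Finset.sum_congr rfl (fun y _ => h5 y),
    sum_subgroup_ite (D ⊓ C : Subgroup G) (fun _ => F (d₀ * c₀)), Finset.sum_const,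
    Finset.card_univ, nsmul_eq_mul, Nat.card_eq_fintype_card]

theorem orderOf_mem_pgroup {p : ℕ} [Fact p.Prime] {P : Subgroup G} (hP : IsPGroup p P) {z : G} (hz : z ∈ P) :
    ∃ k : ℕ, orderOf z = p ^ k := by
  obtain ⟨k, hk⟩ := (IsPGroup.iff_orderOf.1 hP) ⟨z, hz⟩
  rw [Subgroup.orderOf_mk] at hk
  exact ⟨k, hk⟩

theorem sum_section_normal {p : ℕ} [Fact p.Prime] (D : Subgroup G) [Fintype D]
    (hDp : IsPGroup p D)
    (hreg : ∀ y : G, ¬ p ∣ orderOf y → y ∈ Subgroup.centralizer (D : Set G))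
    (F : G → ℂ) (hF : ∀ g y : G, IsPPart p g y → y ∉ D → F g = 0) :
    ∑ g : G, F g = ∑ d : D, ∑ y : G, if p ∣ orderOf y then 0 else F ((d : G) * y) := by
  classical
  have h1 : ∀ g : G, F g = ∑ d : D, if IsPPart p g (d : G) then F g else 0 := by
    intro g
    obtain ⟨y, hy⟩ := exists_isPPart p g
    by_cases hyD : y ∈ D
    · rw [Finset.sum_eq_single (⟨y, hyD⟩ : D)]
      · rw [if_pos hy]
      · intro d _ hd
        rw [if_neg]
        intro hd'
        exact hd (Subtype.ext (isPPart_unique hd' hy))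
      · intro h
        exact absurd (Finset.mem_univ _) h
    · rw [hF g y hy hyD]
      simp
  rw [Finset.sum_congr rfl (fun g _ => h1 g), Finset.sum_comm]
  refine Finset.sum_congr rfl fun d _ => ?_
  have key : ∀ y : G, (if IsPPart p ((d : G) * y) (d : G) then F ((d : G) * y) else 0)
      = (if p ∣ orderOf y then 0 else F ((d : G) * y)) := by
    intro y
    by_cases hy : p ∣ orderOf y
    · rw [if_pos hy, if_neg]
      intro h
      exact ((isPPart_mul_iff (d : G) y).1 h).2.2 hy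
    · rw [if_neg hy, if_pos]
      rw [isPPart_mul_iff]
      exact ⟨(Subgroup.mem_centralizer_iff.1 (hreg y hy)) (d : G) d.2,
        orderOf_mem_pgroup hDp d.2, hy⟩
  exact (Fintype.sum_equiv (Equiv.mulLeft (d : G))
    (fun y => if p ∣ orderOf y then 0 else F ((d : G) * y))
    (fun g => if IsPPart p g (d : G) then F g else 0) (fun y => (key y).symm)).symm

end DCGroup

section DCBlock

variable {G : Type*} [Group G] [Fintype G] [Fintype (IrrCharacter G)] {M : Ideal AlgInt} {p : ℕ}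
  [Fact p.Prime]

theorem centralizer_index_pow (D : Subgroup G) [D.Normal] (hDp : IsPGroup p D)
    (hG : D ⊔ Subgroup.centralizer (D : Set G) = ⊤) :
    ∃ k : ℕ, (Subgroup.centralizer (D : Set G)).index = p ^ k := by
  have hp : p.Prime := Fact.out
  have h1 : (Subgroup.centralizer (D : Set G)).relIndex (D ⊔ Subgroup.centralizer (D : Set G))
      = (Subgroup.centralizer (D : Set G)).relIndex D := Subgroup.relIndex_sup_right D _
  rw [hG, Subgroup.relIndex_top_right] at h1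
  obtain ⟨n, hn⟩ := hDp.exists_card_eq
  have h2 : (Subgroup.centralizer (D : Set G)).relIndex D ∣ Nat.card D := by
    unfold Subgroup.relIndex
    exact Subgroup.index_dvd_card _
  rw [hn, ← h1] at h2
  obtain ⟨k, _, hk⟩ := (Nat.dvd_prime_pow hp).1 h2
  exact ⟨k, hk⟩

theorem block_eq_blockOf_of_mem (hM : M.IsPrime) {B : Set (IrrCharacter G)} (hB : IsPBlock M B)
    {χ : IrrCharacter G} (hχ : χ ∈ B) : B = blockOf M (χ : G → ℂ) := by
  obtain ⟨χ₀, rfl⟩ := hB
  exact blockOf_eq_of_mem hM hχ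

theorem vanish_off_normal_defect (hpM : IsPModular p M) (D : Subgroup G) [hDn : D.Normal]
    {B : Set (IrrCharacter G)} (hB : IsPBlock M B) (hD : IsDefectGroup p M B D)
    (χ : IrrCharacter G) (hχ : χ ∈ B) (g y : G) (hy : IsPPart p g y) (hyD : y ∉ D) :
    (χ : G → ℂ) g = 0 := by
  have hM := hpM.2.1.isPrime
  have hBχ := block_eq_blockOf_of_mem hM hB hχ
  refine Cfsg.Agent.S0924.result p M hpM χ g y hy (fun D' hD' hyD' => hyD ?_)
  rw [← hBχ] at hD'
  obtain ⟨t, ht⟩ := defectGroup_le_conj hpM hB hD hD'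
  obtain ⟨d, hd, hdy⟩ := Subgroup.mem_map.1 (ht hyD')
  rw [← hdy]
  exact hDn.conj_mem d hd t

theorem dec_centralizer (D : Subgroup G) [D.Normal]
    (hG : D ⊔ Subgroup.centralizer (D : Set G) = ⊤) (g : G) :
    ∃ u ∈ Subgroup.centralizer (D : Set G),
      ∃ v ∈ Subgroup.centralizer ((Subgroup.centralizer (D : Set G) : Subgroup G) : Set G),
        g = u * v := by
  obtain ⟨c, hc, d, hd, h⟩ := exists_mul_of_sup_top' D _ hG g
  refine ⟨c, hc, d, ?_, h⟩
  exact Subgroup.mem_centralizer_iff.2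
    (fun h' hh' => ((Subgroup.mem_centralizer_iff.1 hh') d hd).symm)

theorem dc_mul (D : Subgroup G) [D.Normal]
    (hG : D ⊔ Subgroup.centralizer (D : Set G) = ⊤) (χ : IrrCharacter G) (d c : G)
    (hd : d ∈ D) (hc : c ∈ Subgroup.centralizer (D : Set G)) :
    (χ : G → ℂ) 1 * (χ : G → ℂ) (d * c) = (χ : G → ℂ) d * (χ : G → ℂ) c := by
  apply irr_mul_of_central_prod χ.2
  intro t
  obtain ⟨c₁, hc₁, d₁, hd₁, h⟩ := exists_mul_of_sup_top' D _ hG t
  refine ⟨c₁, d₁, h, ?_, ?_⟩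
  · exact ((Subgroup.mem_centralizer_iff.1 hc₁) d hd).symm
  · exact (Subgroup.mem_centralizer_iff.1 hc) d₁ hd₁

theorem irr_one_eq_degree {H : Type*} [Group H] (χ : IrrCharacter H) :
    (χ : H → ℂ) 1 = (charDegree (χ : H → ℂ) : ℂ) :=
  Helper24.charDegree_spec (Helper24.isCharacter_of_irr χ.2)

theorem irr_one_ne_zero' {H : Type*} [Group H] [Fintype H] (χ : IrrCharacter H) :
    (χ : H → ℂ) 1 ≠ 0 := by
  rw [irr_one_eq_degree]
  exact Nat.cast_ne_zero.2 (charDegree_irr_ne_zero χ)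

theorem degree_eq_mul_of_ratio (D : Subgroup G) [D.Normal] [Fintype D]
    (hG : D ⊔ Subgroup.centralizer (D : Set G) = ⊤)
    [Fintype (Subgroup.centralizer (D : Set G))]
    (χ : IrrCharacter G) (ζ : IrrCharacter D)
    (ψ : IrrCharacter (Subgroup.centralizer (D : Set G)))
    (hζ : ∀ d : D, (χ : G → ℂ) d / (χ : G → ℂ) 1 = (ζ : D → ℂ) d / (ζ : D → ℂ) 1)
    (hψ : ∀ c : Subgroup.centralizer (D : Set G),
      (χ : G → ℂ) c / (χ : G → ℂ) 1
        = (ψ : Subgroup.centralizer (D : Set G) → ℂ) c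
          / (ψ : Subgroup.centralizer (D : Set G) → ℂ) 1) :
    charDegree (χ : G → ℂ) = charDegree (ζ : D → ℂ)
      * charDegree (ψ : Subgroup.centralizer (D : Set G) → ℂ) := by
  classical
  have : Fintype (D ⊓ Subgroup.centralizer (D : Set G) : Subgroup G) := Fintype.ofFinite _
  have hdec := fun g => exists_mul_of_sup_top D _ hG g
  have hχ1 := irr_one_eq_degree χ
  have hζ1 := irr_one_eq_degree ζ
  have hψ1 := irr_one_eq_degree ψ
  have hχ0 := irr_one_ne_zero' χ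
  have hζ0 := irr_one_ne_zero' ζ
  have hψ0 := irr_one_ne_zero' ψ
  obtain ⟨r, hr⟩ : ∃ r : ℂ, r = (χ : G → ℂ) 1
      / ((ζ : D → ℂ) 1 * (ψ : Subgroup.centralizer (D : Set G) → ℂ) 1) := ⟨_, rfl⟩
  have hmul : ∀ (d : D) (c : Subgroup.centralizer (D : Set G)),
      (χ : G → ℂ) ((d : G) * c) = r * ((ζ : D → ℂ) d
        * (ψ : Subgroup.centralizer (D : Set G) → ℂ) c) := by
    intro d c
    have h1 := dc_mul D hG χ d c d.2 c.2
    have h2 := hζ d
    have h3 := hψ c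
    rw [div_eq_div_iff hχ0 hζ0] at h2
    rw [div_eq_div_iff hχ0 hψ0] at h3
    rw [hr, eq_comm, div_mul_eq_mul_div, div_eq_iff (mul_ne_zero hζ0 hψ0)]
    apply mul_left_cancel₀ hχ0
    linear_combination (-((ζ : D → ℂ) 1 * (ψ : Subgroup.centralizer (D : Set G) → ℂ) 1)) * h1
      - ((χ : G → ℂ) c * (ψ : Subgroup.centralizer (D : Set G) → ℂ) 1) * h2
      - ((ζ : D → ℂ) d * (χ : G → ℂ) 1) * h3
  have hrc : conj r = r := by
    rw [hr, map_div₀, map_mul, irr_one_conj, irr_one_conj, irr_one_conj]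
  have hsum1 := sum_mul_subgroups D (Subgroup.centralizer (D : Set G)) hdec
    (fun g => (χ : G → ℂ) g * conj ((χ : G → ℂ) g))
  rw [row_orth χ χ, if_pos rfl] at hsum1
  have hsum2 := sum_mul_subgroups D (Subgroup.centralizer (D : Set G)) hdec (fun _ => (1 : ℂ))
  simp only [Finset.sum_const, Finset.card_univ, nsmul_eq_mul, mul_one] at hsum2
  rw [← Nat.card_eq_fintype_card, ← Nat.card_eq_fintype_card, ← Nat.card_eq_fintype_card]
    at hsum2
  have hsum3 : ∑ d : D, ∑ c : Subgroup.centralizer (D : Set G),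
      (χ : G → ℂ) ((d : G) * c) * conj ((χ : G → ℂ) ((d : G) * c))
      = r * r * ((Nat.card D : ℂ) * (Nat.card (Subgroup.centralizer (D : Set G)) : ℂ)) := by
    have e1 := row_orth ζ ζ
    have e2 := row_orth ψ ψ
    rw [if_pos rfl] at e1 e2
    rw [← e1, ← e2, Finset.sum_mul_sum, Finset.mul_sum]
    refine Finset.sum_congr rfl fun d _ => ?_
    rw [Finset.mul_sum]
    refine Finset.sum_congr rfl fun c _ => ?_
    rw [hmul d c, map_mul, map_mul, hrc]
    ring
  rw [hsum3, hsum2] at hsum1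
  have hne : (Nat.card (D ⊓ Subgroup.centralizer (D : Set G) : Subgroup G) : ℂ)
      * (Nat.card G : ℂ) ≠ 0 :=
    mul_ne_zero (Nat.cast_ne_zero.2 Nat.card_pos.ne') (Nat.cast_ne_zero.2 Nat.card_pos.ne')
  have hrr : r * r = 1 := by
    apply mul_right_cancel₀ hne
    rw [hsum1, one_mul]
  rw [hr, hχ1, hζ1, hψ1] at hrr
  have hne2 : ((charDegree (ζ : D → ℂ) : ℂ)
      * (charDegree (ψ : Subgroup.centralizer (D : Set G) → ℂ) : ℂ)) ≠ 0 := by
    rw [← hζ1, ← hψ1]
    exact mul_ne_zero hζ0 hψ0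
  rw [div_mul_div_comm, div_eq_one_iff_eq (mul_ne_zero hne2 hne2)] at hrr
  have hnat : charDegree (χ : G → ℂ) ^ 2 = (charDegree (ζ : D → ℂ)
      * charDegree (ψ : Subgroup.centralizer (D : Set G) → ℂ)) ^ 2 := by
    have : ((charDegree (χ : G → ℂ) ^ 2 : ℕ) : ℂ) = (((charDegree (ζ : D → ℂ)
      * charDegree (ψ : Subgroup.centralizer (D : Set G) → ℂ)) ^ 2 : ℕ) : ℂ) := by
      push_cast
      linear_combination hrr
    exact_mod_cast this
  exact Nat.pow_left_injective (by norm_num : (2 : ℕ) ≠ 0) hnat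

theorem index_factorization_le_under (hpM : IsPModular p M) (D : Subgroup G) [D.Normal]
    (hDp : IsPGroup p D) (hG : D ⊔ Subgroup.centralizer (D : Set G) = ⊤)
    [Fintype (Subgroup.centralizer (D : Set G))]
    {B : Set (IrrCharacter G)} (hB : IsPBlock M B) (hD : IsDefectGroup p M B D)
    (χ : IrrCharacter G) (hχ : χ ∈ B) (ψ : IrrCharacter (Subgroup.centralizer (D : Set G)))
    (hψ : classInner (fun n : Subgroup.centralizer (D : Set G) => (χ : G → ℂ) n)
      (ψ : Subgroup.centralizer (D : Set G) → ℂ) ≠ 0) :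
    D.index.factorization p
      ≤ (charDegree (ψ : Subgroup.centralizer (D : Set G) → ℂ)).factorization p := by
  classical
  have hp : p.Prime := Fact.out
  have hM := hpM.2.1.isPrime
  have hidx := centralizer_index_pow D hDp hG
  have hβ : IsPBlock M (blockOf M (ψ : Subgroup.centralizer (D : Set G) → ℂ)) := ⟨ψ, rfl⟩
  have hψβ : ψ ∈ blockOf M (ψ : Subgroup.centralizer (D : Set G) → ℂ) :=
    mem_blockOf_self hM.ne_top ψ
  have hinv0 : ∀ g : G, ∀ θ ∈ blockOf M (ψ : Subgroup.centralizer (D : Set G) → ℂ),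
      ∀ θ' : IrrCharacter (Subgroup.centralizer (D : Set G)),
      (∀ n : Subgroup.centralizer (D : Set G),
        (θ' : Subgroup.centralizer (D : Set G) → ℂ) n
          = (θ : Subgroup.centralizer (D : Set G) → ℂ)
            ⟨g * n * g⁻¹, (Subgroup.normal_centralizer (H := D)).conj_mem n n.2 g⟩) →
      θ' ∈ blockOf M (ψ : Subgroup.centralizer (D : Set G) → ℂ) := by
    intro g θ hθ θ' h
    have e : θ' = θ := by
      apply Subtype.ext
      funext n
      rw [h n]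
      exact conj_invariant_of_central_prod _ (dec_centralizer D hG) θ g n
    rw [e]
    exact hθ
  have hcov : ∃ χ ∈ B, ∃ θ ∈ blockOf M (ψ : Subgroup.centralizer (D : Set G) → ℂ),
      classInner (fun n : Subgroup.centralizer (D : Set G) => (χ : G → ℂ) n)
        (θ : Subgroup.centralizer (D : Set G) → ℂ) ≠ 0 := ⟨χ, hχ, ψ, hψβ, hψ⟩
  have hmax : ∀ B' : Set (IrrCharacter G), IsPBlock M B' →
      (∃ χ ∈ B', ∃ θ ∈ blockOf M (ψ : Subgroup.centralizer (D : Set G) → ℂ),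
        classInner (fun n : Subgroup.centralizer (D : Set G) => (χ : G → ℂ) n)
          (θ : Subgroup.centralizer (D : Set G) → ℂ) ≠ 0) →
      blockDefect p B' ≤ blockDefect p B := by
    rintro B' hB' ⟨χ', hχ', θ', hθ', hin⟩
    have hs : SameBlock M (χ : G → ℂ) (χ' : G → ℂ) := by
      apply sameBlock_of_regular hpM
      intro g hg
      have hgC : g ∈ Subgroup.centralizer (D : Set G) := regular_mem_of_index hp _ hidx g hg
      have e1 := (constituent_iff_centralChar _ χ ψ).1 hψ ⟨g, hgC⟩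
      have e2 := (constituent_iff_centralChar _ χ' θ').1 hin ⟨g, hgC⟩
      simp only at e1 e2
      rw [e1, e2]
      exact inducedCentralChar_sub_mem hM _ ψ θ' (mem_blockOf.1 hθ') g
    have hB'eq : B' = B := by
      rw [block_eq_blockOf_of_mem hM hB hχ, block_eq_blockOf_of_mem hM hB' hχ']
      exact (blockOf_eq_of_mem hM (mem_blockOf.2 hs)).symm
    rw [hB'eq]
  obtain ⟨-, -, hdef⟩ := fong_max_defect hpM (Subgroup.centralizer (D : Set G))
    (blockOf M (ψ : Subgroup.centralizer (D : Set G) → ℂ)) hβ hinv0 B hB hcov hmax D hD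
  have hcard := card_defectGroup hpM hB D hD
  have h1 : Nat.card D * D.index = Nat.card G := Subgroup.card_mul_index D
  have h2 : Nat.card (Subgroup.centralizer (D : Set G)) * (Subgroup.centralizer (D : Set G)).index
      = Nat.card G := Subgroup.card_mul_index _
  have ha1 : (Nat.card G).factorization p = blockDefect p B + D.index.factorization p := by
    rw [← h1, Nat.factorization_mul Nat.card_pos.ne' Subgroup.index_ne_zero_of_finite,
      Finsupp.add_apply, hcard, hp.factorization_pow, Finsupp.single_eq_same]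
  have ha2 : (Nat.card G).factorization p
      = (Nat.card (Subgroup.centralizer (D : Set G))).factorization p
        + (Subgroup.centralizer (D : Set G)).index.factorization p := by
    rw [← h2, Nat.factorization_mul Nat.card_pos.ne' Subgroup.index_ne_zero_of_finite,
      Finsupp.add_apply]
  have hsInf : sInf ((fun ψ' : IrrCharacter (Subgroup.centralizer (D : Set G)) =>
      (charDegree (ψ' : Subgroup.centralizer (D : Set G) → ℂ)).factorization p)
        '' blockOf M (ψ : Subgroup.centralizer (D : Set G) → ℂ))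
      ≤ (charDegree (ψ : Subgroup.centralizer (D : Set G) → ℂ)).factorization p :=
    Nat.sInf_le ⟨ψ, hψβ, rfl⟩
  have hd := blockDefect_eq_sub (p := p)
    (blockOf M (ψ : Subgroup.centralizer (D : Set G) → ℂ))
  omega

end DCBlock

section DCMain

variable {G : Type*} [Group G] [Fintype G] [Fintype (IrrCharacter G)] {M : Ideal AlgInt} {p : ℕ}
  [Fact p.Prime]

/-- `χ` lies over the irreducible character `ζ` of `D`. -/
def OverChar (D : Subgroup G) (ζ : IrrCharacter D) (χ : IrrCharacter G) : Prop :=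
  ∀ d : D, (χ : G → ℂ) d / (χ : G → ℂ) 1 = (ζ : D → ℂ) d / (ζ : D → ℂ) 1

theorem overChar_apply {D : Subgroup G} [Fintype D] {ζ : IrrCharacter D} {χ : IrrCharacter G}
    (h : OverChar D ζ χ) (d : D) :
    (χ : G → ℂ) d = (χ : G → ℂ) 1 / (ζ : D → ℂ) 1 * (ζ : D → ℂ) d := by
  have h1 := h d
  have hχ0 := irr_one_ne_zero' χ
  have hζ0 := irr_one_ne_zero' ζ
  rw [div_eq_div_iff hχ0 hζ0] at h1
  rw [div_mul_eq_mul_div, eq_div_iff hζ0]
  linear_combination h1

open Classical in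
theorem sum_zeta_conj_of_over (D : Subgroup G) [Fintype D] (χ : IrrCharacter G)
    (ζ ζ' : IrrCharacter D) (h : OverChar D ζ' χ) :
    ∑ d : D, (ζ : D → ℂ) d * conj ((χ : G → ℂ) d)
      = if ζ = ζ' then (Nat.card D : ℂ) * ((χ : G → ℂ) 1 / (ζ' : D → ℂ) 1) else 0 := by
  have e : ∀ d : D, (ζ : D → ℂ) d * conj ((χ : G → ℂ) d)
      = (χ : G → ℂ) 1 / (ζ' : D → ℂ) 1 * ((ζ : D → ℂ) d * conj ((ζ' : D → ℂ) d)) := by
    intro d
    rw [overChar_apply h d, map_mul, map_div₀, irr_one_conj, irr_one_conj]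
    ring
  rw [Finset.sum_congr rfl (fun d _ => e d), ← Finset.mul_sum, row_orth ζ ζ']
  split_ifs <;> ring

open Classical in
theorem sum_zeta_conj (D : Subgroup G) [D.Normal] [Fintype D]
    (hG : D ⊔ Subgroup.centralizer (D : Set G) = ⊤) (χ : IrrCharacter G) (ζ : IrrCharacter D) :
    ∑ d : D, (ζ : D → ℂ) d * conj ((χ : G → ℂ) d)
      = if OverChar D ζ χ then (Nat.card D : ℂ) * ((χ : G → ℂ) 1 / (ζ : D → ℂ) 1) else 0 := by
  by_cases h : OverChar D ζ χ
  · rw [if_pos h, sum_zeta_conj_of_over D χ ζ ζ h, if_pos rfl]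
  · rw [if_neg h]
    obtain ⟨ζ', -, hζ'⟩ := exists_ratio_char D (fun g => exists_mul_of_sup_top D _ hG g) χ
    rw [sum_zeta_conj_of_over D χ ζ ζ' hζ', if_neg]
    intro hzz
    exact h (hzz ▸ hζ')

variable (hpM : IsPModular p M) (D : Subgroup G) [D.Normal] [Fintype D]
  (hDp : IsPGroup p D) (hG : D ⊔ Subgroup.centralizer (D : Set G) = ⊤)
  {B : Set (IrrCharacter G)} (hB : IsPBlock M B) (hD : IsDefectGroup p M B D)
  (θ : IrrCharacter G) (hθ : θ ∈ B) (hker : ∀ x ∈ D, (θ : G → ℂ) x = (θ : G → ℂ) 1)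
  (huniq : ∀ θ' ∈ B, (∀ x ∈ D, (θ' : G → ℂ) x = (θ' : G → ℂ) 1) → θ' = θ)
  (hdeg : (charDegree (θ : G → ℂ)).factorization p = D.index.factorization p)

include hpM hDp hG hB hD hθ hker huniq hdeg

theorem dc_regular_mem (c : G) (hc : ¬ p ∣ orderOf c) :
    c ∈ Subgroup.centralizer (D : Set G) :=
  regular_mem_of_index Fact.out _ (centralizer_index_pow D hDp hG) c hc

theorem dc_dvd_orderOf_mul (d : D) (hd : d ≠ 1) (c : G) (hc : ¬ p ∣ orderOf c) :
    p ∣ orderOf ((d : G) * c) := by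
  have hp : p.Prime := Fact.out
  have hcC := dc_regular_mem hpM D hDp hG hB hD θ hθ hker huniq hdeg c hc
  have hcomm : Commute (d : G) c := (Subgroup.mem_centralizer_iff.1 hcC) (d : G) d.2
  obtain ⟨k, hk⟩ := orderOf_mem_pgroup hDp d.2
  have hcop : (orderOf (d : G)).Coprime (orderOf c) := by
    rw [hk]
    exact Nat.Coprime.pow_left k ((Nat.Prime.coprime_iff_not_dvd hp).2 hc)
  rw [hcomm.orderOf_mul_eq_mul_orderOf_of_coprime hcop]
  have hd1 : (d : G) ≠ 1 := fun h => hd (Subtype.ext h)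
  exact Dvd.dvd.mul_right (pgroup_ne_one_dvd_orderOf hDp d.2 hd1) _

theorem dc_blockCoeff_regular (c : G) (hc : ¬ p ∣ orderOf c) :
    blockCoeff B c = (Nat.card G : ℂ)⁻¹
      * ((Nat.card D : ℂ) * ((θ : G → ℂ) 1 * conj ((θ : G → ℂ) c))) := by
  classical
  have hcC := dc_regular_mem hpM D hDp hG hB hD θ hθ hker huniq hdeg c hc
  have h1 : ∑ z : D, blockCoeff B ((z : G) * c) = blockCoeff B c := by
    rw [Finset.sum_eq_single (1 : D)]
    · rw [Subgroup.coe_one, one_mul]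
    · intro z _ hz1
      exact osima hpM hB _
        (dc_dvd_orderOf_mul hpM D hDp hG hB hD θ hθ hker huniq hdeg z hz1 c hc)
    · intro h
      exact absurd (Finset.mem_univ _) h
  have h2 : ∑ z : D, blockCoeff B ((z : G) * c) = (Nat.card G : ℂ)⁻¹
      * ((Nat.card D : ℂ) * ((θ : G → ℂ) 1 * conj ((θ : G → ℂ) c))) := by
    have e : ∀ z : D, blockCoeff B ((z : G) * c) = (Nat.card G : ℂ)⁻¹ * ∑ χ : IrrCharacter G,
        if χ ∈ B then (χ : G → ℂ) 1 * conj ((χ : G → ℂ) ((z : G) * c)) else 0 :=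
      fun z => blockCoeff_eq_sum B _
    rw [Finset.sum_congr rfl (fun z _ => e z), ← Finset.mul_sum, Finset.sum_comm]
    congr 1
    have e2 : ∀ χ : IrrCharacter G, ∑ z : D,
        (if χ ∈ B then (χ : G → ℂ) 1 * conj ((χ : G → ℂ) ((z : G) * c)) else 0)
        = if χ = θ then (Nat.card D : ℂ) * ((θ : G → ℂ) 1 * conj ((θ : G → ℂ) c)) else 0 := by
      intro χ
      by_cases hχ : χ ∈ B
      · simp only [if_pos hχ]
        have e3 : ∀ z : D, (χ : G → ℂ) 1 * conj ((χ : G → ℂ) ((z : G) * c))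
            = conj ((χ : G → ℂ) z) * conj ((χ : G → ℂ) c) := by
          intro z
          rw [← map_mul, ← dc_mul D hG χ z c z.2 hcC, map_mul, irr_one_conj]
        rw [Finset.sum_congr rfl (fun z _ => e3 z), ← Finset.sum_mul, ← map_sum,
          sum_normal_subgroup_char D χ]
        by_cases hk : ∀ x ∈ D, (χ : G → ℂ) x = (χ : G → ℂ) 1
        · have hχθ := huniq χ hχ hk
          rw [if_pos hk, if_pos hχθ, hχθ, map_mul, irr_one_conj, Complex.conj_natCast]
          ring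
        · have hne : χ ≠ θ := fun h => hk (h ▸ hker)
          rw [if_neg hk, if_neg hne, map_zero, zero_mul]
      · have hne : χ ≠ θ := fun h => hχ (h ▸ hθ)
        simp only [if_neg hχ, Finset.sum_const_zero, if_neg hne]
    rw [Finset.sum_congr rfl (fun χ _ => e2 χ), Finset.sum_ite_eq' Finset.univ θ,
      if_pos (Finset.mem_univ _)]
  rw [← h1, h2]

open Classical in
theorem dc_twisted (ζ : IrrCharacter D) (c : G) (hc : ¬ p ∣ orderOf c) :
    (ζ : D → ℂ) 1 * blockCoeff B c = (Nat.card G : ℂ)⁻¹ * ∑ χ : IrrCharacter G,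
      if (χ ∈ B ∧ OverChar D ζ χ) then (Nat.card D : ℂ)
        * ((χ : G → ℂ) 1 / (ζ : D → ℂ) 1) * conj ((χ : G → ℂ) c) else 0 := by
  have hcC := dc_regular_mem hpM D hDp hG hB hD θ hθ hker huniq hdeg c hc
  have h1 : ∑ z : D, (ζ : D → ℂ) z * blockCoeff B ((z : G) * c)
      = (ζ : D → ℂ) 1 * blockCoeff B c := by
    rw [Finset.sum_eq_single (1 : D)]
    · rw [Subgroup.coe_one, one_mul]
    · intro z _ hz1
      rw [osima hpM hB _
        (dc_dvd_orderOf_mul hpM D hDp hG hB hD θ hθ hker huniq hdeg z hz1 c hc), mul_zero]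
    · intro h
      exact absurd (Finset.mem_univ _) h
  rw [← h1]
  have e : ∀ z : D, (ζ : D → ℂ) z * blockCoeff B ((z : G) * c)
      = (Nat.card G : ℂ)⁻¹ * ∑ χ : IrrCharacter G,
        if χ ∈ B then (ζ : D → ℂ) z
          * ((χ : G → ℂ) 1 * conj ((χ : G → ℂ) ((z : G) * c))) else 0 := by
    intro z
    rw [blockCoeff_eq_sum B _, mul_left_comm, Finset.mul_sum]
    congr 1
    refine Finset.sum_congr rfl fun χ _ => ?_
    rw [mul_ite, mul_zero]
  rw [Finset.sum_congr rfl (fun z _ => e z), ← Finset.mul_sum, Finset.sum_comm]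
  congr 1
  refine Finset.sum_congr rfl fun χ _ => ?_
  by_cases hχ : χ ∈ B
  · simp only [hχ, if_true, true_and]
    have e3 : ∀ z : D, (ζ : D → ℂ) z
        * ((χ : G → ℂ) 1 * conj ((χ : G → ℂ) ((z : G) * c)))
        = ((ζ : D → ℂ) z * conj ((χ : G → ℂ) z)) * conj ((χ : G → ℂ) c) := by
      intro z
      have h4 : (χ : G → ℂ) 1 * conj ((χ : G → ℂ) ((z : G) * c))
          = conj ((χ : G → ℂ) z) * conj ((χ : G → ℂ) c) := by
        rw [← map_mul, ← dc_mul D hG χ z c z.2 hcC, map_mul, irr_one_conj]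
      rw [h4]
      ring
    rw [Finset.sum_congr rfl (fun z _ => e3 z), ← Finset.sum_mul, sum_zeta_conj D hG χ ζ]
    split_ifs
    · rfl
    · rw [zero_mul]
  · simp only [hχ, if_false, false_and, Finset.sum_const_zero]

open Classical in
theorem dc_sum_over (ζ : IrrCharacter D) (c : G) (hc : ¬ p ∣ orderOf c) :
    ∑ χ : IrrCharacter G, (if (χ ∈ B ∧ OverChar D ζ χ)
        then (χ : G → ℂ) 1 * conj ((χ : G → ℂ) c) else 0)
      = (ζ : D → ℂ) 1 * (ζ : D → ℂ) 1 * ((θ : G → ℂ) 1 * conj ((θ : G → ℂ) c)) := by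
  have h1 := dc_twisted hpM D hDp hG hB hD θ hθ hker huniq hdeg ζ c hc
  rw [dc_blockCoeff_regular hpM D hDp hG hB hD θ hθ hker huniq hdeg c hc] at h1
  have hG0 : (Nat.card G : ℂ) ≠ 0 := Nat.cast_ne_zero.2 Nat.card_pos.ne'
  have hD0 : (Nat.card D : ℂ) ≠ 0 := Nat.cast_ne_zero.2 Nat.card_pos.ne'
  have hζ0 := irr_one_ne_zero' ζ
  have e : ∑ χ : IrrCharacter G, (if (χ ∈ B ∧ OverChar D ζ χ) then (Nat.card D : ℂ)
        * ((χ : G → ℂ) 1 / (ζ : D → ℂ) 1) * conj ((χ : G → ℂ) c) else 0)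
      = (Nat.card D : ℂ) / (ζ : D → ℂ) 1 * ∑ χ : IrrCharacter G,
        (if (χ ∈ B ∧ OverChar D ζ χ) then (χ : G → ℂ) 1 * conj ((χ : G → ℂ) c) else 0) := by
    rw [Finset.mul_sum]
    refine Finset.sum_congr rfl fun χ _ => ?_
    split_ifs
    · ring
    · rw [mul_zero]
  rw [e] at h1
  have h2 : (Nat.card G : ℂ)⁻¹ * ((Nat.card D : ℂ) / (ζ : D → ℂ) 1)
        * ∑ χ : IrrCharacter G, (if (χ ∈ B ∧ OverChar D ζ χ)
          then (χ : G → ℂ) 1 * conj ((χ : G → ℂ) c) else 0)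
      = (Nat.card G : ℂ)⁻¹ * ((Nat.card D : ℂ) / (ζ : D → ℂ) 1)
        * ((ζ : D → ℂ) 1 * (ζ : D → ℂ) 1 * ((θ : G → ℂ) 1 * conj ((θ : G → ℂ) c))) := by
    rw [mul_assoc, ← h1]
    field_simp
  exact mul_left_cancel₀ (mul_ne_zero (inv_ne_zero hG0) (div_ne_zero hD0 hζ0)) h2

open Classical in
theorem dc_regular_orth (ζ : IrrCharacter D) (χ χ' : IrrCharacter G) (hχ : χ ∈ B)
    (hχ' : χ' ∈ B) (h : OverChar D ζ χ) (h' : OverChar D ζ χ') :
    ∑ y : G, (if p ∣ orderOf y then 0 else (χ : G → ℂ) y * conj ((χ' : G → ℂ) y))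
      = if χ = χ' then (Nat.card G : ℂ) * ((ζ : D → ℂ) 1 * (ζ : D → ℂ) 1) / (Nat.card D : ℂ)
        else 0 := by
  have hreg := dc_regular_mem hpM D hDp hG hB hD θ hθ hker huniq hdeg
  have hsec := sum_section_normal D hDp hreg
    (fun g => (χ : G → ℂ) g * conj ((χ' : G → ℂ) g))
    (fun g y hy hyD => by
      show (χ : G → ℂ) g * conj ((χ' : G → ℂ) g) = 0
      rw [vanish_off_normal_defect hpM D hB hD χ hχ g y hy hyD, zero_mul])
  rw [row_orth χ χ'] at hsec
  have hζ0 := irr_one_ne_zero' ζ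
  have hD0 : (Nat.card D : ℂ) ≠ 0 := Nat.cast_ne_zero.2 Nat.card_pos.ne'
  have e : ∀ d : D, ∑ y : G, (if p ∣ orderOf y then (0 : ℂ)
        else (χ : G → ℂ) ((d : G) * y) * conj ((χ' : G → ℂ) ((d : G) * y)))
      = ((ζ : D → ℂ) d * conj ((ζ : D → ℂ) d)) / ((ζ : D → ℂ) 1 * (ζ : D → ℂ) 1)
        * ∑ y : G, (if p ∣ orderOf y then 0 else (χ : G → ℂ) y * conj ((χ' : G → ℂ) y)) := by
    intro d
    rw [Finset.mul_sum]
    refine Finset.sum_congr rfl fun y _ => ?_
    by_cases hy : p ∣ orderOf y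
    · rw [if_pos hy, if_pos hy, mul_zero]
    · rw [if_neg hy, if_neg hy]
      have hyC := hreg y hy
      have k1 : ∀ χ₁ : IrrCharacter G, OverChar D ζ χ₁ → (χ₁ : G → ℂ) ((d : G) * y)
          = (ζ : D → ℂ) d / (ζ : D → ℂ) 1 * (χ₁ : G → ℂ) y := by
        intro χ₁ h₁
        have m1 := dc_mul D hG χ₁ d y d.2 hyC
        rw [overChar_apply h₁ d] at m1
        have h0 := irr_one_ne_zero' χ₁
        apply mul_left_cancel₀ h0
        rw [m1]
        field_simp
      rw [k1 χ h, k1 χ' h', map_mul, map_div₀, irr_one_conj]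
      field_simp
  rw [Finset.sum_congr rfl (fun d _ => e d), ← Finset.sum_mul, ← Finset.sum_div,
    row_orth ζ ζ, if_pos rfl] at hsec
  by_cases hc : χ = χ'
  · rw [if_pos hc] at hsec ⊢
    rw [hsec]
    field_simp
  · rw [if_neg hc] at hsec ⊢
    rcases mul_eq_zero.1 hsec.symm with h0 | h0
    · exact absurd h0 (div_ne_zero hD0 (mul_ne_zero hζ0 hζ0))
    · exact h0

theorem dc_regular_inner_canonical (χ : IrrCharacter G) (hχ : χ ∈ B) (ζ : IrrCharacter D)
    (h : OverChar D ζ χ) :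
    ∑ y : G, (if p ∣ orderOf y then 0 else (χ : G → ℂ) y * conj ((θ : G → ℂ) y))
      = (χ : G → ℂ) 1 * (Nat.card G : ℂ) / ((Nat.card D : ℂ) * (θ : G → ℂ) 1) := by
  classical
  have hζ0 := irr_one_ne_zero' ζ
  have hθ0 := irr_one_ne_zero' θ
  have hD0 : (Nat.card D : ℂ) ≠ 0 := Nat.cast_ne_zero.2 Nat.card_pos.ne'
  have hT := fun y hy => dc_sum_over hpM D hDp hG hB hD θ hθ hker huniq hdeg ζ y hy
  have h1 : ((ζ : D → ℂ) 1 * (ζ : D → ℂ) 1 * (θ : G → ℂ) 1)
        * ∑ y : G, (if p ∣ orderOf y then 0 else (χ : G → ℂ) y * conj ((θ : G → ℂ) y))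
      = ∑ y : G, ∑ χ' : IrrCharacter G, (if p ∣ orderOf y then 0 else
          (if (χ' ∈ B ∧ OverChar D ζ χ')
            then (χ' : G → ℂ) 1 * ((χ : G → ℂ) y * conj ((χ' : G → ℂ) y)) else 0)) := by
    rw [Finset.mul_sum]
    refine Finset.sum_congr rfl fun y _ => ?_
    by_cases hy : p ∣ orderOf y
    · simp only [if_pos hy, mul_zero, Finset.sum_const_zero]
    · simp only [if_neg hy]
      have e : ∀ χ' : IrrCharacter G, (if (χ' ∈ B ∧ OverChar D ζ χ')
            then (χ' : G → ℂ) 1 * ((χ : G → ℂ) y * conj ((χ' : G → ℂ) y)) else 0)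
          = (χ : G → ℂ) y * (if (χ' ∈ B ∧ OverChar D ζ χ')
            then (χ' : G → ℂ) 1 * conj ((χ' : G → ℂ) y) else 0) := by
        intro χ'
        split_ifs
        · ring
        · rw [mul_zero]
      rw [Finset.sum_congr rfl (fun χ' _ => e χ'), ← Finset.mul_sum, hT y hy]
      ring
  rw [Finset.sum_comm] at h1
  have h2 : ∀ χ' : IrrCharacter G, ∑ y : G, (if p ∣ orderOf y then (0 : ℂ) else
        (if (χ' ∈ B ∧ OverChar D ζ χ')
          then (χ' : G → ℂ) 1 * ((χ : G → ℂ) y * conj ((χ' : G → ℂ) y)) else 0))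
      = if χ' = χ then (χ : G → ℂ) 1 * ((Nat.card G : ℂ)
        * ((ζ : D → ℂ) 1 * (ζ : D → ℂ) 1) / (Nat.card D : ℂ)) else 0 := by
    intro χ'
    by_cases hc : χ' ∈ B ∧ OverChar D ζ χ'
    · simp only [if_pos hc]
      have e : ∀ y : G, (if p ∣ orderOf y then (0 : ℂ)
            else (χ' : G → ℂ) 1 * ((χ : G → ℂ) y * conj ((χ' : G → ℂ) y)))
          = (χ' : G → ℂ) 1 * (if p ∣ orderOf y then 0
            else (χ : G → ℂ) y * conj ((χ' : G → ℂ) y)) := by
        intro y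
        split_ifs
        · rw [mul_zero]
        · rfl
      rw [Finset.sum_congr rfl (fun y _ => e y), ← Finset.mul_sum,
        dc_regular_orth hpM D hDp hG hB hD θ hθ hker huniq hdeg ζ χ χ' hχ hc.1 h hc.2]
      by_cases hχχ' : χ' = χ
      · rw [if_pos hχχ', if_pos hχχ'.symm, hχχ']
      · rw [if_neg hχχ', if_neg (fun h => hχχ' h.symm), mul_zero]
    · simp only [if_neg hc, ite_self, Finset.sum_const_zero]
      have hne : χ' ≠ χ := fun h' => hc (h' ▸ ⟨hχ, h⟩)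
      rw [if_neg hne]
  rw [Finset.sum_congr rfl (fun χ' _ => h2 χ'), Finset.sum_ite_eq' Finset.univ χ,
    if_pos (Finset.mem_univ _)] at h1
  have h3 : (ζ : D → ℂ) 1 * (ζ : D → ℂ) 1 * (θ : G → ℂ) 1
        * (∑ y : G, (if p ∣ orderOf y then 0 else (χ : G → ℂ) y * conj ((θ : G → ℂ) y)))
        * (Nat.card D : ℂ)
      = (χ : G → ℂ) 1 * (Nat.card G : ℂ) * ((ζ : D → ℂ) 1 * (ζ : D → ℂ) 1) := by
    rw [h1]
    field_simp
  rw [eq_div_iff (mul_ne_zero hD0 hθ0)]
  apply mul_left_cancel₀ (mul_ne_zero hζ0 hζ0)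
  linear_combination h3

theorem dc_tilde_coeff (χ : IrrCharacter G) (hχ : χ ∈ B) (ζ : IrrCharacter D)
    (h : OverChar D ζ χ) :
    ((p ^ (Nat.card G).factorization p : ℕ) : ℂ) * (χ : G → ℂ) 1
      = (Cfsg.Agent.Helper10.irrCoeff (tildeFun p (χ : G → ℂ)) (θ : G → ℂ) : ℂ)
        * ((Nat.card D : ℂ) * (θ : G → ℂ) 1) := by
  have h1 := tildeFun_inner (p := p) χ θ
  rw [← h1]
  unfold classInner
  have e : ∑ g : G, tildeFun p (χ : G → ℂ) g * conj ((θ : G → ℂ) g)
      = ((p ^ (Nat.card G).factorization p : ℕ) : ℂ)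
        * ∑ y : G, (if p ∣ orderOf y then 0 else (χ : G → ℂ) y * conj ((θ : G → ℂ) y)) := by
    rw [Finset.mul_sum]
    refine Finset.sum_congr rfl fun g _ => ?_
    unfold tildeFun
    split_ifs
    · rw [zero_mul, mul_zero]
    · ring
  rw [e, dc_regular_inner_canonical hpM D hDp hG hB hD θ hθ hker huniq hdeg χ hχ ζ h]
  have hθ0 := irr_one_ne_zero' θ
  have hD0 : (Nat.card D : ℂ) ≠ 0 := Nat.cast_ne_zero.2 Nat.card_pos.ne'
  have hG0 : (Nat.card G : ℂ) ≠ 0 := Nat.cast_ne_zero.2 Nat.card_pos.ne'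
  field_simp

theorem dc_degree_dvd (χ : IrrCharacter G) (hχ : χ ∈ B) (ζ : IrrCharacter D)
    (h : OverChar D ζ χ) :
    charDegree (ζ : D → ℂ) * charDegree (θ : G → ℂ) ∣ charDegree (χ : G → ℂ) := by
  classical
  have hp : p.Prime := Fact.out
  have : Fintype (Subgroup.centralizer (D : Set G)) := Fintype.ofFinite _
  obtain ⟨ψ, hψin, hψ⟩ := exists_ratio_char (Subgroup.centralizer (D : Set G))
    (dec_centralizer D hG) χ
  have hdegχ := degree_eq_mul_of_ratio D hG χ ζ ψ h hψ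
  have hν := index_factorization_le_under hpM D hDp hG hB hD χ hχ ψ hψin
  have hc := dc_tilde_coeff hpM D hDp hG hB hD θ hθ hker huniq hdeg χ hχ ζ h
  rw [irr_one_eq_degree χ, irr_one_eq_degree θ] at hc
  have hint : ((p ^ (Nat.card G).factorization p * charDegree (χ : G → ℂ) : ℕ) : ℤ)
      = Cfsg.Agent.Helper10.irrCoeff (tildeFun p (χ : G → ℂ)) (θ : G → ℂ)
        * ((Nat.card D * charDegree (θ : G → ℂ) : ℕ) : ℤ) := by
    have : (((p ^ (Nat.card G).factorization p * charDegree (χ : G → ℂ) : ℕ) : ℤ) : ℂ)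
        = ((Cfsg.Agent.Helper10.irrCoeff (tildeFun p (χ : G → ℂ)) (θ : G → ℂ)
          * ((Nat.card D * charDegree (θ : G → ℂ) : ℕ) : ℤ) : ℤ) : ℂ) := by
      push_cast
      push_cast at hc
      linear_combination hc
    exact_mod_cast this
  have hdvd : Nat.card D * charDegree (θ : G → ℂ)
      ∣ p ^ (Nat.card G).factorization p * charDegree (χ : G → ℂ) := by
    rw [← Int.natCast_dvd_natCast, hint]
    exact Dvd.intro_left _ rfl
  have hθdvd : charDegree (θ : G → ℂ)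
      ∣ p ^ (Nat.card G).factorization p * charDegree (χ : G → ℂ) :=
    (Dvd.intro_left _ rfl).trans hdvd
  obtain ⟨n, hn⟩ := hDp.exists_card_eq
  have hζdvd : charDegree (ζ : D → ℂ) ∣ Nat.card D := Helper2.irr_degree_dvd_card ζ.2
  rw [hn] at hζdvd
  obtain ⟨j, _, hj⟩ := (Nat.dvd_prime_pow hp).1 hζdvd
  rw [hdegχ, hj, ← mul_assoc, ← pow_add] at hθdvd
  have hθ0 : charDegree (θ : G → ℂ) ≠ 0 := charDegree_irr_ne_zero θ
  have ht : charDegree (θ : G → ℂ) / p ^ (charDegree (θ : G → ℂ)).factorization p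
      ∣ charDegree (ψ : Subgroup.centralizer (D : Set G) → ℂ) := by
    have hcop : (charDegree (θ : G → ℂ) / p ^ (charDegree (θ : G → ℂ)).factorization p).Coprime
        (p ^ ((Nat.card G).factorization p + j)) :=
      Nat.Coprime.pow_right _ (Nat.coprime_ordCompl hp hθ0).symm
    exact hcop.dvd_of_dvd_mul_left ((Nat.ordCompl_dvd _ p).trans hθdvd)
  have hpv : p ^ (charDegree (θ : G → ℂ)).factorization p
      ∣ charDegree (ψ : Subgroup.centralizer (D : Set G) → ℂ) := by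
    rw [hdeg]
    exact (pow_dvd_pow p hν).trans (Nat.ordProj_dvd _ p)
  have hcop2 : (p ^ (charDegree (θ : G → ℂ)).factorization p).Coprime
      (charDegree (θ : G → ℂ) / p ^ (charDegree (θ : G → ℂ)).factorization p) :=
    Nat.Coprime.pow_left _ (Nat.coprime_ordCompl hp hθ0)
  have hθψ : charDegree (θ : G → ℂ)
      ∣ charDegree (ψ : Subgroup.centralizer (D : Set G) → ℂ) := by
    have h5 := hcop2.mul_dvd_of_dvd_of_dvd hpv ht
    rwa [Nat.ordProj_mul_ordCompl_eq_self] at h5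
  rw [hdegχ]
  exact mul_dvd_mul_left _ hθψ

theorem dc_exists_unique_over (ζ : IrrCharacter D) :
    ∃ χ : IrrCharacter G, (χ ∈ B ∧ OverChar D ζ χ)
      ∧ (∀ χ' : IrrCharacter G, χ' ∈ B ∧ OverChar D ζ χ' → χ' = χ)
      ∧ charDegree (χ : G → ℂ) = charDegree (ζ : D → ℂ) * charDegree (θ : G → ℂ) := by
  classical
  have hp : p.Prime := Fact.out
  have hp1 : ¬ p ∣ orderOf (1 : G) := by
    rw [orderOf_one]
    exact fun h => hp.one_lt.ne' (Nat.dvd_one.1 h)
  have h1 := dc_sum_over hpM D hDp hG hB hD θ hθ hker huniq hdeg ζ 1 hp1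
  have hnat : ∑ χ : IrrCharacter G, (if (χ ∈ B ∧ OverChar D ζ χ)
        then charDegree (χ : G → ℂ) ^ 2 else 0)
      = (charDegree (ζ : D → ℂ) * charDegree (θ : G → ℂ)) ^ 2 := by
    have h6 : ((∑ χ : IrrCharacter G, (if (χ ∈ B ∧ OverChar D ζ χ)
          then charDegree (χ : G → ℂ) ^ 2 else 0) : ℕ) : ℂ)
        = (((charDegree (ζ : D → ℂ) * charDegree (θ : G → ℂ)) ^ 2 : ℕ) : ℂ) := by
      rw [Nat.cast_sum]
      have e : ∀ χ : IrrCharacter G, (((if (χ ∈ B ∧ OverChar D ζ χ)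
            then charDegree (χ : G → ℂ) ^ 2 else 0 : ℕ)) : ℂ)
          = (if (χ ∈ B ∧ OverChar D ζ χ)
            then (χ : G → ℂ) 1 * conj ((χ : G → ℂ) 1) else 0) := by
        intro χ
        rw [irr_one_conj, irr_one_eq_degree χ]
        split_ifs
        · push_cast
          ring
        · simp
      rw [Finset.sum_congr rfl (fun χ _ => e χ), h1, irr_one_conj, irr_one_eq_degree ζ,
        irr_one_eq_degree θ]
      push_cast
      ring
    exact_mod_cast h6
  obtain ⟨m, hm⟩ : ∃ m : ℕ, m = charDegree (ζ : D → ℂ) * charDegree (θ : G → ℂ) := ⟨_, rfl⟩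
  rw [← hm] at hnat ⊢
  have hm0 : 0 < m := by
    rw [hm]
    exact Nat.pos_of_ne_zero (mul_ne_zero (charDegree_irr_ne_zero ζ) (charDegree_irr_ne_zero θ))
  have hge : ∀ χ : IrrCharacter G, χ ∈ B ∧ OverChar D ζ χ → m ≤ charDegree (χ : G → ℂ) := by
    intro χ hc
    rw [hm]
    exact Nat.le_of_dvd (Nat.pos_of_ne_zero (charDegree_irr_ne_zero χ))
      (dc_degree_dvd hpM D hDp hG hB hD θ hθ hker huniq hdeg χ hc.1 ζ hc.2)
  have hm2 : 0 < m ^ 2 := pow_pos hm0 2
  have hex : ∃ χ : IrrCharacter G, χ ∈ B ∧ OverChar D ζ χ := by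
    by_contra hno
    have h0 : ∑ χ : IrrCharacter G, (if (χ ∈ B ∧ OverChar D ζ χ)
        then charDegree (χ : G → ℂ) ^ 2 else 0) = 0 :=
      Finset.sum_eq_zero (fun χ _ => if_neg (fun hc => hno ⟨χ, hc⟩))
    rw [h0] at hnat
    omega
  obtain ⟨χ, hχc⟩ := hex
  have huq : ∀ χ' : IrrCharacter G, χ' ∈ B ∧ OverChar D ζ χ' → χ' = χ := by
    intro χ' hc'
    by_contra hne
    have hsub : ∑ x ∈ ({χ, χ'} : Finset (IrrCharacter G)), (if (x ∈ B ∧ OverChar D ζ x)
          then charDegree (x : G → ℂ) ^ 2 else 0)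
        ≤ ∑ x : IrrCharacter G, (if (x ∈ B ∧ OverChar D ζ x)
          then charDegree (x : G → ℂ) ^ 2 else 0) :=
      Finset.sum_le_sum_of_subset (Finset.subset_univ _)
    rw [Finset.sum_pair (fun h => hne h.symm), if_pos hχc, if_pos hc', hnat] at hsub
    have h7 := Nat.pow_le_pow_left (hge χ hχc) 2
    have h8 := Nat.pow_le_pow_left (hge χ' hc') 2
    omega
  refine ⟨χ, hχc, huq, ?_⟩
  have hsingle : ∑ x : IrrCharacter G, (if (x ∈ B ∧ OverChar D ζ x)
      then charDegree (x : G → ℂ) ^ 2 else 0) = charDegree (χ : G → ℂ) ^ 2 := by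
    rw [Finset.sum_eq_single χ]
    · rw [if_pos hχc]
    · intro x _ hx
      rw [if_neg]
      intro hc
      exact hx (huq x hc)
    · intro h
      exact absurd (Finset.mem_univ _) h
  rw [hsingle] at hnat
  exact Nat.pow_left_injective (by norm_num : (2 : ℕ) ≠ 0) hnat

theorem dc_values (ζ : IrrCharacter D) (χ : IrrCharacter G) (hχ : χ ∈ B ∧ OverChar D ζ χ)
    (huq : ∀ χ' : IrrCharacter G, χ' ∈ B ∧ OverChar D ζ χ' → χ' = χ)
    (hdegχ : charDegree (χ : G → ℂ) = charDegree (ζ : D → ℂ) * charDegree (θ : G → ℂ))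
    (d : D) (c : G) (hc : ¬ p ∣ orderOf c) :
    (χ : G → ℂ) ((d : G) * c) = (ζ : D → ℂ) d * (θ : G → ℂ) c := by
  classical
  have h1 := dc_sum_over hpM D hDp hG hB hD θ hθ hker huniq hdeg ζ c hc
  rw [Finset.sum_eq_single χ (fun x _ hx => if_neg (fun hcx => hx (huq x hcx)))
    (fun h => absurd (Finset.mem_univ _) h), if_pos hχ] at h1
  have hχ1 : (χ : G → ℂ) 1 = (ζ : D → ℂ) 1 * (θ : G → ℂ) 1 := by
    rw [irr_one_eq_degree χ, irr_one_eq_degree ζ, irr_one_eq_degree θ, hdegχ]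
    push_cast
    ring
  have hζ0 := irr_one_ne_zero' ζ
  have hθ0 := irr_one_ne_zero' θ
  have h2 : conj ((χ : G → ℂ) c) = (ζ : D → ℂ) 1 * conj ((θ : G → ℂ) c) := by
    apply mul_left_cancel₀ (mul_ne_zero hζ0 hθ0)
    rw [← hχ1, h1, hχ1]
    ring
  have h3 : (χ : G → ℂ) c = (ζ : D → ℂ) 1 * (θ : G → ℂ) c := by
    have h4 := congrArg conj h2
    rwa [Complex.conj_conj, map_mul, Complex.conj_conj, irr_one_conj] at h4
  have hcC := dc_regular_mem hpM D hDp hG hB hD θ hθ hker huniq hdeg c hc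
  have m1 := dc_mul D hG χ d c d.2 hcC
  rw [overChar_apply hχ.2 d, h3] at m1
  apply mul_left_cancel₀ (irr_one_ne_zero' χ)
  rw [m1]
  field_simp

end DCMain

section DCFinal

variable {G : Type*} [Group G] [Fintype G] [Fintype (IrrCharacter G)] {M : Ideal AlgInt} {p : ℕ}
  [Fact p.Prime]

/-- Structure of a block with defect group `D` when `G = D C_G(D)`. -/
theorem dc_block_main (hpM : IsPModular p M) (D : Subgroup G) [D.Normal] [Fintype D]
    (hDp : IsPGroup p D) (hG : D ⊔ Subgroup.centralizer (D : Set G) = ⊤)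
    {B : Set (IrrCharacter G)} (hB : IsPBlock M B) (hD : IsDefectGroup p M B D)
    (θ : IrrCharacter G) (hθ : θ ∈ B) (hker : ∀ x ∈ D, (θ : G → ℂ) x = (θ : G → ℂ) 1) :
    (∀ ζ : IrrCharacter D, ∃ χ ∈ B, ∀ (d : D) (c : G), ¬ p ∣ orderOf c →
        (χ : G → ℂ) ((d : G) * c) = (ζ : D → ℂ) d * (θ : G → ℂ) c) ∧
    (∀ χ ∈ B, ∃ ζ : IrrCharacter D, ∀ (d : D) (c : G), ¬ p ∣ orderOf c →
        (χ : G → ℂ) ((d : G) * c) = (ζ : D → ℂ) d * (θ : G → ℂ) c) ∧
    (∀ χ ∈ B, ∀ g y : G, IsPPart p g y → y ∉ D → (χ : G → ℂ) g = 0) := by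
  obtain ⟨θ₀, hθ₀, hker₀, hu₀⟩ := exists_canonical_char hpM D hDp
    (centralizer_index_pow D hDp hG) B hB hD
  have hθeq : θ = θ₀ := (hu₀ θ hθ hker).1
  have huniq : ∀ θ' ∈ B, (∀ x ∈ D, (θ' : G → ℂ) x = (θ' : G → ℂ) 1) → θ' = θ := by
    intro θ' h1 h2
    rw [hθeq]
    exact (hu₀ θ' h1 h2).1
  have hdeg := (hu₀ θ hθ hker).2
  refine ⟨?_, ?_, ?_⟩
  · intro ζ
    obtain ⟨χ, hχ, huq, hdegχ⟩ :=
      dc_exists_unique_over hpM D hDp hG hB hD θ hθ hker huniq hdeg ζ
    exact ⟨χ, hχ.1, fun d c hc =>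
      dc_values hpM D hDp hG hB hD θ hθ hker huniq hdeg ζ χ hχ huq hdegχ d c hc⟩
  · intro χ hχ
    obtain ⟨ζ, -, hζ⟩ := exists_ratio_char D (fun g => exists_mul_of_sup_top D _ hG g) χ
    obtain ⟨χ₀, hχ₀, huq, hdegχ⟩ :=
      dc_exists_unique_over hpM D hDp hG hB hD θ hθ hker huniq hdeg ζ
    have hχχ₀ : χ = χ₀ := huq χ ⟨hχ, hζ⟩
    subst hχχ₀
    exact ⟨ζ, fun d c hc =>
      dc_values hpM D hDp hG hB hD θ hθ hker huniq hdeg ζ χ hχ₀ huq hdegχ d c hc⟩
  · intro χ hχ g y hy hyD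
    exact vanish_off_normal_defect hpM D hB hD χ hχ g y hy hyD

end DCFinal

end Cfsg.Agent.Helper25
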