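import Cfsg.Agent.Helper25.HeightZero2
import Cfsg.Agent.Helper25.SecondMain
import Cfsg.Agent.Helper25.BlockThird
import Cfsg.Agent.Helper2.IndFun
import Cfsg.Agent.Helper2.CharNat

set_option autoImplicit false
set_option linter.unusedSectionVars false

/-!
# Induced blocks and `p`-regular truncations (helper25)

The Brauer homomorphism `brLam H ξ` of a block `b ∋ ξ` of a subgroup `H` whose induced block
`B` is defined agrees modulo the local ideal with the central character of `B`.
-/

namespace Cfsg.Agent.Helper25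

open Cfsg
open scoped ComplexConjugate

section

variable {G : Type*} [Group G] [Fintype G] {M : Ideal AlgInt} {p : ℕ}

/-- Class-function weighted sums of the induced central character over `G` are sums over the
subgroup. -/
theorem sum_class_induced (H : Subgroup G) [Fintype H] (ξ : H → ℂ) (F : G → ℂ)
    (hF : IsClassFunction G F) :
    ∑ g : G, F g * (inducedCentralChar H ξ g
        / ((Subgroup.centralizer ({g} : Set G)).index : ℂ))
      = ∑ h : H, F (h : G) * (ξ h / ξ 1) := by
  classical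
  have e1 : ∀ g : G, F g * (inducedCentralChar H ξ g
        / ((Subgroup.centralizer ({g} : Set G)).index : ℂ))
      = ∑ h : H, (if IsConj g (h : G) then
          F (h : G) * (ξ h / ξ 1 / ((Subgroup.centralizer ({(h : G)} : Set G)).index : ℂ))
          else 0) := by
    intro g
    rw [inducedCentralChar_eq_sum, Finset.sum_div, Finset.sum_div, Finset.mul_sum]
    refine Finset.sum_congr rfl fun h _ => ?_
    by_cases hc : IsConj g (h : G)
    · rw [if_pos hc, if_pos hc]
      obtain ⟨c, hc'⟩ := isConj_iff.1 hc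
      have hidx : (Subgroup.centralizer ({(h : G)} : Set G)).index
          = (Subgroup.centralizer ({g} : Set G)).index := by
        rw [Helper2.index_centralizer_eq_card_conj, Helper2.index_centralizer_eq_card_conj]
        exact Nat.card_congr (Equiv.subtypeEquivRight fun x =>
          ⟨fun hx => hx.trans hc.symm, fun hx => hx.trans hc⟩)
      have hFh : F (h : G) = F g := by
        rw [← hc']
        exact hF g c
      rw [hidx, hFh]
    · rw [if_neg hc, if_neg hc, zero_div, zero_div, mul_zero]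
  rw [Finset.sum_congr rfl (fun g _ => e1 g), Finset.sum_comm]
  refine Finset.sum_congr rfl fun h _ => ?_
  rw [← Finset.sum_filter, Finset.sum_const, nsmul_eq_mul]
  have hcard : (Finset.univ.filter (fun g : G => IsConj g (h : G))).card
      = (Subgroup.centralizer ({(h : G)} : Set G)).index := by
    rw [Helper2.index_centralizer_eq_card_conj, Nat.card_eq_fintype_card, Fintype.card_subtype]
  rw [hcard]
  have hidx0 : ((Subgroup.centralizer ({(h : G)} : Set G)).index : ℂ) ≠ 0 := by
    have := Subgroup.index_ne_zero_of_finite (H := Subgroup.centralizer ({(h : G)} : Set G))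
    exact_mod_cast this
  field_simp

/-- The Brauer homomorphism of a block whose induced block is `B` agrees with the central
character of `B` modulo the local ideal. -/
theorem brLam_congr_of_induced [Fintype (IrrCharacter G)] (hM : M.IsPrime) (H : Subgroup G)
    [Fintype H] {b : Set (IrrCharacter H)} {B : Set (IrrCharacter G)}
    (hind : IsInducedBlock M H b B) (ξ : IrrCharacter H) (hξ : ξ ∈ b) (χ₀ : IrrCharacter G)
    (hχ₀ : χ₀ ∈ B) (Φ : IrrCharacter G → ℂ) (hΦ : Φ ∈ specRing G M hM) :
    MemLocalIdeal M (brLam H ξ Φ - Φ χ₀) := by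
  unfold brLam
  rw [← sum_class_induced H (ξ : H → ℂ) (coeffT Φ) (coeffT_isClassFunction Φ),
    spec_eq_sum Φ χ₀, ← Finset.sum_sub_distrib]
  have hcl : IsClassFunction G (fun g => coeffT Φ g * (inducedCentralChar H (ξ : H → ℂ) g
      / ((Subgroup.centralizer ({g} : Set G)).index : ℂ))
      - coeffT Φ g * ((χ₀ : G → ℂ) g / (χ₀ : G → ℂ) 1)) := by
    intro g k
    simp only
    rw [coeffT_isClassFunction Φ g k, (Helper2.IsIrrCharacter.isClassFunction χ₀.2) g k,
      inducedCentralChar_conj, index_centralizer_conj]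
  refine sum_class_mem (localIdeal M hM) _ hcl fun g => ?_
  have hidx0 : ((Subgroup.centralizer ({g} : Set G)).index : ℂ) ≠ 0 := by
    have := Subgroup.index_ne_zero_of_finite (H := Subgroup.centralizer ({g} : Set G))
    exact_mod_cast this
  have h1 : ((Subgroup.centralizer ({g} : Set G)).index : ℂ) *
      (coeffT Φ g * (inducedCentralChar H (ξ : H → ℂ) g
        / ((Subgroup.centralizer ({g} : Set G)).index : ℂ))
        - coeffT Φ g * ((χ₀ : G → ℂ) g / (χ₀ : G → ℂ) 1))
      = coeffT Φ g * (inducedCentralChar H (ξ : H → ℂ) g - centralChar (χ₀ : G → ℂ) g) := by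
    unfold centralChar
    field_simp
  rw [h1]
  exact MemLocalIdeal.mul_left hM (mem_specRing.1 hΦ g) (hind.2.2 ξ hξ χ₀ hχ₀ g)

theorem coeffT_tildeSpec [Fintype (IrrCharacter G)] (χ : IrrCharacter G) (g : G) :
    coeffT (tildeSpec p χ) g = if p ∣ orderOf g then (0 : ℂ) else (χ : G → ℂ) g⁻¹ := by
  have hcl : IsClassFunction G (fun x : G => if p ∣ orderOf x then (0 : ℂ)
      else (χ : G → ℂ) x⁻¹) := by
    intro x k
    have ho : orderOf (k * x * k⁻¹) = orderOf x :=
      orderOf_injective (MulAut.conj k).toMonoidHom (MulAut.conj k).injective x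
    have hv : (χ : G → ℂ) (k * x * k⁻¹)⁻¹ = (χ : G → ℂ) x⁻¹ := by
      have e : (k * x * k⁻¹)⁻¹ = k * x⁻¹ * k⁻¹ := by group
      rw [e]
      exact (Helper2.IsIrrCharacter.isClassFunction χ.2) _ _
    show (if p ∣ orderOf (k * x * k⁻¹) then (0 : ℂ) else (χ : G → ℂ) (k * x * k⁻¹)⁻¹)
      = if p ∣ orderOf x then (0 : ℂ) else (χ : G → ℂ) x⁻¹
    rw [ho, hv]
  exact coeffT_forward (fun x : G => if p ∣ orderOf x then (0 : ℂ)
      else (χ : G → ℂ) x⁻¹) hcl g

/-- The ratio `[η, ψ] / ψ 1` on a subgroup, `η` the truncation of the restriction of `χ`, in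
terms of the Brauer homomorphism of `ψ` applied to the spectral truncation of `χ`. -/
theorem tildeRatio_restrict [Fintype (IrrCharacter G)] (H : Subgroup G) [Fintype H]
    (χ : IrrCharacter G) (ψ : IrrCharacter H) :
    classInner (fun h : H => if p ∣ orderOf h then (0 : ℂ) else
        ((p ^ (Nat.card H).factorization p : ℕ) : ℂ) * (χ : G → ℂ) h) (ψ : H → ℂ)
        / (ψ : H → ℂ) 1
      = ((p ^ (Nat.card H).factorization p : ℕ) : ℂ) / (Nat.card H : ℂ)
        * brLam H ψ (tildeSpec p χ) := by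
  unfold classInner brLam
  have e1 : ∑ h : H, (if p ∣ orderOf h then (0 : ℂ) else
        ((p ^ (Nat.card H).factorization p : ℕ) : ℂ) * (χ : G → ℂ) h) * conj ((ψ : H → ℂ) h)
      = ((p ^ (Nat.card H).factorization p : ℕ) : ℂ)
        * ∑ c : H, coeffT (tildeSpec p χ) (c : G) * (ψ : H → ℂ) c := by
    have h2 := Equiv.sum_comp (Equiv.inv H) (fun c : H =>
      coeffT (tildeSpec p χ) (c : G) * (ψ : H → ℂ) c)
    rw [← h2, Finset.mul_sum]
    refine Finset.sum_congr rfl fun h _ => ?_
    show _ = _ * (coeffT (tildeSpec p χ) ((h⁻¹ : H) : G) * (ψ : H → ℂ) h⁻¹)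
    rw [coeffT_tildeSpec, char_conj_eq_inv, Subgroup.orderOf_coe, orderOf_inv,
      Subgroup.coe_inv, inv_inv]
    split_ifs <;> ring
  rw [e1, Finset.mul_sum, Finset.mul_sum, Finset.mul_sum, Finset.sum_div]
  refine Finset.sum_congr rfl fun x _ => ?_
  ring

/-- Truncated restrictions of characters outside the induced block are killed. -/
theorem restrict_tilde_mem [Fact p.Prime] (hpM : IsPModular p M) (H : Subgroup G) [Fintype H]
    {b : Set (IrrCharacter H)} {B₀ : Set (IrrCharacter G)} (hind : IsInducedBlock M H b B₀)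
    (χ : IrrCharacter G) (ψ : IrrCharacter H) (hψ : ψ ∈ b) (hχ : χ ∉ B₀) :
    MemLocalIdeal M (classInner (fun h : H => if p ∣ orderOf h then (0 : ℂ) else
        ((p ^ (Nat.card H).factorization p : ℕ) : ℂ) * (χ : G → ℂ) h) (ψ : H → ℂ)
        / (ψ : H → ℂ) 1) := by
  have hM := hpM.2.1.isPrime
  have hp := hpM.1
  have := Helper24.finite_irrCharacter (G := G)
  have : Fintype (IrrCharacter G) := Fintype.ofFinite _
  obtain ⟨χ₀, hχ₀⟩ : ∃ χ₀ : IrrCharacter G, χ₀ ∈ B₀ := by
    obtain ⟨χ₁, hBeq⟩ := id hind.2.1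
    exact ⟨χ₁, by rw [hBeq]; exact mem_blockOf_self hM.ne_top χ₁⟩
  rw [tildeRatio_restrict]
  refine MemLocalIdeal.mul_left hM (natCast_div_memLocalRing hpM Nat.card_pos.ne' ?_) ?_
  · rw [Nat.Prime.factorization_pow hp, Finsupp.single_eq_same]
  have h1 := brLam_congr_of_induced hM H hind ψ hψ χ₀ hχ₀ (tildeSpec p χ) (tildeSpec_mem hM χ)
  have hns : ¬ SameBlock M (χ : G → ℂ) (χ₀ : G → ℂ) := fun hs =>
    hχ (mem_block_of_sameBlock hM hind.2.1 hχ₀ (sameBlock_symm hs))
  have h2 := classInner_tildeFun_eq_zero hpM χ χ₀ hns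
  have h3 := classInner_tildeFun (p := p) χ χ₀
  rw [h2, zero_div] at h3
  have hG : (Nat.card G : ℂ) ≠ 0 := Nat.cast_ne_zero.mpr Nat.card_pos.ne'
  have hpa : ((p ^ (Nat.card G).factorization p : ℕ) : ℂ) ≠ 0 :=
    Nat.cast_ne_zero.mpr (pow_ne_zero _ hp.ne_zero)
  have h4 : tildeSpec p χ χ₀ = 0 := by
    rcases mul_eq_zero.1 h3.symm with h | h
    · exact absurd h (div_ne_zero hpa hG)
    · exact h
  rw [h4, sub_zero] at h1
  exact h1

/-- Truncated restrictions of height-zero characters of the induced block are units. -/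
theorem restrict_tilde_not_mem [Fact p.Prime] (hpM : IsPModular p M) (H : Subgroup G)
    [Fintype H] {b : Set (IrrCharacter H)} {B₀ : Set (IrrCharacter G)}
    (hind : IsInducedBlock M H b B₀) (χ : IrrCharacter G) (ψ : IrrCharacter H) (hψ : ψ ∈ b)
    (hχ : χ ∈ B₀) (h0 : blockHeight p B₀ (χ : G → ℂ) = 0) :
    ¬ MemLocalIdeal M (classInner (fun h : H => if p ∣ orderOf h then (0 : ℂ) else
        ((p ^ (Nat.card H).factorization p : ℕ) : ℂ) * (χ : G → ℂ) h) (ψ : H → ℂ)
        / (ψ : H → ℂ) 1) := by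
  have hM := hpM.2.1.isPrime
  have hp := hpM.1
  have := Helper24.finite_irrCharacter (G := G)
  have : Fintype (IrrCharacter G) := Fintype.ofFinite _
  rw [tildeRatio_restrict]
  intro hmem
  have h1 := brLam_congr_of_induced hM H hind ψ hψ χ hχ (tildeSpec p χ) (tildeSpec_mem hM χ)
  have hH : (Nat.card H : ℂ) ≠ 0 := Nat.cast_ne_zero.mpr Nat.card_pos.ne'
  have hpa : ((p ^ (Nat.card H).factorization p : ℕ) : ℂ) ≠ 0 :=
    Nat.cast_ne_zero.mpr (pow_ne_zero _ hp.ne_zero)
  have hR : MemLocalRing M ((Nat.card H : ℂ) / ((p ^ (Nat.card H).factorization p : ℕ) : ℂ)) := by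
    refine natCast_div_memLocalRing hpM (pow_ne_zero _ hp.ne_zero) ?_
    rw [Nat.Prime.factorization_pow hp, Finsupp.single_eq_same]
  have h2 := MemLocalIdeal.mul_left hM hR hmem
  have e : (Nat.card H : ℂ) / ((p ^ (Nat.card H).factorization p : ℕ) : ℂ)
      * (((p ^ (Nat.card H).factorization p : ℕ) : ℂ) / (Nat.card H : ℂ)
        * brLam H ψ (tildeSpec p χ)) = brLam H ψ (tildeSpec p χ) := by
    field_simp
  rw [e] at h2
  have h3 := MemLocalIdeal.sub hM h2 h1
  rw [sub_sub_cancel] at h3
  apply height_zero_ratio_not_mem hpM hind.2.1 χ hχ h0 χ hχ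
  rw [classInner_tildeFun]
  refine MemLocalIdeal.mul_left hM (natCast_div_memLocalRing hpM Nat.card_pos.ne' ?_) h3
  rw [Nat.Prime.factorization_pow hp, Finsupp.single_eq_same]

end

end Cfsg.Agent.Helper25
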