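import Cfsg.Agent.Helper25.BlockAut
import Cfsg.Agent.Helper25.SecondMain
import Cfsg.Agent.Helper25.BlockSection
import Cfsg.Agent.Helper25.HeightZero3
import Cfsg.Agent.Helper25.InducedPart2

set_option autoImplicit false
set_option linter.unusedSectionVars false

/-!
# The second main theorem in idempotent form (helper25)

Transport of irreducible characters along a group isomorphism, and the block part of a class
function through the idempotent of the inducing blocks of the centralizer of the `p`-part.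
-/

namespace Cfsg.Agent.Helper25

open Cfsg
open scoped ComplexConjugate

/-- Transport of irreducible characters along a group isomorphism. -/
noncomputable def irrCongr {K K' : Type*} [Group K] [Group K'] [Finite K] [Finite K']
    (e : K ≃* K') : IrrCharacter K' ≃ IrrCharacter K where
  toFun ψ := ⟨(ψ : K' → ℂ) ∘ e, by
    classical
    have : Fintype K := Fintype.ofFinite K
    have : Fintype K' := Fintype.ofFinite K'
    exact Helper6.isIrrCharacter_comp_surjective e.toMonoidHom e.surjective ψ.2⟩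
  invFun ψ := ⟨(ψ : K → ℂ) ∘ e.symm, by
    classical
    have : Fintype K := Fintype.ofFinite K
    have : Fintype K' := Fintype.ofFinite K'
    exact Helper6.isIrrCharacter_comp_surjective e.symm.toMonoidHom e.symm.surjective ψ.2⟩
  left_inv ψ := by
    apply Subtype.ext
    funext k
    show (ψ : K' → ℂ) (e (e.symm k)) = (ψ : K' → ℂ) k
    rw [MulEquiv.apply_symm_apply]
  right_inv ψ := by
    apply Subtype.ext
    funext k
    show (ψ : K → ℂ) (e.symm (e k)) = (ψ : K → ℂ) k
    rw [MulEquiv.symm_apply_apply]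

theorem irrCongr_apply {K K' : Type*} [Group K] [Group K'] [Finite K] [Finite K']
    (e : K ≃* K') (ψ : IrrCharacter K') (k : K) :
    (irrCongr e ψ : K → ℂ) k = (ψ : K' → ℂ) (e k) := rfl

theorem coeffT_irrCongr {K K' : Type*} [Group K] [Group K'] [Fintype K] [Fintype K']
    [Fintype (IrrCharacter K)] [Fintype (IrrCharacter K')] (e : K ≃* K')
    (Φ : IrrCharacter K → ℂ) (k : K) :
    coeffT (fun ψ' : IrrCharacter K' => Φ (irrCongr e ψ')) (e k) = coeffT Φ k := by
  unfold coeffT
  rw [← Nat.card_congr e.toEquiv]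
  congr 1
  refine Fintype.sum_equiv (irrCongr e) _ _ fun ψ' => ?_
  rw [irrCongr_apply, irrCongr_apply, map_one]

section Idem

variable {K : Type*} [Group K] [Fintype K] [Fintype (IrrCharacter K)] {M : Ideal AlgInt} {p : ℕ}

/-- The `b`-part of a class function at `z w` (`z` a `p`-element, `w` a `p`-regular element of
its centralizer) through the idempotent of the blocks of the centralizer of `z` inducing `b`. -/
theorem block_part_idem [Fact p.Prime] (hpM : IsPModular p M) (z : K)
    (hz : ∃ k : ℕ, orderOf z = p ^ k) (ϑ : K → ℂ) (hϑ : IsClassFunction K ϑ)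
    (b : Set (IrrCharacter K)) (hb : IsPBlock M b)
    [Fintype (Subgroup.centralizer ({z} : Set K))]
    [Fintype (IrrCharacter (Subgroup.centralizer ({z} : Set K)))]
    (A : Set (IrrCharacter (Subgroup.centralizer ({z} : Set K)))) [DecidablePred (· ∈ A)]
    (hA : ∀ ψ : IrrCharacter (Subgroup.centralizer ({z} : Set K)), ψ ∈ A ↔
      IsInducedBlock M (Subgroup.centralizer ({z} : Set K))
        (blockOf M (ψ : Subgroup.centralizer ({z} : Set K) → ℂ)) b)
    (w : Subgroup.centralizer ({z} : Set K)) (hw : ¬ p ∣ orderOf w) :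
    ∑ᶠ k : K, blockCoeff b k * ϑ (k * (z * (w : K)))
      = ∑ c : Subgroup.centralizer ({z} : Set K),
          coeffT (fun ψ : IrrCharacter (Subgroup.centralizer ({z} : Set K)) =>
            if ψ ∈ A then (1 : ℂ) else 0) c * ϑ (z * ((w : K) * (c : K))) := by
  classical
  have hcomm : ∀ k h : K, ϑ (k * h) = ϑ (h * k) := by
    intro k h
    have h1 := hϑ (h * k) k
    rw [← h1]
    congr 1
    group
  have hf : IsClassFunction (Subgroup.centralizer ({z} : Set K))
      (fun c : Subgroup.centralizer ({z} : Set K) => ϑ (z * (c : K))) := by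
    intro c k
    show ϑ (z * ((k : K) * (c : K) * (k : K)⁻¹)) = ϑ (z * (c : K))
    have hk : z * (k : K) = (k : K) * z :=
      (Subgroup.mem_centralizer_iff.mp k.2 z (Set.mem_singleton z))
    have e : z * ((k : K) * (c : K) * (k : K)⁻¹) = (k : K) * (z * (c : K)) * (k : K)⁻¹ := by
      calc z * ((k : K) * (c : K) * (k : K)⁻¹) = (z * (k : K)) * (c : K) * (k : K)⁻¹ := by group
        _ = ((k : K) * z) * (c : K) * (k : K)⁻¹ := by rw [hk]
        _ = (k : K) * (z * (c : K)) * (k : K)⁻¹ := by group
    rw [e]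
    exact hϑ _ _
  have h1 := sum_classInner_eq (fun ξ : IrrCharacter K => if ξ ∈ b then (1 : ℂ) else 0) ϑ hϑ
    (z * (w : K))
  have h2 := block_part_formula hpM z hz ϑ hϑ b hb A hA w hw
  have h3 := sum_classInner_eq (fun ψ : IrrCharacter (Subgroup.centralizer ({z} : Set K)) =>
      if ψ ∈ A then (1 : ℂ) else 0)
    (fun c : Subgroup.centralizer ({z} : Set K) => ϑ (z * (c : K))) hf w
  rw [finsum_eq_sum_of_fintype]
  have e1 : ∀ k : K, blockCoeff b k * ϑ (k * (z * (w : K)))
      = coeffT (fun ξ : IrrCharacter K => if ξ ∈ b then (1 : ℂ) else 0) k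
        * ϑ (z * (w : K) * k) := by
    intro k
    rw [blockCoeff_eq_coeffT, hcomm]
  rw [Finset.sum_congr rfl fun k _ => e1 k, ← h1]
  have e2 : ∑ ξ : IrrCharacter K, (if ξ ∈ b then (1 : ℂ) else 0)
      * (classInner ϑ (ξ : K → ℂ) * (ξ : K → ℂ) (z * (w : K)))
      = ∑ᶠ ξ ∈ b, classInner ϑ (ξ : K → ℂ) * (ξ : K → ℂ) (z * (w : K)) := by
    rw [finsum_mem_eq_sum_ite]
    refine Finset.sum_congr rfl fun ξ _ => ?_
    by_cases hξ : ξ ∈ b
    · rw [if_pos hξ, if_pos hξ, one_mul]
    · rw [if_neg hξ, if_neg hξ, zero_mul]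
  rw [e2, h2]
  have e3 : ∀ c : Subgroup.centralizer ({z} : Set K),
      coeffT (fun ψ : IrrCharacter (Subgroup.centralizer ({z} : Set K)) =>
            if ψ ∈ A then (1 : ℂ) else 0) c * ϑ (z * ((w : K) * (c : K)))
      = coeffT (fun ψ : IrrCharacter (Subgroup.centralizer ({z} : Set K)) =>
            if ψ ∈ A then (1 : ℂ) else 0) c *
          (fun c : Subgroup.centralizer ({z} : Set K) => ϑ (z * (c : K))) (w * c) := fun c => rfl
  rw [Finset.sum_congr rfl fun c _ => e3 c, ← h3]
  unfold classInner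
  rw [Finset.mul_sum]
  have e4 : ∀ c : Subgroup.centralizer ({z} : Set K),
      (Nat.card (Subgroup.centralizer ({z} : Set K)) : ℂ)⁻¹ * (ϑ (z * (c : K)) *
        ∑ᶠ ψ ∈ A, (ψ : Subgroup.centralizer ({z} : Set K) → ℂ) w
          * conj ((ψ : Subgroup.centralizer ({z} : Set K) → ℂ) c))
      = ∑ ψ : IrrCharacter (Subgroup.centralizer ({z} : Set K)),
        (if ψ ∈ A then (1 : ℂ) else 0) * ((Nat.card (Subgroup.centralizer ({z} : Set K)) : ℂ)⁻¹
          * (ϑ (z * (c : K)) * conj ((ψ : Subgroup.centralizer ({z} : Set K) → ℂ) c))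
          * (ψ : Subgroup.centralizer ({z} : Set K) → ℂ) w) := by
    intro c
    rw [finsum_mem_eq_sum_ite, Finset.mul_sum, Finset.mul_sum]
    refine Finset.sum_congr rfl fun ψ _ => ?_
    by_cases hψ : ψ ∈ A
    · rw [if_pos hψ, if_pos hψ]
      ring
    · rw [if_neg hψ, if_neg hψ]
      ring
  rw [Finset.sum_congr rfl fun c _ => e4 c, Finset.sum_comm]
  refine Finset.sum_congr rfl fun ψ _ => ?_
  rw [← Finset.mul_sum, ← Finset.sum_mul, ← Finset.mul_sum]

end Idem

end Cfsg.Agent.Helper25
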