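import Cfsg.Agent.Helper25.InducedGen2
import Cfsg.Agent.Helper25.BlockCover

set_option autoImplicit false
set_option linter.unusedSectionVars false

/-!
# Induced central characters from a normal subgroup (helper25)
-/

namespace Cfsg.Agent.Helper25

open Cfsg
open scoped ComplexConjugate

/-- Conjugation by `x` on a normal subgroup, as a bijection. -/
def conjEquivN {G : Type*} [Group G] (N : Subgroup G) [hN : N.Normal] (x : G) : N ≃ N where
  toFun n := ⟨x * (n : G) * x⁻¹, hN.conj_mem (n : G) n.2 x⟩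
  invFun n := ⟨x⁻¹ * (n : G) * x, by
    have := hN.conj_mem (n : G) n.2 x⁻¹
    simpa using this⟩
  left_inv n := Subtype.ext (by
    show x⁻¹ * (x * (n : G) * x⁻¹) * x = (n : G)
    group)
  right_inv n := Subtype.ext (by
    show x * (x⁻¹ * (n : G) * x) * x⁻¹ = (n : G)
    group)

section Cover

variable {G : Type*} [Group G] [Fintype G] {M : Ideal AlgInt} {p : ℕ}

/-- For a normal subgroup `N`, a character `χ` over `θ` and `g ∈ N`, the central character of `θ`
induced to `G` agrees with the central character of `χ` at `g`. -/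
theorem inducedCentralChar_eq_of_over (N : Subgroup G) [hN : N.Normal] [Fintype N]
    (χ : IrrCharacter G) (θ : IrrCharacter N)
    (hcon : classInner (fun n : N => (χ : G → ℂ) n) (θ : N → ℂ) ≠ 0) (g : G) (hg : g ∈ N) :
    inducedCentralChar N (θ : N → ℂ) g = centralChar (χ : G → ℂ) g := by
  classical
  have := Helper24.finite_irrCharacter (G := N)
  have : Fintype (IrrCharacter N) := Fintype.ofFinite _
  have := Helper24.finite_irrCharacter (G := G)
  have : Fintype (IrrCharacter G) := Fintype.ofFinite _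
  obtain ⟨f, hfdef⟩ : ∃ f : N → ℂ, f = fun n : N => if IsConj g (n : G) then (1 : ℂ) else 0 :=
    ⟨_, rfl⟩
  have hfcl : IsClassFunction N f := by
    intro n k
    rw [hfdef]
    have hkk : IsConj (n : G) ((k * n * k⁻¹ : N) : G) := isConj_iff.2 ⟨(k : G), rfl⟩
    have h1 : IsConj g ((k * n * k⁻¹ : N) : G) ↔ IsConj g (n : G) :=
      ⟨fun h' => h'.trans hkk.symm, fun h' => h'.trans hkk⟩
    simp only [h1]
  obtain ⟨Φ, hΦdef⟩ : ∃ Φ : IrrCharacter N → ℂ, Φ = fun θ' : IrrCharacter N =>
      ∑ n : N, f n * ((θ' : N → ℂ) n / (θ' : N → ℂ) 1) := ⟨_, rfl⟩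
  have hcoef : ∀ n : N, coeffT Φ n = f n := by
    intro n
    rw [hΦdef]
    exact coeffT_forward f hfcl n
  have hinv : ∀ (x : G) (θ' : IrrCharacter N), Φ (conjIrr N x θ') = Φ θ' := by
    intro x θ'
    rw [hΦdef]
    simp only []
    refine Fintype.sum_equiv (conjEquivN N x) _ _ fun n => ?_
    rw [conjIrr_coe]
    show f n * (Helper6.conjFun N x (θ' : N → ℂ) n / Helper6.conjFun N x (θ' : N → ℂ) 1)
      = f ⟨x * (n : G) * x⁻¹, hN.conj_mem (n : G) n.2 x⟩
        * ((θ' : N → ℂ) ⟨x * (n : G) * x⁻¹, hN.conj_mem (n : G) n.2 x⟩ / (θ' : N → ℂ) 1)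
    rw [Helper6.conjFun_apply, Helper6.conjFun_apply]
    have e2 : (⟨x * ((1 : N) : G) * x⁻¹, hN.conj_mem _ (1 : N).2 x⟩ : N) = 1 :=
      Subtype.ext (by simp)
    rw [e2]
    have e3 : f ⟨x * (n : G) * x⁻¹, hN.conj_mem (n : G) n.2 x⟩ = f n := by
      rw [hfdef]
      have hkk : IsConj (n : G) (x * (n : G) * x⁻¹) := isConj_iff.2 ⟨x, rfl⟩
      have h1 : IsConj g (x * (n : G) * x⁻¹) ↔ IsConj g (n : G) :=
        ⟨fun h' => h'.trans hkk.symm, fun h' => h'.trans hkk⟩
      simp only [h1]
    rw [e3]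
  have h1 := spec_extend_over N Φ hinv χ θ hcon
  have h2 : Φ θ = inducedCentralChar N (θ : N → ℂ) g := by
    rw [inducedCentralChar_eq_sum, hΦdef, Finset.sum_div]
    refine Finset.sum_congr rfl fun n _ => ?_
    rw [hfdef]
    by_cases hc : IsConj g (n : G)
    · simp only [if_pos hc]
      ring
    · simp only [if_neg hc]
      ring
  have h0 := spec_eq_sum (fun χ' : IrrCharacter G => centralChar (χ' : G → ℂ) g) χ
  have h3 : centralChar (χ : G → ℂ) g
      = ∑ x : G, extendByZero N (coeffT Φ) x * ((χ : G → ℂ) x / (χ : G → ℂ) 1) := by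
    refine h0.trans ?_
    refine Finset.sum_congr rfl fun x _ => ?_
    rw [coeffT_central g x]
    by_cases hx : x ∈ N
    · rw [Helper2.extendByZero_apply_mem N _ hx, hcoef, hfdef]
      by_cases hc : IsConj g x
      · rw [if_pos hc.symm]
        simp only [if_pos hc]
      · rw [if_neg (fun h => hc h.symm)]
        simp only [if_neg hc]
    · rw [Helper2.extendByZero_apply_not_mem N _ hx, if_neg, zero_mul]
      intro hc
      apply hx
      obtain ⟨c, hc'⟩ := isConj_iff.1 hc.symm
      rw [← hc']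
      exact hN.conj_mem g hg c
  rw [h3, h1, h2]

end Cover

end Cfsg.Agent.Helper25
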