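import Cfsg.Agent.Helper25.FirstMain3
import Cfsg.Agent.Helper25.SecondMainIdem
import Cfsg.Agent.S0971

set_option autoImplicit false
set_option linter.unusedSectionVars false

/-!
# The extended first main theorem (helper25)
-/

namespace Cfsg.Agent.Helper25

open Cfsg
open scoped ComplexConjugate

theorem normal_sup_centralizer {K : Type*} [Group K] (Q : Subgroup K) [hQ : Q.Normal] :
    (Q ⊔ Subgroup.centralizer (Q : Set K)).Normal := by
  have hC : (Subgroup.centralizer (Q : Set K)).Normal := by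
    refine ⟨fun c hc x => ?_⟩
    refine conj_mem_centralizer_of_mem_normalizer (P := Q) ?_ hc
    rw [Subgroup.mem_normalizer_iff]
    intro h
    constructor
    · intro hh
      exact hQ.conj_mem h hh x
    · intro hh
      have h1 := hQ.conj_mem _ hh x⁻¹
      have e : x⁻¹ * (x * h * x⁻¹) * x⁻¹⁻¹ = h := by group
      rwa [e] at h1
  infer_instance

section Ext

variable {M : Ideal AlgInt} {p : ℕ}

/-- A block of `Q C(Q)`, `Q` a normal `p`-subgroup, induces every block covering it. -/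
theorem cover_induced {K : Type*} [Group K] [Fintype K] [Fact p.Prime] (hpM : IsPModular p M)
    (Q : Subgroup K) [Q.Normal] (hQ : IsPGroup p Q) (L₀ : Subgroup K)
    (hL₀ : L₀ = Q ⊔ Subgroup.centralizer (Q : Set K)) [Fintype L₀] (θ₀ : IrrCharacter L₀)
    (ζ : IrrCharacter K)
    (hcon : classInner (fun l : L₀ => (ζ : K → ℂ) l) (θ₀ : L₀ → ℂ) ≠ 0) :
    IsInducedBlock M L₀ (blockOf M (θ₀ : L₀ → ℂ)) (blockOf M (ζ : K → ℂ)) := by
  subst hL₀
  have hM := hpM.2.1.isPrime
  have h1 := Cfsg.Agent.S0971.result p M hpM Q hQ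
    (blockOf M (θ₀ : ↥(Q ⊔ Subgroup.centralizer (Q : Set K)) → ℂ)) ⟨θ₀, rfl⟩
  have h2 := h1.2 (blockOf M (ζ : K → ℂ)) ⟨ζ, rfl⟩
  apply h2
  exact ⟨ζ, mem_blockOf_self hM.ne_top ζ, θ₀, mem_blockOf_self hM.ne_top θ₀, hcon⟩

variable {G : Type*} [Group G] [Fintype G] [Fintype (IrrCharacter G)]

/-- The defect group of a block inducing a block with defect group `D`, for a subgroup between
`D` and its normalizer. -/
theorem defect_of_induced [Fact p.Prime] (hpM : IsPModular p M) (D H : Subgroup G)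
    [Fintype H] (hDH : D ≤ H) (hHN : H ≤ Subgroup.normalizer (D : Set G))
    (b : Set (IrrCharacter H)) (B : Set (IrrCharacter G)) (hind : IsInducedBlock M H b B)
    (hD : IsDefectGroup p M B D) : IsDefectGroup p M b (D.subgroupOf H) := by
  classical
  have hM := hpM.2.1.isPrime
  have hB := hind.2.1
  obtain ⟨g, hg, S, hDS⟩ := id hD
  have hDp : IsPGroup p D := by
    rw [hDS]
    exact S.isPGroup'.map _
  obtain ⟨y, hy⟩ := exists_defectClass hM hind.1
  obtain ⟨Sb⟩ : Nonempty (Sylow p (Subgroup.centralizer ({y} : Set H))) := inferInstance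
  have hDb : IsDefectGroup p M b ((Sb : Subgroup (Subgroup.centralizer ({y} : Set H))).map
      (Subgroup.centralizer ({y} : Set H)).subtype) := ⟨y, hy, Sb, rfl⟩
  have hnormal : (D.subgroupOf H).Normal := by
    refine ⟨fun n hn g => ?_⟩
    rw [Subgroup.mem_subgroupOf] at hn ⊢
    have hg := hHN g.2
    rw [Subgroup.mem_normalizer_iff] at hg
    exact (hg (n : G)).1 hn
  have hle := normal_pgroup_le_defectGroup hpM (D.subgroupOf H) hDp.comap_subtype hind.1 hDb
  obtain ⟨E, hE, hDbE⟩ := induced_defectGroup_le hpM H hind.1 hB hind _ hDb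
  have hcE := card_defectGroup hpM hB E hE
  have hcD := card_defectGroup hpM hB D hD
  have h1 : Nat.card (D.subgroupOf H) = Nat.card D :=
    Nat.card_congr (Subgroup.subgroupOfEquivOfLe hDH).toEquiv
  have h2 : Nat.card ((Sb : Subgroup (Subgroup.centralizer ({y} : Set H))).map
      (Subgroup.centralizer ({y} : Set H)).subtype) ≤ Nat.card E := by
    rw [← Subgroup.card_map_of_injective (Subgroup.subtype_injective H)]
    exact Subgroup.card_le_of_le hDbE
  have heq : D.subgroupOf H = (Sb : Subgroup (Subgroup.centralizer ({y} : Set H))).map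
      (Subgroup.centralizer ({y} : Set H)).subtype :=
    Subgroup.eq_of_le_of_card_ge hle (by rw [h1, hcD, ← hcE]; exact h2)
  rw [heq]
  exact hDb

/-- Transitivity of block induction through an intermediate subgroup, the lower step being
computed inside the intermediate subgroup. -/
theorem isInducedBlock_trans (hM : M.IsPrime) (N L : Subgroup G) [Fintype N] [Fintype L]
    (L₀ : Subgroup N) [Fintype L₀] (e : L₀ ≃* L)
    (he : ∀ l₀ : L₀, ((e l₀ : L) : G) = ((l₀ : N) : G))
    (b : Set (IrrCharacter L)) (B : Set (IrrCharacter G)) (hind : IsInducedBlock M L b B)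
    (θ : IrrCharacter L) (hθ : θ ∈ b) (β : Set (IrrCharacter N))
    (hind₀ : IsInducedBlock M L₀ (blockOf M (irrCongr e θ : L₀ → ℂ)) β) :
    IsInducedBlock M N β B := by
  classical
  have := Helper24.finite_irrCharacter (G := N)
  have : Fintype (IrrCharacter N) := Fintype.ofFinite _
  refine ⟨hind₀.2.1, hind.2.1, fun ζ₂ hζ₂ χ hχ g => ?_⟩
  obtain ⟨Φg, hΦgdef⟩ : ∃ Φg : IrrCharacter G → ℂ,
      Φg = fun χ' : IrrCharacter G => centralChar (χ' : G → ℂ) g := ⟨_, rfl⟩
  have hΦg : Φg ∈ specRing G M hM := by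
    rw [hΦgdef]
    exact central_mem_specRing hM g
  obtain ⟨ΦN, hΦNdef⟩ : ∃ ΦN : IrrCharacter N → ℂ, ΦN = fun ζ' : IrrCharacter N =>
      ∑ n : N, coeffT Φg (n : G) * ((ζ' : N → ℂ) n / (ζ' : N → ℂ) 1) := ⟨_, rfl⟩
  have hcoefN : ∀ n : N, coeffT ΦN n = coeffT Φg (n : G) := by
    intro n
    rw [hΦNdef]
    exact coeffT_forward (fun n : N => coeffT Φg (n : G))
      (isClassFunction_restrict N _ (coeffT_isClassFunction Φg)) n
  have hΦN : ΦN ∈ specRing N M hM := by
    rw [mem_specRing]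
    intro n
    rw [hcoefN]
    exact mem_specRing.1 hΦg _
  have h1 := brLam_congr_of_induced hM L₀ hind₀ (irrCongr e θ) (mem_blockOf_self hM.ne_top _)
    ζ₂ hζ₂ ΦN hΦN
  have e1 : brLam L₀ (irrCongr e θ) ΦN = brLam L θ Φg := by
    unfold brLam
    refine Fintype.sum_equiv e.toEquiv _ _ fun l₀ => ?_
    show coeffT ΦN (l₀ : N) * ((irrCongr e θ : L₀ → ℂ) l₀ / (irrCongr e θ : L₀ → ℂ) 1)
      = coeffT Φg ((e l₀ : L) : G) * ((θ : L → ℂ) (e l₀) / (θ : L → ℂ) 1)
    rw [hcoefN, irrCongr_apply, irrCongr_apply, map_one, he]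
  have e2 : ΦN ζ₂ = inducedCentralChar N (ζ₂ : N → ℂ) g := by
    rw [inducedCentralChar_eq_brLam, hΦNdef, ← hΦgdef]
    rfl
  have h2 := brLam_congr_of_induced hM L hind θ hθ χ hχ Φg hΦg
  rw [e1, e2] at h1
  have e3 : Φg χ = centralChar (χ : G → ℂ) g := by rw [hΦgdef]
  rw [e3] at h2
  have h3 := MemLocalIdeal.sub hM h2 h1
  convert h3 using 1
  ring

/-- Extended first main theorem, conjugacy part: two blocks of `P C(P)` inducing a block with
defect group `P` are conjugate under the normalizer of `P`. -/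
theorem ext_first_main_conj [Fact p.Prime] (hpM : IsPModular p M) (P L : Subgroup G)
    (hL : L = P ⊔ Subgroup.centralizer (P : Set G)) (B : Set (IrrCharacter G))
    (hP : IsDefectGroup p M B P) (b b' : Set (IrrCharacter L))
    (hind : IsInducedBlock M L b B) (hind' : IsInducedBlock M L b' B) :
    ∃ n ∈ Subgroup.normalizer (P : Set G), ∀ θ ∈ b, ∃ θ' ∈ b', ∀ x : L,
      ∀ hx : n * (x : G) * n⁻¹ ∈ L, (θ' : L → ℂ) x = (θ : L → ℂ) ⟨n * (x : G) * n⁻¹, hx⟩ := by
  classical
  have hM := hpM.2.1.isPrime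
  have hB := hind.2.1
  obtain ⟨g₁, hg₁, S₁, hPS⟩ := id hP
  have hPp : IsPGroup p P := by
    rw [hPS]
    exact S₁.isPGroup'.map _
  have hPN : P ≤ Subgroup.normalizer (P : Set G) := Subgroup.le_normalizer
  have hCN := Subgroup.centralizer_le_normalizer (P : Set G)
  have hLN : L ≤ Subgroup.normalizer (P : Set G) := by
    rw [hL]
    exact sup_le hPN hCN
  have : Fintype L := Fintype.ofFinite _
  have : Fintype (Subgroup.normalizer (P : Set G)) := Fintype.ofFinite _
  have := Helper24.finite_irrCharacter (G := Subgroup.normalizer (P : Set G))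
  have : Fintype (IrrCharacter (Subgroup.normalizer (P : Set G))) := Fintype.ofFinite _
  have hQ₀n : (P.subgroupOf (Subgroup.normalizer (P : Set G))).Normal := by
    refine ⟨fun n hn g => ?_⟩
    rw [Subgroup.mem_subgroupOf] at hn ⊢
    have hg := g.2
    rw [Subgroup.mem_normalizer_iff] at hg
    exact (hg (n : G)).1 hn
  have hQ₀p : IsPGroup p (P.subgroupOf (Subgroup.normalizer (P : Set G))) := hPp.comap_subtype
  obtain ⟨L₀, hL₀def⟩ : ∃ L₀ : Subgroup (Subgroup.normalizer (P : Set G)),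
      L₀ = P.subgroupOf (Subgroup.normalizer (P : Set G))
        ⊔ Subgroup.centralizer ((P.subgroupOf (Subgroup.normalizer (P : Set G)) :
          Subgroup (Subgroup.normalizer (P : Set G))) : Set (Subgroup.normalizer (P : Set G))) :=
    ⟨_, rfl⟩
  have hL₀n : L₀.Normal := by
    rw [hL₀def]
    exact normal_sup_centralizer _
  have : Fintype L₀ := Fintype.ofFinite _
  have hmap : L₀.map (Subgroup.normalizer (P : Set G)).subtype = L := by
    rw [hL₀def, hL, Subgroup.map_sup]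
    congr 1
    · rw [Subgroup.subgroupOf_map_subtype]
      exact inf_of_le_left hPN
    · ext c
      constructor
      · rintro ⟨c', hc', rfl⟩
        rw [SetLike.mem_coe, Subgroup.mem_centralizer_iff] at hc'
        rw [Subgroup.mem_centralizer_iff]
        intro u hu
        have h1 := hc' ⟨u, hPN hu⟩ (by rw [SetLike.mem_coe, Subgroup.mem_subgroupOf]; exact hu)
        exact congrArg Subtype.val h1
      · intro hc
        refine ⟨⟨c, hCN hc⟩, ?_, rfl⟩
        rw [SetLike.mem_coe, Subgroup.mem_centralizer_iff]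
        intro u hu
        rw [SetLike.mem_coe, Subgroup.mem_subgroupOf] at hu
        exact Subtype.ext (Subgroup.mem_centralizer_iff.1 hc _ hu)
  obtain ⟨e, he⟩ : ∃ e : L₀ ≃* L, ∀ l₀ : L₀, ((e l₀ : L) : G)
      = ((l₀ : Subgroup.normalizer (P : Set G)) : G) :=
    ⟨(L₀.equivMapOfInjective _ (Subgroup.subtype_injective _)).trans
      (MulEquiv.subgroupCongr hmap), fun l₀ => rfl⟩
  obtain ⟨θ, hθ⟩ := block_nonempty hM hind.1
  obtain ⟨θ', hθ'⟩ := block_nonempty hM hind'.1
  obtain ⟨ζ, hζ⟩ := exists_over L₀ (irrCongr e θ)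
  obtain ⟨ζ', hζ'⟩ := exists_over L₀ (irrCongr e θ')
  have hind₀ := cover_induced hpM (P.subgroupOf (Subgroup.normalizer (P : Set G))) hQ₀p L₀ hL₀def
    (irrCongr e θ) ζ hζ
  have hind₀' := cover_induced hpM (P.subgroupOf (Subgroup.normalizer (P : Set G))) hQ₀p L₀ hL₀def
    (irrCongr e θ') ζ' hζ'
  have hβ := isInducedBlock_trans hM (Subgroup.normalizer (P : Set G)) L L₀ e he b B hind θ hθ
    _ hind₀
  have hβ' := isInducedBlock_trans hM (Subgroup.normalizer (P : Set G)) L L₀ e he b' B hind' θ'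
    hθ' _ hind₀'
  have hDβ := defect_of_induced hpM P (Subgroup.normalizer (P : Set G)) hPN le_rfl _ B hβ hP
  have heq := firstMain_unique hpM P hPp _ _ hDβ B hβ hβ'
  have hs : SameBlock M (ζ : Subgroup.normalizer (P : Set G) → ℂ)
      (ζ' : Subgroup.normalizer (P : Set G) → ℂ) := by
    have h1 : ζ' ∈ blockOf M (ζ : Subgroup.normalizer (P : Set G) → ℂ) := by
      rw [heq]
      exact mem_blockOf_self hM.ne_top ζ'
    exact h1
  have hcc := cover_conj hM L₀ (b := blockOf M (irrCongr e θ : L₀ → ℂ)) ⟨irrCongr e θ, rfl⟩ hs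
    (mem_blockOf_self hM.ne_top _) hζ hζ'
  obtain ⟨n₀, θ₃, hθ₃, hθ₀'⟩ := hcc
  refine ⟨(n₀ : G), n₀.2, fun θ₂ hθ₂ => ?_⟩
  obtain ⟨φ, hφ⟩ : ∃ φ : L ≃* L, ∀ x : L,
      ((φ x : L) : G) = (n₀ : G) * (x : G) * (n₀ : G)⁻¹ := by
    refine ⟨e.symm.trans ((MulAut.conjNormal n₀ : L₀ ≃* L₀).trans e), fun x => ?_⟩
    show ((e (MulAut.conjNormal n₀ (e.symm x)) : L) : G) = _
    rw [he, MulAut.conjNormal_apply, Subgroup.coe_mul, Subgroup.coe_mul, Subgroup.coe_inv,
      ← he (e.symm x), MulEquiv.apply_symm_apply]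
  obtain ⟨θ₃L, hθ₃L⟩ : ∃ θ₃L : IrrCharacter L, irrCongr e θ₃L = θ₃ :=
    ⟨(irrCongr e).symm θ₃, Equiv.apply_symm_apply _ _⟩
  have hS2 : SameBlock M (θ : L → ℂ) (θ₃L : L → ℂ) := by
    have h1 : SameBlock M (irrCongr e θ : L₀ → ℂ) (irrCongr e θ₃L : L₀ → ℂ) := by
      rw [hθ₃L]
      exact hθ₃
    have h2 := sameBlock_comp_mulEquiv e.symm h1
    have e1 : (irrCongr e θ : L₀ → ℂ) ∘ e.symm = (θ : L → ℂ) := by
      funext x
      rw [Function.comp_apply, irrCongr_apply, MulEquiv.apply_symm_apply]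
    have e2 : (irrCongr e θ₃L : L₀ → ℂ) ∘ e.symm = (θ₃L : L → ℂ) := by
      funext x
      rw [Function.comp_apply, irrCongr_apply, MulEquiv.apply_symm_apply]
    rw [e1, e2] at h2
    exact h2
  have hθ'eq : (θ₃L : L → ℂ) ∘ φ = (θ' : L → ℂ) := by
    funext x
    rw [Function.comp_apply]
    have h1 : (θ' : L → ℂ) x = (irrCongr e θ' : L₀ → ℂ) (e.symm x) := by
      rw [irrCongr_apply, MulEquiv.apply_symm_apply]
    rw [h1, hθ₀', conjIrr_coe, Helper6.conjFun_apply, ← hθ₃L, irrCongr_apply]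
    refine congrArg _ (Subtype.ext ?_)
    rw [hφ, he]
    show _ = ((n₀ * (e.symm x : Subgroup.normalizer (P : Set G)) * n₀⁻¹ :
      Subgroup.normalizer (P : Set G)) : G)
    rw [Subgroup.coe_mul, Subgroup.coe_mul, Subgroup.coe_inv, ← he (e.symm x),
      MulEquiv.apply_symm_apply]
  have hS1 : SameBlock M (θ₂ : L → ℂ) (θ : L → ℂ) := by
    obtain ⟨ψ₁, hbψ⟩ := hind.1
    rw [hbψ] at hθ hθ₂
    exact sameBlock_trans hM (sameBlock_symm hθ₂) hθ
  have hS3 : SameBlock M (θ₃L : L → ℂ) (θ₂ : L → ℂ) :=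
    sameBlock_symm (sameBlock_trans hM hS1 hS2)
  have hS4 := sameBlock_comp_mulEquiv φ hS3
  rw [hθ'eq] at hS4
  refine ⟨autIrr φ θ₂, ?_, fun x hx => ?_⟩
  · obtain ⟨ψ', hb'ψ⟩ := hind'.1
    have h1 : b' = blockOf M (θ' : L → ℂ) := by
      rw [hb'ψ]
      rw [hb'ψ] at hθ'
      exact blockOf_eq_of_mem hM hθ'
    rw [h1]
    exact hS4
  · rw [autIrr_apply]
    refine congrArg (θ₂ : L → ℂ) (Subtype.ext ?_)
    exact hφ x

end Ext

end Cfsg.Agent.Helper25
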