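import Cfsg.Agent.Helper25.FirstMain1
import Cfsg.Agent.Helper17.Basic

set_option autoImplicit false
set_option linter.unusedSectionVars false

/-!
# Brauer's first main theorem (helper25)
-/

namespace Cfsg.Agent.Helper25

open Cfsg
open scoped ComplexConjugate

section Star

variable {G : Type*} [Group G] [Finite G] {p : ℕ} [Fact p.Prime]

/-- If `D` is a Sylow `p`-subgroup of the centralizer of `y` and a conjugate of `y` centralizes
`D`, the conjugation can be performed inside the normalizer of `D`. -/
theorem conj_in_normalizer_of_sylow_centralizer (D : Subgroup G) (hD : IsPGroup p D) (y : G)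
    (hDy : D ≤ Subgroup.centralizer ({y} : Set G))
    (hcard : Nat.card D = p ^ (Nat.card (Subgroup.centralizer ({y} : Set G))).factorization p)
    (g : G) (hg : g * y * g⁻¹ ∈ Subgroup.centralizer (D : Set G)) :
    ∃ n ∈ Subgroup.normalizer (D : Set G), n * y * n⁻¹ = g * y * g⁻¹ := by
  classical
  have hcard' : Nat.card (D.subgroupOf (Subgroup.centralizer ({y} : Set G)))
      = p ^ (Nat.card (Subgroup.centralizer ({y} : Set G))).factorization p := by
    rw [Nat.card_congr (Subgroup.subgroupOfEquivOfLe hDy).toEquiv]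
    exact hcard
  obtain ⟨S, hS⟩ : ∃ S : Sylow p (Subgroup.centralizer ({y} : Set G)),
      (S : Subgroup (Subgroup.centralizer ({y} : Set G)))
        = D.subgroupOf (Subgroup.centralizer ({y} : Set G)) :=
    ⟨Sylow.ofCard _ hcard', Sylow.coe_ofCard _ _⟩
  have hQle : ∀ u ∈ D, g⁻¹ * u * g ∈ Subgroup.centralizer ({y} : Set G) := by
    intro u hu
    rw [Subgroup.mem_centralizer_singleton_iff]
    have h1 := Subgroup.mem_centralizer_iff.1 hg u hu
    calc g⁻¹ * u * g * y = g⁻¹ * (u * (g * y * g⁻¹)) * g := by group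
      _ = g⁻¹ * ((g * y * g⁻¹) * u) * g := by rw [h1]
      _ = y * (g⁻¹ * u * g) := by group
  obtain ⟨Q, hQdef⟩ : ∃ Q : Subgroup (Subgroup.centralizer ({y} : Set G)),
      Q = (D.map (MulAut.conj g⁻¹).toMonoidHom).subgroupOf (Subgroup.centralizer ({y} : Set G)) :=
    ⟨_, rfl⟩
  have hQ : IsPGroup p Q := by
    rw [hQdef]
    exact (hD.map _).comap_subtype
  obtain ⟨c, hc⟩ := Helper17.exists_conj_le_sylow S Q hQ
  refine ⟨g * (c : G)⁻¹, ?_, ?_⟩
  · have h1 : (c : G) * g⁻¹ ∈ Subgroup.normalizer (D : Set G) := by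
      apply Subgroup.mem_normalizer_fintype
      intro u hu
      have hq : (⟨g⁻¹ * u * g, hQle u hu⟩ : Subgroup.centralizer ({y} : Set G)) ∈ Q := by
        rw [hQdef, Subgroup.mem_subgroupOf]
        exact ⟨u, hu, by simp [MulAut.conj_apply]⟩
      have hd := hc (Subgroup.mem_map_of_mem _ hq)
      rw [hS, Subgroup.mem_subgroupOf] at hd
      have e : (c : G) * g⁻¹ * u * ((c : G) * g⁻¹)⁻¹
          = (((MulAut.conj c).toMonoidHom ⟨g⁻¹ * u * g, hQle u hu⟩ :
            Subgroup.centralizer ({y} : Set G)) : G) := by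
        simp only [MulEquiv.coe_toMonoidHom, MulAut.conj_apply, Subgroup.coe_mul,
          Subgroup.coe_inv]
        group
      rw [SetLike.mem_coe, e]
      exact hd
    have h2 := inv_mem h1
    have e : ((c : G) * g⁻¹)⁻¹ = g * (c : G)⁻¹ := by group
    rwa [e] at h2
  · have hcy := Subgroup.mem_centralizer_singleton_iff.1 c.2
    calc g * (c : G)⁻¹ * y * (g * (c : G)⁻¹)⁻¹ = g * ((c : G)⁻¹ * (y * c)) * g⁻¹ := by group
      _ = g * ((c : G)⁻¹ * (c * y)) * g⁻¹ := by rw [hcy]
      _ = g * y * g⁻¹ := by group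

/-- A `p`-subgroup of the centralizer of `y` that is maximal among the `p`-subgroups of that
centralizer normalizing it is a Sylow `p`-subgroup of the centralizer. -/
theorem card_eq_of_normalizer_max (D : Subgroup G) (hD : IsPGroup p D) (y : G)
    (hDy : D ≤ Subgroup.centralizer ({y} : Set G))
    (hmax : ∀ E : Subgroup G, IsPGroup p E → D ≤ E → E ≤ Subgroup.normalizer (D : Set G) →
      E ≤ Subgroup.centralizer ({y} : Set G) → E ≤ D) :
    Nat.card D = p ^ (Nat.card (Subgroup.centralizer ({y} : Set G))).factorization p := by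
  classical
  have hD' : IsPGroup p (D.subgroupOf (Subgroup.centralizer ({y} : Set G))) := hD.comap_subtype
  obtain ⟨S, hS⟩ := hD'.exists_le_sylow
  obtain ⟨E, hEdef⟩ : ∃ E : Subgroup G, E = (S : Subgroup (Subgroup.centralizer ({y} : Set G))).map
      (Subgroup.centralizer ({y} : Set G)).subtype := ⟨_, rfl⟩
  have hEp : IsPGroup p E := by
    rw [hEdef]
    exact S.isPGroup'.map _
  have hEC : E ≤ Subgroup.centralizer ({y} : Set G) := by
    rw [hEdef]
    rintro _ ⟨s, _, rfl⟩
    exact s.2
  have hDE : D ≤ E := by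
    intro u hu
    rw [hEdef]
    exact ⟨⟨u, hDy hu⟩, hS (by rw [Subgroup.mem_subgroupOf]; exact hu), rfl⟩
  have hcardE : Nat.card E
      = p ^ (Nat.card (Subgroup.centralizer ({y} : Set G))).factorization p := by
    rw [hEdef, Subgroup.card_map_of_injective (Subgroup.subtype_injective _)]
    exact S.card_eq_multiplicity
  suffices hED : E ≤ D by
    rw [← hcardE, le_antisymm hDE hED]
  by_contra hne
  have hlt : D.subgroupOf E < ⊤ := by
    rw [lt_top_iff_ne_top]
    intro htop
    apply hne
    intro e he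
    have h1 : (⟨e, he⟩ : E) ∈ D.subgroupOf E := by
      rw [htop]
      exact Subgroup.mem_top _
    rwa [Subgroup.mem_subgroupOf] at h1
  have hnil : Group.IsNilpotent E := hEp.isNilpotent
  have hNC : NormalizerCondition E := Group.normalizerCondition_of_isNilpotent
  have hlt2 := hNC _ hlt
  obtain ⟨e, heN, heD⟩ := SetLike.exists_of_lt hlt2
  have hD'le := hmax ((Subgroup.normalizer ((D.subgroupOf E : Subgroup E) : Set E)).map E.subtype)
    ((hEp.to_subgroup _).map _)
    (by
      intro u hu
      exact ⟨⟨u, hDE hu⟩, Subgroup.le_normalizer (by rw [Subgroup.mem_subgroupOf]; exact hu),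
        rfl⟩)
    (by
      rintro _ ⟨e', he', rfl⟩
      apply Subgroup.mem_normalizer_fintype
      intro u hu
      have h1 := (Subgroup.mem_normalizer_iff.1 he' ⟨u, hDE hu⟩).1
        (by rw [Subgroup.mem_subgroupOf]; exact hu)
      rw [Subgroup.mem_subgroupOf] at h1
      exact h1)
    (by
      rintro _ ⟨e', _, rfl⟩
      exact hEC e'.2)
  apply heD
  rw [Subgroup.mem_subgroupOf]
  exact hD'le ⟨e, heN, rfl⟩

/-- The data of a defect group `D` of a block of the normalizer of `D`, read in the group. -/
theorem defect_data_of_normalizer (D : Subgroup G) (hD : IsPGroup p D)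
    (y : Subgroup.normalizer (D : Set G))
    (Sb : Sylow p (Subgroup.centralizer ({y} : Set (Subgroup.normalizer (D : Set G)))))
    (hSb : D.subgroupOf (Subgroup.normalizer (D : Set G))
      = (Sb : Subgroup (Subgroup.centralizer ({y} : Set (Subgroup.normalizer (D : Set G))))).map
        (Subgroup.centralizer ({y} : Set (Subgroup.normalizer (D : Set G)))).subtype) :
    D ≤ Subgroup.centralizer ({(y : G)} : Set G) ∧
      Nat.card D = p ^ (Nat.card (Subgroup.centralizer ({(y : G)} : Set G))).factorization p := by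
  classical
  have hDN : D ≤ Subgroup.normalizer (D : Set G) := Subgroup.le_normalizer
  have hDy : D ≤ Subgroup.centralizer ({(y : G)} : Set G) := by
    intro u hu
    have h1 : (⟨u, hDN hu⟩ : Subgroup.normalizer (D : Set G))
        ∈ D.subgroupOf (Subgroup.normalizer (D : Set G)) := by
      rw [Subgroup.mem_subgroupOf]
      exact hu
    rw [hSb] at h1
    obtain ⟨s, _, hs⟩ := h1
    have h2 := Subgroup.mem_centralizer_singleton_iff.1 s.2
    rw [Subgroup.mem_centralizer_singleton_iff]
    have h3 : ((s : Subgroup.normalizer (D : Set G)) : G) = u := congrArg Subtype.val hs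
    rw [← h3]
    exact congrArg Subtype.val h2
  refine ⟨hDy, card_eq_of_normalizer_max D hD (y : G) hDy ?_⟩
  intro E hE hDE hEN hEy
  have hEle : E.subgroupOf (Subgroup.normalizer (D : Set G))
      ≤ Subgroup.centralizer ({y} : Set (Subgroup.normalizer (D : Set G))) := by
    intro e he
    rw [Subgroup.mem_subgroupOf] at he
    rw [Subgroup.mem_centralizer_singleton_iff]
    apply Subtype.ext
    exact Subgroup.mem_centralizer_singleton_iff.1 (hEy he)
  have hQp : IsPGroup p ((E.subgroupOf (Subgroup.normalizer (D : Set G))).subgroupOf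
      (Subgroup.centralizer ({y} : Set (Subgroup.normalizer (D : Set G))))) :=
    (hE.comap_subtype).comap_subtype
  have hSQ : (Sb : Subgroup (Subgroup.centralizer ({y} : Set (Subgroup.normalizer (D : Set G)))))
      ≤ (E.subgroupOf (Subgroup.normalizer (D : Set G))).subgroupOf
        (Subgroup.centralizer ({y} : Set (Subgroup.normalizer (D : Set G)))) := by
    intro s hs
    rw [Subgroup.mem_subgroupOf, Subgroup.mem_subgroupOf]
    have h1 : ((s : Subgroup.centralizer ({y} : Set (Subgroup.normalizer (D : Set G)))) :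
        Subgroup.normalizer (D : Set G)) ∈ D.subgroupOf (Subgroup.normalizer (D : Set G)) := by
      rw [hSb]
      exact Subgroup.mem_map_of_mem _ hs
    rw [Subgroup.mem_subgroupOf] at h1
    exact hDE h1
  have hQeq := Sb.is_maximal' hQp hSQ
  intro e he
  have h1 : (⟨⟨e, hEN he⟩, hEle (by rw [Subgroup.mem_subgroupOf]; exact he)⟩ :
      Subgroup.centralizer ({y} : Set (Subgroup.normalizer (D : Set G))))
      ∈ (E.subgroupOf (Subgroup.normalizer (D : Set G))).subgroupOf
        (Subgroup.centralizer ({y} : Set (Subgroup.normalizer (D : Set G)))) := by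
    rw [Subgroup.mem_subgroupOf, Subgroup.mem_subgroupOf]
    exact he
  rw [hQeq] at h1
  have h2 : (⟨e, hEN he⟩ : Subgroup.normalizer (D : Set G))
      ∈ D.subgroupOf (Subgroup.normalizer (D : Set G)) := by
    rw [hSb]
    exact ⟨_, h1, rfl⟩
  rw [Subgroup.mem_subgroupOf] at h2
  exact h2

end Star

section Lift

open Classical in
/-- The value of `f` at any witness of `P`, or zero. -/
noncomputable def liftPred {α : Type*} (P : α → Prop) (f : α → ℂ) : ℂ :=
  if h : ∃ n, P n then f h.choose else 0

theorem liftPred_eq {α : Type*} (P : α → Prop) (f : α → ℂ) (n₀ : α) (hn₀ : P n₀)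
    (hwd : ∀ n n', P n → P n' → f n = f n') : liftPred P f = f n₀ := by
  unfold liftPred
  have h : ∃ n, P n := ⟨n₀, hn₀⟩
  rw [dif_pos h]
  exact hwd _ _ h.choose_spec hn₀

theorem liftPred_eq_zero {α : Type*} (P : α → Prop) (f : α → ℂ) (h : ¬ ∃ n, P n) :
    liftPred P f = 0 := by
  unfold liftPred
  rw [dif_neg h]

end Lift

end Cfsg.Agent.Helper25
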