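import Cfsg.Agent.Helper25.FirstMain2

set_option autoImplicit false
set_option linter.unusedSectionVars false

/-!
# Brauer's first main theorem: the correspondence (helper25)
-/

namespace Cfsg.Agent.Helper25

open Cfsg
open scoped ComplexConjugate

section Main

variable {G : Type*} [Group G] [Fintype G] [Fintype (IrrCharacter G)] {M : Ideal AlgInt} {p : ℕ}

/-- At an element of the normalizer of `D` whose centralizer has `D` as a Sylow `p`-subgroup,
the Brauer central character is the central character. -/
theorem brauerCentralChar_eq_of_sylow [Fact p.Prime] (D : Subgroup G) (hD : IsPGroup p D)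
    (y : Subgroup.normalizer (D : Set G))
    (hDy : D ≤ Subgroup.centralizer ({(y : G)} : Set G))
    (hcard : Nat.card D
      = p ^ (Nat.card (Subgroup.centralizer ({(y : G)} : Set G))).factorization p)
    (ξ : IrrCharacter (Subgroup.normalizer (D : Set G))) :
    brauerCentralChar D (Subgroup.normalizer (D : Set G))
        (ξ : Subgroup.normalizer (D : Set G) → ℂ) (y : G)
      = centralChar (ξ : Subgroup.normalizer (D : Set G) → ℂ) y := by
  classical
  have : Fintype (Subgroup.normalizer (D : Set G)) := Fintype.ofFinite _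
  have := Helper24.finite_irrCharacter (G := Subgroup.normalizer (D : Set G))
  have : Fintype (IrrCharacter (Subgroup.normalizer (D : Set G))) := Fintype.ofFinite _
  have h0 := spec_eq_sum (fun ξ' : IrrCharacter (Subgroup.normalizer (D : Set G)) =>
    centralChar (ξ' : Subgroup.normalizer (D : Set G) → ℂ) y) ξ
  refine Eq.trans ?_ h0.symm
  unfold brauerCentralChar
  rw [finsum_mem_eq_sum_ite]
  refine Finset.sum_congr rfl fun h _ => ?_
  rw [coeffT_central y h]
  have hyC : (y : G) ∈ Subgroup.centralizer (D : Set G) := by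
    rw [Subgroup.mem_centralizer_iff]
    intro u hu
    exact Subgroup.mem_centralizer_singleton_iff.1 (hDy hu)
  have hiff : (h ∈ {h : Subgroup.normalizer (D : Set G) | IsConj (y : G) (h : G)
      ∧ (h : G) ∈ Subgroup.centralizer (D : Set G)}) ↔ IsConj h y := by
    constructor
    · rintro ⟨h1, h2⟩
      obtain ⟨g, hg⟩ := isConj_iff.1 h1
      rw [← hg] at h2
      obtain ⟨n, hn, hn'⟩ := conj_in_normalizer_of_sylow_centralizer D hD (y : G) hDy hcard g h2
      refine (isConj_iff.2 ⟨⟨n, hn⟩, Subtype.ext ?_⟩).symm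
      show n * (y : G) * n⁻¹ = (h : G)
      rw [hn', hg]
    · intro hc
      obtain ⟨n, hn⟩ := isConj_iff.1 hc.symm
      have e : (h : G) = (n : G) * (y : G) * (n : G)⁻¹ := by
        rw [← hn]
        rfl
      refine ⟨isConj_iff.2 ⟨(n : G), e.symm⟩, ?_⟩
      rw [e]
      exact conj_mem_centralizer_of_mem_normalizer n.2 hyC
  by_cases hc : IsConj h y
  · rw [if_pos (hiff.2 hc), if_pos hc, one_mul]
  · rw [if_neg (fun h' => hc (hiff.1 h')), if_neg hc, zero_mul]

/-- First main theorem, part (i): the block induced by a block of the normalizer of `D` with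
defect group `D` has defect group `D`. -/
theorem firstMain_induced_defect [Fact p.Prime] (hpM : IsPModular p M) (D : Subgroup G)
    (hD : IsPGroup p D) (b : Set (IrrCharacter (Subgroup.normalizer (D : Set G))))
    (hDb : IsDefectGroup p M b (D.subgroupOf (Subgroup.normalizer (D : Set G))))
    (B : Set (IrrCharacter G))
    (hind : IsInducedBlock M (Subgroup.normalizer (D : Set G)) b B) :
    IsDefectGroup p M B D := by
  classical
  have hM := hpM.2.1.isPrime
  have : Fintype (Subgroup.normalizer (D : Set G)) := Fintype.ofFinite _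
  have hb := hind.1
  have hB := hind.2.1
  have hDN : D ≤ Subgroup.normalizer (D : Set G) := Subgroup.le_normalizer
  obtain ⟨y, hy, Sb, hSb⟩ := id hDb
  obtain ⟨hDy, hcard⟩ := defect_data_of_normalizer D hD y Sb hSb
  obtain ⟨ξ, hξ⟩ := block_nonempty hM hb
  obtain ⟨χ₀, hχ₀⟩ := block_nonempty hM hB
  have hω : ¬ MemLocalIdeal M (centralChar (χ₀ : G → ℂ) (y : G)) := by
    intro hc
    apply hy.2.2 ξ hξ
    have h1 := hind.2.2 ξ hξ χ₀ hχ₀ (y : G)
    have h2 := induced_sub_brauer_mem hpM D (Subgroup.normalizer (D : Set G)) hD hDN le_rfl ξ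
      (y : G)
    rw [brauerCentralChar_eq_of_sylow D hD y hDy hcard ξ] at h2
    have h3 := MemLocalIdeal.sub hM (MemLocalIdeal.add hM h1 hc) h2
    convert h3 using 1
    ring
  obtain ⟨E, hE, hDE⟩ := induced_defectGroup_le hpM (Subgroup.normalizer (D : Set G)) hb hB hind
    _ hDb
  have hDE' : D ≤ E := by
    intro u hu
    exact hDE ⟨⟨u, hDN hu⟩, by rw [SetLike.mem_coe, Subgroup.mem_subgroupOf]; exact hu, rfl⟩
  obtain ⟨g₀, hg₀, S₀, hES⟩ := id hE
  have hEp : IsPGroup p E := by
    rw [hES]
    exact S₀.isPGroup'.map _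
  have hEle : E ≤ Subgroup.centralizer ({g₀} : Set G) := by
    rw [hES]
    rintro _ ⟨q, _, rfl⟩
    exact q.2
  obtain ⟨x, hx, hEx⟩ := minmax_core hpM hB χ₀ hχ₀ (y : G) hω g₀ hg₀.2.1 E hEp hEle
  obtain ⟨y', Q, hQ⟩ := exists_sylow_ge_conj (y : G) E hEp x hx hEx
  have hcardE : Nat.card E ≤ Nat.card D := by
    have h1 : Nat.card E = Nat.card (E.map (MulAut.conj y').toMonoidHom) :=
      (Subgroup.card_map_of_injective (MulAut.conj y').injective).symm
    have h2 : Nat.card ((Q : Subgroup (Subgroup.centralizer ({(y : G)} : Set G))).map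
        (Subgroup.centralizer ({(y : G)} : Set G)).subtype)
        = p ^ (Nat.card (Subgroup.centralizer ({(y : G)} : Set G))).factorization p := by
      rw [Subgroup.card_map_of_injective (Subgroup.subtype_injective _)]
      exact Q.card_eq_multiplicity
    rw [h1, hcard, ← h2]
    exact Subgroup.card_le_of_le hQ
  have hEq : D = E := Subgroup.eq_of_le_of_card_ge hDE' hcardE
  rw [hEq]
  exact hE

/-- The coefficient of the product of a block idempotent of the normalizer of `D` and the class
sum of a defect class lies in the local ideal at elements of the centralizer of `D` whose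
centralizers do not have `D` as a Sylow `p`-subgroup. -/
theorem coeff_mem_of_not_sylow [Fact p.Prime] (hpM : IsPModular p M) (D : Subgroup G)
    (hD : IsPGroup p D) (b : Set (IrrCharacter (Subgroup.normalizer (D : Set G))))
    (hb : IsPBlock M b) [DecidablePred (· ∈ b)]
    [Fintype (Subgroup.normalizer (D : Set G))]
    [Fintype (IrrCharacter (Subgroup.normalizer (D : Set G)))]
    (y : Subgroup.normalizer (D : Set G))
    (Sb : Sylow p (Subgroup.centralizer ({y} : Set (Subgroup.normalizer (D : Set G)))))
    (hSb : D.subgroupOf (Subgroup.normalizer (D : Set G))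
      = (Sb : Subgroup (Subgroup.centralizer ({y} : Set (Subgroup.normalizer (D : Set G))))).map
        (Subgroup.centralizer ({y} : Set (Subgroup.normalizer (D : Set G)))).subtype)
    (c : Subgroup.normalizer (D : Set G))
    (hc : (c : G) ∈ Subgroup.centralizer (D : Set G))
    (hnc : Nat.card D
      ≠ p ^ (Nat.card (Subgroup.centralizer ({(c : G)} : Set G))).factorization p) :
    MemLocalIdeal M (coeffT ((fun ζ : IrrCharacter (Subgroup.normalizer (D : Set G)) =>
        if ζ ∈ b then (1 : ℂ) else 0)
      * (fun ζ : IrrCharacter (Subgroup.normalizer (D : Set G)) =>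
        centralChar (ζ : Subgroup.normalizer (D : Set G) → ℂ) y)) c) := by
  classical
  have hM := hpM.2.1.isPrime
  have hDN : D ≤ Subgroup.normalizer (D : Set G) := Subgroup.le_normalizer
  have hDc : D ≤ Subgroup.centralizer ({(c : G)} : Set G) := by
    intro u hu
    rw [Subgroup.mem_centralizer_singleton_iff]
    exact Subgroup.mem_centralizer_iff.1 hc u hu
  have hex : ∃ E : Subgroup G, IsPGroup p E ∧ D ≤ E ∧ E ≤ Subgroup.normalizer (D : Set G)
      ∧ E ≤ Subgroup.centralizer ({(c : G)} : Set G) ∧ ¬ E ≤ D := by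
    by_contra hno
    push Not at hno
    exact hnc (card_eq_of_normalizer_max D hD (c : G) hDc (fun E hE h1 h2 h3 => hno E hE h1 h2 h3))
  obtain ⟨E, hEp, hDE, hEN, hEc, hED⟩ := hex
  have hlt : Nat.card D < Nat.card E := by
    by_contra hle
    push Not at hle
    exact hED (le_of_eq (Subgroup.eq_of_le_of_card_ge hDE hle).symm)
  have hE'p : IsPGroup p (E.subgroupOf (Subgroup.normalizer (D : Set G))) := hEp.comap_subtype
  have hΦb : (fun ζ : IrrCharacter (Subgroup.normalizer (D : Set G)) =>
      if ζ ∈ b then (1 : ℂ) else 0) ∈ specRing _ M hM := block_indicator_mem hM hb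
  have hΛ : (fun ζ : IrrCharacter (Subgroup.normalizer (D : Set G)) =>
      centralChar (ζ : Subgroup.normalizer (D : Set G) → ℂ) y) ∈ specRing _ M hM :=
    central_mem_specRing hM y
  have hcommc : ∀ u : Subgroup.normalizer (D : Set G),
      u ∈ E.subgroupOf (Subgroup.normalizer (D : Set G)) → u * c = c * u := by
    intro u hu
    apply Subtype.ext
    exact Subgroup.mem_centralizer_singleton_iff.1 (hEc (Subgroup.mem_subgroupOf.1 hu))
  rw [coeffT_mul]
  refine pgroup_sum_mem' hE'p ((MulAut.toPerm (Subgroup.normalizer (D : Set G))).comp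
    ((MulAut.conj : Subgroup.normalizer (D : Set G) →* MulAut (Subgroup.normalizer (D : Set G))).comp
      (E.subgroupOf (Subgroup.normalizer (D : Set G))).subtype))
    (localIdeal M hM) _ ?_ ?_ ?_
  · intro u k
    show coeffT (fun ζ : IrrCharacter (Subgroup.normalizer (D : Set G)) =>
          if ζ ∈ b then (1 : ℂ) else 0) ((u : Subgroup.normalizer (D : Set G)) * k
            * (u : Subgroup.normalizer (D : Set G))⁻¹)
        * coeffT (fun ζ : IrrCharacter (Subgroup.normalizer (D : Set G)) =>
          centralChar (ζ : Subgroup.normalizer (D : Set G) → ℂ) y)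
          (((u : Subgroup.normalizer (D : Set G)) * k
            * (u : Subgroup.normalizer (D : Set G))⁻¹)⁻¹ * c)
        = coeffT (fun ζ : IrrCharacter (Subgroup.normalizer (D : Set G)) =>
          if ζ ∈ b then (1 : ℂ) else 0) k
        * coeffT (fun ζ : IrrCharacter (Subgroup.normalizer (D : Set G)) =>
          centralChar (ζ : Subgroup.normalizer (D : Set G) → ℂ) y) (k⁻¹ * c)
    have hcomm := hcommc (u : Subgroup.normalizer (D : Set G)) u.2
    have e2 : ((u : Subgroup.normalizer (D : Set G)) * k
        * (u : Subgroup.normalizer (D : Set G))⁻¹)⁻¹ * c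
        = (u : Subgroup.normalizer (D : Set G)) * (k⁻¹ * c)
          * (u : Subgroup.normalizer (D : Set G))⁻¹ := by
      have h3 : (u : Subgroup.normalizer (D : Set G))⁻¹ * c
          = c * (u : Subgroup.normalizer (D : Set G))⁻¹ := by
        rw [inv_mul_eq_iff_eq_mul, ← mul_assoc, hcomm, mul_assoc, mul_inv_cancel, mul_one]
      simp only [mul_inv_rev, inv_inv, mul_assoc]
      rw [h3]
    rw [e2, coeffT_isClassFunction _ (k⁻¹ * c) (u : Subgroup.normalizer (D : Set G)),
      coeffT_isClassFunction _ k (u : Subgroup.normalizer (D : Set G))]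
  · intro k
    show MemLocalIdeal M _
    exact MemLocalIdeal.mul_right hM ((memLocalIdeal_natCast_iff hpM p).2 dvd_rfl)
      (MemLocalRing.mul hM (hΦb k) (hΛ _))
  · intro k hk
    show MemLocalIdeal M (coeffT (fun ζ : IrrCharacter (Subgroup.normalizer (D : Set G)) =>
          if ζ ∈ b then (1 : ℂ) else 0) k
        * coeffT (fun ζ : IrrCharacter (Subgroup.normalizer (D : Set G)) =>
          centralChar (ζ : Subgroup.normalizer (D : Set G) → ℂ) y) (k⁻¹ * c))
    rw [coeffT_central y (k⁻¹ * c), if_neg, mul_zero]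
    · exact MemLocalIdeal.zero hM.ne_top
    · intro hconj
      have hE'le : E.subgroupOf (Subgroup.normalizer (D : Set G))
          ≤ Subgroup.centralizer ({k⁻¹ * c} : Set (Subgroup.normalizer (D : Set G))) := by
        intro u hu
        rw [Subgroup.mem_centralizer_singleton_iff]
        have h4 : u * k * u⁻¹ = k := hk ⟨u, hu⟩
        have hcomm := hcommc u hu
        have h5 : u * k = k * u := by
          calc u * k = u * k * u⁻¹ * u := by group
            _ = k * u := by rw [h4]
        have h6 : u * k⁻¹ = k⁻¹ * u := by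
          calc u * k⁻¹ = k⁻¹ * (k * u) * k⁻¹ := by group
            _ = k⁻¹ * (u * k) * k⁻¹ := by rw [h5]
            _ = k⁻¹ * u := by group
        calc u * (k⁻¹ * c) = (u * k⁻¹) * c := by group
          _ = (k⁻¹ * u) * c := by rw [h6]
          _ = k⁻¹ * (u * c) := by group
          _ = k⁻¹ * (c * u) := by rw [hcomm]
          _ = k⁻¹ * c * u := by group
      obtain ⟨y', Q, hQ⟩ := exists_sylow_ge_conj y (E.subgroupOf (Subgroup.normalizer (D : Set G)))
        hE'p (k⁻¹ * c) hconj.symm hE'le
      have h1 : Nat.card (E.subgroupOf (Subgroup.normalizer (D : Set G))) ≤ Nat.card Q := by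
        have e1 : Nat.card (E.subgroupOf (Subgroup.normalizer (D : Set G)))
            = Nat.card ((E.subgroupOf (Subgroup.normalizer (D : Set G))).map
              (MulAut.conj y').toMonoidHom) :=
          (Subgroup.card_map_of_injective (MulAut.conj y').injective).symm
        have e2 : Nat.card Q = Nat.card ((Q : Subgroup (Subgroup.centralizer ({y} :
            Set (Subgroup.normalizer (D : Set G))))).map
              (Subgroup.centralizer ({y} : Set (Subgroup.normalizer (D : Set G)))).subtype) :=
          (Subgroup.card_map_of_injective (Subgroup.subtype_injective _)).symm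
        rw [e1, e2]
        exact Subgroup.card_le_of_le hQ
      have h2 : Nat.card Q = Nat.card Sb := by
        rw [Q.card_eq_multiplicity, Sb.card_eq_multiplicity]
      have h3 : Nat.card Sb = Nat.card D := by
        have e3 : Nat.card Sb = Nat.card ((Sb : Subgroup (Subgroup.centralizer ({y} :
            Set (Subgroup.normalizer (D : Set G))))).map
              (Subgroup.centralizer ({y} : Set (Subgroup.normalizer (D : Set G)))).subtype) :=
          (Subgroup.card_map_of_injective (Subgroup.subtype_injective _)).symm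
        rw [e3, ← hSb]
        exact Nat.card_congr (Subgroup.subgroupOfEquivOfLe hDN).toEquiv
      have h4 : Nat.card (E.subgroupOf (Subgroup.normalizer (D : Set G))) = Nat.card E :=
        Nat.card_congr (Subgroup.subgroupOfEquivOfLe hEN).toEquiv
      omega

/-- First main theorem, uniqueness: a block of the normalizer of `D` with defect group `D` is the
only block of the normalizer inducing its induced block. -/
theorem firstMain_unique [Fact p.Prime] (hpM : IsPModular p M) (D : Subgroup G)
    (hD : IsPGroup p D) (b b' : Set (IrrCharacter (Subgroup.normalizer (D : Set G))))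
    (hDb : IsDefectGroup p M b (D.subgroupOf (Subgroup.normalizer (D : Set G))))
    (B : Set (IrrCharacter G))
    (hind : IsInducedBlock M (Subgroup.normalizer (D : Set G)) b B)
    (hind' : IsInducedBlock M (Subgroup.normalizer (D : Set G)) b' B) : b = b' := by
  classical
  have hM := hpM.2.1.isPrime
  have : Fintype (Subgroup.normalizer (D : Set G)) := Fintype.ofFinite _
  have := Helper24.finite_irrCharacter (G := Subgroup.normalizer (D : Set G))
  have : Fintype (IrrCharacter (Subgroup.normalizer (D : Set G))) := Fintype.ofFinite _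
  have hb := hind.1
  have hb' := hind'.1
  have hB := hind.2.1
  have hDN : D ≤ Subgroup.normalizer (D : Set G) := Subgroup.le_normalizer
  obtain ⟨y, hy, Sb, hSb⟩ := id hDb
  obtain ⟨hDy, hcard⟩ := defect_data_of_normalizer D hD y Sb hSb
  by_contra hne
  obtain ⟨ξ, hξ⟩ := block_nonempty hM hb
  obtain ⟨ξ', hξ'⟩ := block_nonempty hM hb'
  obtain ⟨χ₀, hχ₀⟩ := block_nonempty hM hB
  have hξ'b : ξ' ∉ b := by
    intro h
    apply hne
    obtain ⟨ξ₁, hb1⟩ := id hb
    obtain ⟨ξ₂, hb2⟩ := id hb'
    rw [hb1] at h
    rw [hb2] at hξ'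
    rw [hb1, hb2, blockOf_eq_of_mem hM h, blockOf_eq_of_mem hM hξ']
  obtain ⟨Φb, hΦbdef⟩ : ∃ Φb : IrrCharacter (Subgroup.normalizer (D : Set G)) → ℂ,
      Φb = fun ζ : IrrCharacter (Subgroup.normalizer (D : Set G)) =>
        if ζ ∈ b then (1 : ℂ) else 0 := ⟨_, rfl⟩
  have hΦb : Φb ∈ specRing _ M hM := by
    rw [hΦbdef]
    exact block_indicator_mem hM hb
  obtain ⟨Λ, hΛdef⟩ : ∃ Λ : IrrCharacter (Subgroup.normalizer (D : Set G)) → ℂ,
      Λ = fun ζ : IrrCharacter (Subgroup.normalizer (D : Set G)) =>
        centralChar (ζ : Subgroup.normalizer (D : Set G) → ℂ) y := ⟨_, rfl⟩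
  have hΛ : Λ ∈ specRing _ M hM := by
    rw [hΛdef]
    exact central_mem_specRing hM y
  have hT : Φb * Λ ∈ specRing _ M hM := Subring.mul_mem _ hΦb hΛ
  obtain ⟨f, hfdef⟩ : ∃ f : Subgroup.normalizer (D : Set G) → ℂ, f = coeffT (Φb * Λ) := ⟨_, rfl⟩
  have hfcl : IsClassFunction (Subgroup.normalizer (D : Set G)) f := by
    rw [hfdef]
    exact coeffT_isClassFunction _
  have hfR : ∀ h, MemLocalRing M (f h) := by
    intro h
    rw [hfdef]
    exact mem_specRing.1 hT h
  obtain ⟨cond, hconddef⟩ : ∃ cond : Subgroup.normalizer (D : Set G) → Prop,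
      cond = fun n : Subgroup.normalizer (D : Set G) =>
        (n : G) ∈ Subgroup.centralizer (D : Set G) ∧ Nat.card D
          = p ^ (Nat.card (Subgroup.centralizer ({(n : G)} : Set G))).factorization p :=
    ⟨_, rfl⟩
  obtain ⟨a, hadef⟩ : ∃ a : G → ℂ, a = fun g =>
      liftPred (fun n : Subgroup.normalizer (D : Set G) => IsConj g (n : G) ∧ cond n) f :=
    ⟨_, rfl⟩
  have hwd : ∀ (g : G) (n n' : Subgroup.normalizer (D : Set G)),
      (IsConj g (n : G) ∧ cond n) → (IsConj g (n' : G) ∧ cond n') → f n = f n' := by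
    intro g n n' h1 h2
    rw [hconddef] at h1 h2
    obtain ⟨c, hc⟩ := isConj_iff.1 (h1.1.symm.trans h2.1)
    have hDn : D ≤ Subgroup.centralizer ({(n : G)} : Set G) := by
      intro u hu
      rw [Subgroup.mem_centralizer_singleton_iff]
      exact Subgroup.mem_centralizer_iff.1 h1.2.1 u hu
    have hmem : c * (n : G) * c⁻¹ ∈ Subgroup.centralizer (D : Set G) := by
      rw [hc]
      exact h2.2.1
    obtain ⟨m, hm, hm'⟩ := conj_in_normalizer_of_sylow_centralizer D hD (n : G) hDn h1.2.2 c hmem
    have e : n' = (⟨m, hm⟩ : Subgroup.normalizer (D : Set G)) * n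
        * (⟨m, hm⟩ : Subgroup.normalizer (D : Set G))⁻¹ :=
      Subtype.ext (by
        show (n' : G) = m * (n : G) * m⁻¹
        rw [hm', hc])
    rw [e, hfcl n ⟨m, hm⟩]
  have hacl : IsClassFunction G a := by
    intro g x
    rw [hadef]
    have hP : (fun n : Subgroup.normalizer (D : Set G) => IsConj (x * g * x⁻¹) (n : G) ∧ cond n)
        = (fun n : Subgroup.normalizer (D : Set G) => IsConj g (n : G) ∧ cond n) := by
      funext n
      have hkk : IsConj g (x * g * x⁻¹) := isConj_iff.2 ⟨x, rfl⟩
      exact propext ⟨fun h => ⟨hkk.trans h.1, h.2⟩, fun h => ⟨hkk.symm.trans h.1, h.2⟩⟩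
    show liftPred (fun n : Subgroup.normalizer (D : Set G) =>
        IsConj (x * g * x⁻¹) (n : G) ∧ cond n) f
      = liftPred (fun n : Subgroup.normalizer (D : Set G) => IsConj g (n : G) ∧ cond n) f
    rw [hP]
  have haR : ∀ g, MemLocalRing M (a g) := by
    intro g
    rw [hadef]
    show MemLocalRing M (liftPred (fun n : Subgroup.normalizer (D : Set G) =>
      IsConj g (n : G) ∧ cond n) f)
    by_cases h : ∃ n : Subgroup.normalizer (D : Set G), IsConj g (n : G) ∧ cond n
    · obtain ⟨n, hn⟩ := h
      rw [liftPred_eq _ f n hn (hwd g)]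
      exact hfR n
    · rw [liftPred_eq_zero _ f h]
      exact MemLocalRing.zero hM.ne_top
  have hkey : ∀ c : Subgroup.normalizer (D : Set G),
      (c : G) ∈ Subgroup.centralizer (D : Set G) → MemLocalIdeal M (f c - a (c : G)) := by
    intro c hc
    by_cases hcc : cond c
    · have e : a (c : G) = f c := by
        rw [hadef]
        exact liftPred_eq _ f c ⟨IsConj.refl _, hcc⟩ (hwd (c : G))
      rw [e, sub_self]
      exact MemLocalIdeal.zero hM.ne_top
    · have ha0 : a (c : G) = 0 := by
        rw [hadef]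
        apply liftPred_eq_zero
        rintro ⟨n, hn1, hn2⟩
        apply hcc
        rw [hconddef] at hn2 ⊢
        refine ⟨hc, ?_⟩
        obtain ⟨x, hx⟩ := isConj_iff.1 hn1
        rw [hn2.2, ← hx, card_centralizer_conj]
      rw [ha0, sub_zero, hfdef, hΦbdef, hΛdef]
      refine coeff_mem_of_not_sylow hpM D hD b hb y Sb hSb c hc ?_
      intro hcd
      apply hcc
      rw [hconddef]
      exact ⟨hc, hcd⟩
  obtain ⟨Φa, hΦadef⟩ : ∃ Φa : IrrCharacter G → ℂ, Φa = fun χ : IrrCharacter G =>
      ∑ g : G, a g * ((χ : G → ℂ) g / (χ : G → ℂ) 1) := ⟨_, rfl⟩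
  have hcoefa : ∀ g, coeffT Φa g = a g := by
    intro g
    rw [hΦadef]
    exact coeffT_forward a hacl g
  have hΦa : Φa ∈ specRing G M hM := by
    rw [mem_specRing]
    intro g
    rw [hcoefa]
    exact haR g
  have hnormal : (D.subgroupOf (Subgroup.normalizer (D : Set G))).Normal := by
    refine ⟨fun n hn g => ?_⟩
    rw [Subgroup.mem_subgroupOf] at hn ⊢
    have hg := g.2
    rw [Subgroup.mem_normalizer_iff] at hg
    exact (hg (n : G)).1 hn
  have hi : ∀ ζ : IrrCharacter (Subgroup.normalizer (D : Set G)),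
      MemLocalIdeal M ((Φb * Λ) ζ - brLam (Subgroup.normalizer (D : Set G)) ζ Φa) := by
    intro ζ
    rw [spec_eq_sum (Φb * Λ) ζ]
    unfold brLam
    rw [← Finset.sum_sub_distrib]
    have hcl : IsClassFunction (Subgroup.normalizer (D : Set G))
        (fun h : Subgroup.normalizer (D : Set G) =>
          coeffT (Φb * Λ) h * ((ζ : Subgroup.normalizer (D : Set G) → ℂ) h
            / (ζ : Subgroup.normalizer (D : Set G) → ℂ) 1)
          - coeffT Φa (h : G) * ((ζ : Subgroup.normalizer (D : Set G) → ℂ) h
            / (ζ : Subgroup.normalizer (D : Set G) → ℂ) 1)) := by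
      intro h k
      have h3 : coeffT Φa ((k * h * k⁻¹ : Subgroup.normalizer (D : Set G)) : G)
          = coeffT Φa (h : G) := coeffT_isClassFunction Φa (h : G) (k : G)
      have h4 := (Helper2.IsIrrCharacter.isClassFunction ζ.2) h k
      have h5 := coeffT_isClassFunction (Φb * Λ) h k
      simp only [h3, h4, h5]
    refine sum_class_mem (localIdeal M hM) _ hcl fun h => ?_
    have e : ((Subgroup.centralizer ({h} : Set (Subgroup.normalizer (D : Set G)))).index : ℂ)
        * (coeffT (Φb * Λ) h * ((ζ : Subgroup.normalizer (D : Set G) → ℂ) h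
            / (ζ : Subgroup.normalizer (D : Set G) → ℂ) 1)
          - coeffT Φa (h : G) * ((ζ : Subgroup.normalizer (D : Set G) → ℂ) h
            / (ζ : Subgroup.normalizer (D : Set G) → ℂ) 1))
        = (coeffT (Φb * Λ) h - coeffT Φa (h : G))
          * centralChar (ζ : Subgroup.normalizer (D : Set G) → ℂ) h := by
      unfold centralChar
      ring
    rw [e]
    by_cases hc : (h : G) ∈ Subgroup.centralizer (D : Set G)
    · refine MemLocalIdeal.mul_right hM ?_
        (memLocalRing_of_isIntegral hM.ne_top (centralChar_isIntegral ζ h))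
      rw [hcoefa]
      have h6 := hkey h hc
      rw [hfdef] at h6
      exact h6
    · refine MemLocalIdeal.mul_left hM (MemLocalRing.sub hM (mem_specRing.1 hT h) (hΦa _)) ?_
      refine centralChar_mem_of_not_centralizer hpM
        (D.subgroupOf (Subgroup.normalizer (D : Set G))) hD.comap_subtype ζ h ?_
      intro hxc
      apply hc
      rw [Subgroup.mem_centralizer_iff]
      intro u hu
      have h1 := Subgroup.mem_centralizer_iff.1 hxc ⟨u, hDN hu⟩
        (by rw [SetLike.mem_coe, Subgroup.mem_subgroupOf]; exact hu)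
      exact congrArg Subtype.val h1
  have h1 := hi ξ
  have h2 := hi ξ'
  have h3 := brLam_congr_of_induced hM (Subgroup.normalizer (D : Set G)) hind ξ hξ χ₀ hχ₀ Φa hΦa
  have h4 := brLam_congr_of_induced hM (Subgroup.normalizer (D : Set G)) hind' ξ' hξ' χ₀ hχ₀ Φa
    hΦa
  have hTξ : (Φb * Λ) ξ = centralChar (ξ : Subgroup.normalizer (D : Set G) → ℂ) y := by
    rw [hΦbdef, hΛdef]
    show (if ξ ∈ b then (1 : ℂ) else 0) * _ = _
    rw [if_pos hξ, one_mul]
  have hTξ' : (Φb * Λ) ξ' = 0 := by
    rw [hΦbdef, hΛdef]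
    show (if ξ' ∈ b then (1 : ℂ) else 0) * _ = _
    rw [if_neg hξ'b, zero_mul]
  rw [hTξ] at h1
  rw [hTξ'] at h2
  apply hy.2.2 ξ hξ
  have h5 := MemLocalIdeal.sub hM (MemLocalIdeal.add hM h1 h3) (MemLocalIdeal.add hM h2 h4)
  convert h5 using 1
  ring

end Main

end Cfsg.Agent.Helper25
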