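import Mathlib
import Cfsg.Prelude.Def_Blocks
import Cfsg.Agent.Helper25.BlockOrth

set_option autoImplicit false

/-!
# Galois conjugates of cyclotomic expressions (helper25)

The complex roots of the minimal polynomial of a polynomial expression in a primitive root of
unity are the same expression in coprime powers of the root; an algebraic integer all of whose
conjugates lie in one maximal ideal above `p` lies in every maximal ideal above `p`.
-/

namespace Cfsg.Agent.Helper25

open Cfsg Polynomial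

/-- Conjugates of a polynomial expression in a primitive root of unity. -/
theorem root_minpoly_aeval_primitiveRoot (N : ℕ) (hN : 0 < N) (ζ : ℂ) (hζ : IsPrimitiveRoot ζ N)
    (R : ℚ[X]) (β : ℂ) (hβ : aeval β (minpoly ℚ (aeval ζ R)) = 0) :
    ∃ k : ℕ, k.Coprime N ∧ β = aeval (ζ ^ k) R := by
  have hint : IsIntegral ℚ ζ :=
    ⟨X ^ N - 1, monic_X_pow_sub_C 1 hN.ne', by simp [hζ.pow_eq_one]⟩
  have : Algebra.IsAlgebraic ℚ (IntermediateField.adjoin ℚ ({ζ} : Set ℂ)) :=
    IntermediateField.isAlgebraic_adjoin_simple hint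
  have hζK : ζ ∈ IntermediateField.adjoin ℚ ({ζ} : Set ℂ) :=
    IntermediateField.mem_adjoin_simple_self ℚ ζ
  obtain ⟨ζK, hζKdef⟩ : ∃ z : IntermediateField.adjoin ℚ ({ζ} : Set ℂ), (z : ℂ) = ζ :=
    ⟨⟨ζ, hζK⟩, rfl⟩
  have ha : ((aeval ζK R : IntermediateField.adjoin ℚ ({ζ} : Set ℂ)) : ℂ) = aeval ζ R := by
    have h0 := Polynomial.aeval_algHom_apply
      (IntermediateField.val (IntermediateField.adjoin ℚ ({ζ} : Set ℂ))) ζK R
    simp only [IntermediateField.coe_val] at h0
    rw [hζKdef] at h0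
    exact h0.symm
  have hmin : minpoly ℚ (aeval ζK R) = minpoly ℚ (aeval ζ R) := by
    rw [← ha]
    exact (minpoly.algebraMap_eq
      (algebraMap (IntermediateField.adjoin ℚ ({ζ} : Set ℂ)) ℂ).injective _).symm
  have hne : minpoly ℚ (aeval ζK R) ≠ 0 := minpoly.ne_zero (Algebra.IsIntegral.isIntegral _)
  have hroot : β ∈ (minpoly ℚ (aeval ζK R)).rootSet ℂ := by
    rw [mem_rootSet_of_ne hne, hmin]
    exact hβ
  rw [← Algebra.IsAlgebraic.range_eval_eq_rootSet_minpoly] at hroot
  obtain ⟨ψ, hψ⟩ := hroot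
  have hprimK : IsPrimitiveRoot ζK N := by
    refine IsPrimitiveRoot.of_map_of_injective
      (f := (IntermediateField.val (IntermediateField.adjoin ℚ ({ζ} : Set ℂ)))) ?_
      Subtype.val_injective
    rw [IntermediateField.coe_val, hζKdef]
    exact hζ
  have hprim : IsPrimitiveRoot (ψ ζK) N := hprimK.map_of_injective ψ.injective
  have : NeZero N := ⟨hN.ne'⟩
  obtain ⟨i, _, hi⟩ := hζ.eq_pow_of_pow_eq_one hprim.pow_eq_one
  refine ⟨i, ?_, ?_⟩
  · rw [← hi] at hprim
    exact (hζ.pow_iff_coprime hN i).mp hprim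
  · rw [← hψ, hi]
    exact (Polynomial.aeval_algHom_apply ψ ζK R).symm

theorem coeff_prod_X_sub_C_mem (M : Ideal AlgInt) (s : Multiset ℂ)
    (hs : ∀ β ∈ s, ∃ r : AlgInt, r ∈ M ∧ (r : ℂ) = β) :
    (∀ j : ℕ, ∃ a : AlgInt, (a : ℂ) = ((s.map (fun β => X - C β)).prod).coeff j) ∧
    (∀ j : ℕ, j ≠ Multiset.card s →
      ∃ r : AlgInt, r ∈ M ∧ (r : ℂ) = ((s.map (fun β => X - C β)).prod).coeff j) := by
  induction s using Multiset.induction_on with
  | empty =>
    simp only [Multiset.map_zero, Multiset.prod_zero, Multiset.card_zero]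
    refine ⟨fun j => ?_, fun j hj => ?_⟩
    · rw [coeff_one]
      split_ifs
      · exact ⟨1, by simp⟩
      · exact ⟨0, by simp⟩
    · rw [coeff_one, if_neg hj]
      exact ⟨0, M.zero_mem, by simp⟩
  | cons β s ih =>
    obtain ⟨b, hbM, hb⟩ := hs β (Multiset.mem_cons_self β s)
    obtain ⟨ihA, ihM⟩ := ih (fun γ hγ => hs γ (Multiset.mem_cons_of_mem hγ))
    simp only [Multiset.map_cons, Multiset.prod_cons, Multiset.card_cons]
    have hcoeff : ∀ j, ((X - C β) * (s.map (fun β => X - C β)).prod).coeff j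
        = (if j = 0 then 0 else ((s.map (fun β => X - C β)).prod).coeff (j - 1))
          - β * ((s.map (fun β => X - C β)).prod).coeff j := by
      intro j
      rw [sub_mul, coeff_sub, coeff_C_mul]
      cases j with
      | zero => simp
      | succ j => simp [coeff_X_mul]
    refine ⟨fun j => ?_, fun j hj => ?_⟩
    · rw [hcoeff]
      obtain ⟨a2, ha2⟩ := ihA j
      by_cases hj0 : j = 0
      · rw [if_pos hj0]
        exact ⟨0 - b * a2, by push_cast; rw [hb, ha2]⟩
      · rw [if_neg hj0]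
        obtain ⟨a1, ha1⟩ := ihA (j - 1)
        exact ⟨a1 - b * a2, by push_cast; rw [hb, ha1, ha2]⟩
    · rw [hcoeff]
      obtain ⟨a2, ha2⟩ := ihA j
      by_cases hj0 : j = 0
      · rw [if_pos hj0]
        exact ⟨0 - b * a2, M.sub_mem M.zero_mem (M.mul_mem_right _ hbM),
          by push_cast; rw [hb, ha2]⟩
      · rw [if_neg hj0]
        have hj1 : j - 1 ≠ Multiset.card s := by omega
        obtain ⟨r1, hr1M, hr1⟩ := ihM (j - 1) hj1
        exact ⟨r1 - b * a2, M.sub_mem hr1M (M.mul_mem_right _ hbM),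
          by push_cast; rw [hb, hr1, ha2]⟩

/-- An algebraic integer all of whose conjugates lie in a maximal ideal `M` above `p` lies in
every maximal ideal above `p`. -/
theorem mem_of_roots_mem {p : ℕ} {M M' : Ideal AlgInt} (hM : IsPModular p M)
    (hM' : IsPModular p M') (α : AlgInt)
    (h : ∀ β : ℂ, aeval β (minpoly ℚ (α : ℂ)) = 0 → ∃ r : AlgInt, r ∈ M ∧ (r : ℂ) = β) :
    α ∈ M' := by
  classical
  have hint : IsIntegral ℤ (α : ℂ) := α.2
  obtain ⟨f, hf⟩ : ∃ f : ℤ[X], f = minpoly ℤ (α : ℂ) := ⟨_, rfl⟩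
  have hmonic : f.Monic := hf ▸ minpoly.monic hint
  have hfα : aeval (α : ℂ) f = 0 := by
    rw [hf]
    exact minpoly.aeval ℤ _
  have hfQ : minpoly ℚ (α : ℂ) = f.map (algebraMap ℤ ℚ) := by
    rw [hf]
    exact minpoly.isIntegrallyClosed_eq_field_fractions' ℚ hint
  have hmonicC : (f.map (algebraMap ℤ ℂ)).Monic := hmonic.map _
  have hsplit : (f.map (algebraMap ℤ ℂ)).Splits := IsAlgClosed.splits _
  have hprod := hsplit.eq_prod_roots_of_monic hmonicC
  have hroots : ∀ β ∈ (f.map (algebraMap ℤ ℂ)).roots, ∃ r : AlgInt, r ∈ M ∧ (r : ℂ) = β := by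
    intro β hβ
    apply h
    have h1 : (f.map (algebraMap ℤ ℂ)).IsRoot β := (mem_roots hmonicC.ne_zero).mp hβ
    rw [hfQ, aeval_map_algebraMap]
    rw [IsRoot.def, eval_map_algebraMap] at h1
    exact h1
  obtain ⟨_, hcoeffM⟩ := coeff_prod_X_sub_C_mem M _ hroots
  have hcard : Multiset.card (f.map (algebraMap ℤ ℂ)).roots = f.natDegree := by
    rw [← hsplit.natDegree_eq_card_roots, hmonic.natDegree_map]
  have hdvd : ∀ j : ℕ, j ≠ f.natDegree → (p : ℤ) ∣ f.coeff j := by
    intro j hj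
    obtain ⟨r, hrM, hr⟩ := hcoeffM j (by rw [hcard]; exact hj)
    rw [← hprod, coeff_map] at hr
    have h2 : MemLocalIdeal M ((f.coeff j : ℤ) : ℂ) := by
      have h3 : ((f.coeff j : ℤ) : ℂ) = (r : ℂ) := by
        rw [hr]
        simp
      rw [h3]
      exact (memLocalIdeal_coe_iff hM.2.1.isPrime r).mpr hrM
    exact (memLocalIdeal_intCast_iff hM _).mp h2
  have hprime' := hM'.2.1.isPrime
  have hα0 : aeval α f = 0 := by
    apply Subtype.ext
    rw [← Subalgebra.aeval_coe]
    exact hfα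
  rw [aeval_eq_sum_range, Finset.sum_range_succ] at hα0
  have hlead : f.coeff f.natDegree = 1 := hmonic
  rw [hlead, one_smul] at hα0
  have hsum : ∑ j ∈ Finset.range f.natDegree, f.coeff j • α ^ j ∈ M' := by
    refine Ideal.sum_mem _ fun j hj => ?_
    obtain ⟨c, hc⟩ := hdvd j (Finset.mem_range.mp hj).ne
    rw [hc, zsmul_eq_mul]
    push_cast
    exact M'.mul_mem_right _ (M'.mul_mem_right _ hM'.2.2)
  have hpow : α ^ f.natDegree ∈ M' := by
    have h4 : α ^ f.natDegree = - ∑ j ∈ Finset.range f.natDegree, f.coeff j • α ^ j :=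
      eq_neg_of_add_eq_zero_right hα0
    rw [h4]
    exact M'.neg_mem hsum
  exact hprime'.mem_of_pow_mem _ hpow

end Cfsg.Agent.Helper25
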