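import Mathlib
import Cfsg.Prelude.Def_Blocks
import Cfsg.Agent.Helper25.GaloisConj

set_option autoImplicit false

/-!
# Local-to-global divisibility through Galois conjugates (helper25)

An algebraic integer all of whose conjugates are divisible by `q ^ b` in the local ring at one
maximal ideal above `q` is divisible by `q ^ b` in the ring of algebraic integers.
-/

namespace Cfsg.Agent.Helper25

open Cfsg Polynomial

theorem coeff_X_sub_C_mul_eq (β : ℂ) (P : ℂ[X]) (j : ℕ) :
    ((X - C β) * P).coeff j = (if j = 0 then 0 else P.coeff (j - 1)) - β * P.coeff j := by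
  rw [sub_mul, coeff_sub, coeff_C_mul]
  cases j with
  | zero => simp
  | succ j => simp [coeff_X_mul]

theorem coeff_prod_X_sub_C_local {q : ℕ} {M : Ideal AlgInt} (hM : M.IsPrime) (b : ℕ)
    (s : Multiset ℂ) (hs : ∀ β ∈ s, MemLocalRing M (β / (q : ℂ) ^ b))
    (hq : MemLocalRing M (q : ℂ)) (hq0 : (q : ℂ) ≠ 0) :
    ∀ j : ℕ, MemLocalRing M (((s.map (fun β => X - C β)).prod).coeff j
      / ((q : ℂ) ^ b) ^ (Multiset.card s - j)) := by
  induction s using Multiset.induction_on with
  | empty =>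
    intro j
    simp only [Multiset.map_zero, Multiset.prod_zero, Multiset.card_zero, Nat.zero_sub, pow_zero,
      div_one, coeff_one]
    split_ifs
    · exact MemLocalRing.one hM.ne_top
    · exact MemLocalRing.zero hM.ne_top
  | cons β s ih =>
    have ihs := ih (fun γ hγ => hs γ (Multiset.mem_cons_of_mem hγ))
    have hβ := hs β (Multiset.mem_cons_self β s)
    have hqb0 : (q : ℂ) ^ b ≠ 0 := pow_ne_zero _ hq0
    intro j
    simp only [Multiset.map_cons, Multiset.prod_cons, Multiset.card_cons]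
    rw [coeff_X_sub_C_mul_eq]
    by_cases hj : j ≤ Multiset.card s
    · have he : Multiset.card s + 1 - j = (Multiset.card s - j) + 1 := by omega
      rw [he, sub_div]
      refine MemLocalRing.sub hM ?_ ?_
      · by_cases hj0 : j = 0
        · rw [if_pos hj0, zero_div]
          exact MemLocalRing.zero hM.ne_top
        · rw [if_neg hj0]
          have he2 : Multiset.card s - j + 1 = Multiset.card s - (j - 1) := by omega
          rw [he2]
          exact ihs (j - 1)
      · have h1 : β * ((s.map (fun β => X - C β)).prod).coeff j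
              / ((q : ℂ) ^ b) ^ (Multiset.card s - j + 1)
            = (β / (q : ℂ) ^ b) * (((s.map (fun β => X - C β)).prod).coeff j
              / ((q : ℂ) ^ b) ^ (Multiset.card s - j)) := by
          rw [pow_succ]
          field_simp
        rw [h1]
        exact MemLocalRing.mul hM hβ (ihs j)
    · have he : Multiset.card s + 1 - j = 0 := by omega
      rw [he, pow_zero, div_one]
      have hβO : MemLocalRing M β := by
        have h2 : β = (β / (q : ℂ) ^ b) * (q : ℂ) ^ b := by
          field_simp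
        rw [h2]
        exact MemLocalRing.mul hM hβ (MemLocalRing.pow hM hq b)
      have h1 : ∀ i, Multiset.card s ≤ i →
          MemLocalRing M (((s.map (fun β => X - C β)).prod).coeff i) := by
        intro i hi
        have h3 := ihs i
        rwa [Nat.sub_eq_zero_of_le hi, pow_zero, div_one] at h3
      refine MemLocalRing.sub hM ?_ (MemLocalRing.mul hM hβO (h1 j (by omega)))
      by_cases hj0 : j = 0
      · rw [if_pos hj0]
        exact MemLocalRing.zero hM.ne_top
      · rw [if_neg hj0]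
        exact h1 (j - 1) (by omega)

theorem pow_dvd_of_memLocalRing_div {q : ℕ} {M : Ideal AlgInt} (hM : IsPModular q M) (e : ℕ) :
    ∀ n : ℤ, MemLocalRing M ((n : ℂ) / (q : ℂ) ^ e) → (q : ℤ) ^ e ∣ n := by
  have hq0 : (q : ℂ) ≠ 0 := Nat.cast_ne_zero.mpr hM.1.ne_zero
  have hqO : MemLocalRing M (q : ℂ) := memLocalRing_natCast hM.2.1.ne_top q
  have hqI : MemLocalIdeal M (q : ℂ) := (memLocalIdeal_natCast_iff hM q).mpr dvd_rfl
  induction e with
  | zero =>
    intro n _
    simp
  | succ e ih =>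
    intro n h
    have h1 : MemLocalRing M ((n : ℂ) / (q : ℂ) ^ e) := by
      have h0 : (n : ℂ) / (q : ℂ) ^ e = (q : ℂ) * ((n : ℂ) / (q : ℂ) ^ (e + 1)) := by
        rw [pow_succ]
        field_simp
      rw [h0]
      exact MemLocalRing.mul hM.2.1.isPrime hqO h
    obtain ⟨m, rfl⟩ := ih n h1
    have h2 : MemLocalIdeal M ((m : ℤ) : ℂ) := by
      have h0 : ((m : ℤ) : ℂ)
          = (q : ℂ) * ((((q : ℤ) ^ e * m : ℤ) : ℂ) / (q : ℂ) ^ (e + 1)) := by
        push_cast
        rw [pow_succ]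
        field_simp
      rw [h0]
      exact MemLocalIdeal.mul_right hM.2.1.isPrime hqI h
    obtain ⟨c, rfl⟩ := (memLocalIdeal_intCast_iff hM m).mp h2
    exact ⟨c, by ring⟩

/-- An algebraic integer all of whose conjugates are locally divisible by `q ^ b` at one maximal
ideal above `q` is divisible by `q ^ b` among the algebraic integers. -/
theorem exists_eq_pow_mul_of_roots_local {q : ℕ} {M : Ideal AlgInt} (hM : IsPModular q M) (b : ℕ)
    (α : AlgInt)
    (h : ∀ β : ℂ, aeval β (minpoly ℚ (α : ℂ)) = 0 → MemLocalRing M (β / (q : ℂ) ^ b)) :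
    ∃ ω : AlgInt, (α : ℂ) = (q : ℂ) ^ b * (ω : ℂ) := by
  classical
  have hq0 : (q : ℂ) ≠ 0 := Nat.cast_ne_zero.mpr hM.1.ne_zero
  have hqO : MemLocalRing M (q : ℂ) := memLocalRing_natCast hM.2.1.ne_top q
  have hint : IsIntegral ℤ (α : ℂ) := α.2
  obtain ⟨f, hf⟩ : ∃ f : ℤ[X], f = minpoly ℤ (α : ℂ) := ⟨_, rfl⟩
  have hmonic : f.Monic := hf ▸ minpoly.monic hint
  have hfα : aeval (α : ℂ) f = 0 := by
    rw [hf]
    exact minpoly.aeval ℤ _
  have hfQ : minpoly ℚ (α : ℂ) = f.map (algebraMap ℤ ℚ) := by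
    rw [hf]
    exact minpoly.isIntegrallyClosed_eq_field_fractions' ℚ hint
  have hmonicC : (f.map (algebraMap ℤ ℂ)).Monic := hmonic.map _
  have hsplit : (f.map (algebraMap ℤ ℂ)).Splits := IsAlgClosed.splits _
  have hprod := hsplit.eq_prod_roots_of_monic hmonicC
  have hroots : ∀ β ∈ (f.map (algebraMap ℤ ℂ)).roots, MemLocalRing M (β / (q : ℂ) ^ b) := by
    intro β hβ
    apply h
    have h1 : (f.map (algebraMap ℤ ℂ)).IsRoot β := (mem_roots hmonicC.ne_zero).mp hβ
    rw [hfQ, aeval_map_algebraMap]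
    rw [IsRoot.def, eval_map_algebraMap] at h1
    exact h1
  have hcoeff := coeff_prod_X_sub_C_local hM.2.1.isPrime b _ hroots hqO hq0
  have hcard : Multiset.card (f.map (algebraMap ℤ ℂ)).roots = f.natDegree := by
    rw [← hsplit.natDegree_eq_card_roots, hmonic.natDegree_map]
  obtain ⟨r, hr⟩ : ∃ r, r = f.natDegree := ⟨_, rfl⟩
  have hdvd : ∀ j, ((q : ℤ) ^ b) ^ (r - j) ∣ f.coeff j := by
    intro j
    have h1 := hcoeff j
    rw [← hprod, coeff_map, hcard, ← hr] at h1
    have h2 : MemLocalRing M (((f.coeff j : ℤ) : ℂ) / (q : ℂ) ^ (b * (r - j))) := by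
      rw [pow_mul]
      simpa using h1
    have h3 := pow_dvd_of_memLocalRing_div hM _ _ h2
    rwa [pow_mul] at h3
  obtain ⟨g, hg⟩ : ∃ g : ℤ[X], g = X ^ r
      + ∑ j ∈ Finset.range r, C (f.coeff j / ((q : ℤ) ^ b) ^ (r - j)) * X ^ j := ⟨_, rfl⟩
  have hgmonic : g.Monic := by
    rw [hg]
    apply monic_X_pow_add
    refine (degree_sum_le _ _).trans_lt ?_
    refine (Finset.sup_lt_iff (WithBot.bot_lt_coe r)).2 ?_
    intro j hj
    have hjr : j < r := Finset.mem_range.mp hj
    refine (degree_C_mul_X_pow_le j _).trans_lt ?_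
    exact WithBot.coe_lt_coe.mpr hjr
  have hfα' : (α : ℂ) ^ r + ∑ j ∈ Finset.range r, ((f.coeff j : ℤ) : ℂ) * (α : ℂ) ^ j = 0 := by
    have h1 := hfα
    rw [aeval_eq_sum_range, ← hr, Finset.sum_range_succ] at h1
    have hlead : f.coeff r = 1 := by
      rw [hr]
      exact hmonic
    rw [hlead, one_smul] at h1
    rw [add_comm]
    simpa [zsmul_eq_mul] using h1
  have hqb0 : ((q : ℂ) ^ b) ≠ 0 := pow_ne_zero _ hq0
  have hroot : aeval ((α : ℂ) / (q : ℂ) ^ b) g = 0 := by
    rw [hg]
    simp only [map_add, map_pow, aeval_X, map_sum, map_mul, aeval_C]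
    have hterm : ∀ j ∈ Finset.range r,
        algebraMap ℤ ℂ (f.coeff j / ((q : ℤ) ^ b) ^ (r - j)) * ((α : ℂ) / (q : ℂ) ^ b) ^ j
          = (((f.coeff j : ℤ) : ℂ) * (α : ℂ) ^ j) / ((q : ℂ) ^ b) ^ r := by
      intro j hj
      obtain ⟨c, hc⟩ := hdvd j
      have hjr : j ≤ r := (Finset.mem_range.mp hj).le
      have hz : ((q : ℤ) ^ b) ^ (r - j) ≠ 0 :=
        pow_ne_zero _ (pow_ne_zero _ (by exact_mod_cast hM.1.ne_zero))
      rw [hc, Int.mul_ediv_cancel_left _ hz]
      have h5 : ((q : ℂ) ^ b) ^ r = ((q : ℂ) ^ b) ^ (r - j) * ((q : ℂ) ^ b) ^ j := by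
        rw [← pow_add, Nat.sub_add_cancel hjr]
      rw [h5, eq_intCast, div_pow]
      push_cast
      field_simp
    rw [Finset.sum_congr rfl hterm, ← Finset.sum_div, div_pow, ← add_div, hfα', zero_div]
  have hγint : IsIntegral ℤ ((α : ℂ) / (q : ℂ) ^ b) := ⟨g, hgmonic, hroot⟩
  refine ⟨⟨_, hγint⟩, ?_⟩
  simp only []
  field_simp

end Cfsg.Agent.Helper25
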