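import Cfsg.Agent.Helper25.CharPow
import Cfsg.Agent.Helper25.BlockIdem

set_option autoImplicit false

/-!
# The Galois automorphism cubing 2-power roots of unity (helper25)
-/

universe u

namespace Cfsg.Agent.Helper25

open Cfsg
open scoped ComplexConjugate

/-- An exponent acting as the identity on elements of odd order and as a fixed odd power `c`
on `2`-elements is coprime to the group order. -/
theorem coprime_of_pow_two_odd {G : Type*} [Group G] [Finite G] (k c : ℕ) (hc : Odd c)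
    (hk₁ : ∀ g : G, (∃ j : ℕ, orderOf g = 2 ^ j) → g ^ k = g ^ c)
    (hk₂ : ∀ g : G, Odd (orderOf g) → g ^ k = g) : Nat.Coprime k (Nat.card G) := by
  refine Nat.coprime_of_dvd (fun l hl hlk hlG => ?_)
  have : Fact l.Prime := ⟨hl⟩
  obtain ⟨g, hg⟩ := exists_prime_orderOf_dvd_card' (G := G) l hlG
  have h1 : g ^ k = 1 := by
    rw [← orderOf_dvd_iff_pow_eq_one, hg]
    exact hlk
  rcases hl.eq_two_or_odd' with h2 | hodd
  · have h3 := hk₁ g ⟨1, by rw [hg, h2, pow_one]⟩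
    rw [h1] at h3
    have h4 : orderOf g ∣ c := orderOf_dvd_of_pow_eq_one h3.symm
    rw [hg, h2] at h4
    exact (Nat.not_even_iff_odd.mpr hc) (even_iff_two_dvd.mpr h4)
  · have h3 := hk₂ g (by rw [hg]; exact hodd)
    rw [h1] at h3
    have h4 : orderOf g = 1 := orderOf_eq_one_iff.mpr h3.symm
    rw [hg] at h4
    exact hl.one_lt.ne' h4

/-- Iterating the power map `k` (acting as cubing on `2`-elements and trivially on elements
of odd order) `2 ^ |G|` times gives the identity. -/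
theorem pow_pow_two_fix {G : Type*} [Group G] [Finite G] (k : ℕ)
    (hk₁ : ∀ g : G, (∃ j : ℕ, orderOf g = 2 ^ j) → g ^ k = g ^ 3)
    (hk₂ : ∀ g : G, Odd (orderOf g) → g ^ k = g) (g : G) :
    g ^ (k ^ (2 ^ Nat.card G)) = g := by
  have ho : 0 < orderOf g := orderOf_pos g
  obtain ⟨b, hb⟩ : ∃ b : ℕ, b = (orderOf g).factorization 2 := ⟨_, rfl⟩
  obtain ⟨c, hc⟩ : ∃ c : ℕ, c = orderOf g / 2 ^ b := ⟨_, rfl⟩
  have hbc : 2 ^ b * c = orderOf g := by
    rw [hc, hb]
    exact Nat.ordProj_mul_ordCompl_eq_self _ 2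
  have hc2 : ¬ 2 ∣ c := by
    rw [hc, hb]
    exact Nat.not_dvd_ordCompl Nat.prime_two ho.ne'
  have hcodd : Odd c := by
    rw [← Nat.not_even_iff_odd, even_iff_two_dvd]
    exact hc2
  have hc0 : c ≠ 0 := fun h => hc2 (h ▸ dvd_zero 2)
  -- k ≡ 3 mod 2^b
  have hk3 : k ≡ 3 [MOD 2 ^ b] := by
    have h1 : (g ^ c) ^ (2 ^ b) = 1 := by
      rw [← pow_mul, mul_comm, hbc, pow_orderOf_eq_one]
    obtain ⟨i, -, hi⟩ := (Nat.dvd_prime_pow Nat.prime_two).mp (orderOf_dvd_of_pow_eq_one h1)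
    have h2 := hk₁ (g ^ c) ⟨i, hi⟩
    rw [← pow_mul, ← pow_mul, pow_eq_pow_iff_modEq, ← hbc, mul_comm (2 ^ b) c] at h2
    exact Nat.ModEq.mul_left_cancel' hc0 h2
  -- k ≡ 1 mod c
  have hk1 : k ≡ 1 [MOD c] := by
    have h1 : (g ^ (2 ^ b)) ^ c = 1 := by
      rw [← pow_mul, hbc, pow_orderOf_eq_one]
    have h2 : Odd (orderOf (g ^ (2 ^ b))) :=
      Odd.of_dvd_nat hcodd (orderOf_dvd_of_pow_eq_one h1)
    have h3 := hk₂ (g ^ (2 ^ b)) h2
    nth_rewrite 2 [← pow_one (g ^ (2 ^ b))] at h3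
    rw [← pow_mul, ← pow_mul, pow_eq_pow_iff_modEq, ← hbc] at h3
    exact Nat.ModEq.mul_left_cancel' (pow_ne_zero b (by norm_num)) h3
  -- 3^(2^n) ≡ 1 mod 2^b
  have h3pow : 3 ^ (2 ^ Nat.card G) ≡ 1 [MOD 2 ^ b] := by
    rcases Nat.eq_zero_or_pos b with hb0 | hbpos
    · rw [hb0, pow_zero]
      exact Nat.modEq_one
    · have h1 : Nat.Coprime 3 (2 ^ b) := Nat.Coprime.pow_right b (by norm_num)
      have h2 := Nat.ModEq.pow_totient h1
      rw [Nat.totient_prime_pow Nat.prime_two hbpos] at h2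
      have h3 : 2 ^ (b - 1) * (2 - 1) = 2 ^ (b - 1) := by norm_num
      rw [h3] at h2
      have hble : b ≤ Nat.card G := by
        have h4 : 2 ^ b ≤ orderOf g := Nat.le_of_dvd ho (Dvd.intro _ hbc)
        have h5 : orderOf g ≤ Nat.card G := Nat.le_of_dvd Nat.card_pos (orderOf_dvd_natCard g)
        have h6 : b < 2 ^ b := Nat.lt_two_pow_self
        omega
      have h7 : 2 ^ Nat.card G = 2 ^ (b - 1) * 2 ^ (Nat.card G - (b - 1)) := by
        rw [← pow_add]
        congr 1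
        omega
      rw [h7, pow_mul]
      have h8 := h2.pow (2 ^ (Nat.card G - (b - 1)))
      rwa [one_pow] at h8
  have hK2 : k ^ (2 ^ Nat.card G) ≡ 1 [MOD 2 ^ b] := (hk3.pow _).trans h3pow
  have hK1 : k ^ (2 ^ Nat.card G) ≡ 1 [MOD c] := by
    have := hk1.pow (2 ^ Nat.card G)
    rwa [one_pow] at this
  have hcop : Nat.Coprime (2 ^ b) c :=
    Nat.Coprime.pow_left b ((Nat.Prime.coprime_iff_not_dvd Nat.prime_two).mpr hc2)
  have hK : k ^ (2 ^ Nat.card G) ≡ 1 [MOD orderOf g] := by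
    rw [← hbc]
    exact (Nat.modEq_and_modEq_iff_modEq_mul hcop).mp ⟨hK2, hK1⟩
  have h9 := pow_eq_pow_iff_modEq.mpr hK
  rw [h9, pow_one]

/-- A self-map of `2`-power order on a finite set of even size has an even number of fixed
points. -/
theorem even_card_fixedPoints {X : Type*} [Finite X] (f : X → X) (n : ℕ)
    (hf : ∀ x, f^[2 ^ n] x = x) (hX : Even (Nat.card X)) :
    Even (Nat.card (Function.fixedPoints f)) := by
  classical
  have : Fintype X := Fintype.ofFinite X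
  obtain ⟨F, hF⟩ : ∃ F : Function.End X, F = f := ⟨f, rfl⟩
  have hfpow : F ^ 2 ^ n = 1 := by
    subst hF
    exact funext hf
  have hmod := Equiv.Perm.card_fixedPoints_modEq (p := 2) hfpow
  subst hF
  rw [Nat.card_eq_fintype_card] at hX ⊢
  rw [Nat.even_iff] at hX ⊢
  rw [← hX]
  exact hmod.symm

end Cfsg.Agent.Helper25
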