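import Cfsg.Agent.Helper25.DefectConj

set_option autoImplicit false
set_option linter.unusedSectionVars false

/-!
# Height-zero characters (helper25)
-/

namespace Cfsg.Agent.Helper25

open Cfsg
open scoped ComplexConjugate

/-- Every nonempty set of irreducible characters has a member of height zero. -/
theorem exists_height_zero {G : Type*} [Group G] (p : ℕ) {B : Set (IrrCharacter G)}
    (hne : B.Nonempty) : ∃ ψ ∈ B, blockHeight p B (ψ : G → ℂ) = 0 := by
  have hS : ((fun ψ : IrrCharacter G => (charDegree (ψ : G → ℂ)).factorization p) '' B).Nonempty :=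
    hne.image _
  obtain ⟨ψ, hψ, hψe⟩ := Nat.sInf_mem hS
  refine ⟨ψ, hψ, ?_⟩
  unfold blockHeight
  have h1 : (charDegree (ψ : G → ℂ)).factorization p
      = sInf ((fun ψ : IrrCharacter G => (charDegree (ψ : G → ℂ)).factorization p) '' B) := hψe
  rw [← h1]
  exact Nat.sub_self _

section

variable {G : Type*} [Group G] [Fintype G] {M : Ideal AlgInt} {p : ℕ}

/-- If the central character of `ψ` at `g` lies in the local ideal and the `p`-part of the class
size of `g` is at most that of the degree, the value `ψ g` lies in the local ideal. -/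
theorem char_mem_of_centralChar_mem (hpM : IsPModular p M) (ψ : IrrCharacter G) (g : G)
    (hle : (Subgroup.centralizer ({g} : Set G)).index.factorization p
      ≤ (charDegree (ψ : G → ℂ)).factorization p)
    (h : MemLocalIdeal M (centralChar (ψ : G → ℂ) g)) : MemLocalIdeal M ((ψ : G → ℂ) g) := by
  have hM := hpM.2.1.isPrime
  have hdeg : (ψ : G → ℂ) 1 = (charDegree (ψ : G → ℂ) : ℂ) :=
    Helper24.charDegree_spec (Helper24.isCharacter_of_irr ψ.2)
  have hidx : (Subgroup.centralizer ({g} : Set G)).index ≠ 0 := Subgroup.index_ne_zero_of_finite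
  have hidx' : ((Subgroup.centralizer ({g} : Set G)).index : ℂ) ≠ 0 := Nat.cast_ne_zero.mpr hidx
  have h1 := Helper24.irr_one_ne_zero ψ.2
  have hR := natCast_div_memLocalRing hpM hidx hle
  have e : (ψ : G → ℂ) g = (charDegree (ψ : G → ℂ) : ℂ)
      / ((Subgroup.centralizer ({g} : Set G)).index : ℂ) * centralChar (ψ : G → ℂ) g := by
    unfold centralChar
    rw [← hdeg]
    field_simp
  rw [e]
  exact MemLocalIdeal.mul_left hM hR h

end

end Cfsg.Agent.Helper25
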