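import Cfsg.Agent.Helper25.SecondMain
import Cfsg.Agent.Helper25.BlockSection
import Cfsg.Agent.Helper25.BlockQuot

set_option autoImplicit false
set_option linter.unusedSectionVars false

/-!
# Induced blocks from subgroups between `P C(P)` and `N(P)` (helper25)

The Brauer map followed by a central character of a subgroup `H` with
`P ≤ H`, `C_G(P) ≤ H ≤ N_G(P)` is multiplicative modulo the local ideal; hence every block of
such a subgroup induces a block of the group.
-/

namespace Cfsg.Agent.Helper25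

open Cfsg
open scoped ComplexConjugate

section Gen

variable {G : Type*} [Group G] [Fintype G] [Fintype (IrrCharacter G)] {M : Ideal AlgInt} {p : ℕ}

/-- The Brauer map of `H` followed by a central character is multiplicative modulo the local
ideal. -/
def BrLamMul (M : Ideal AlgInt) (hM : M.IsPrime) (H : Subgroup G) [Fintype H] : Prop :=
  ∀ (ξ : IrrCharacter H) (Φ Ψ : IrrCharacter G → ℂ), Φ ∈ specRing G M hM →
    Ψ ∈ specRing G M hM →
    MemLocalIdeal M (brLam H ξ (Φ * Ψ) - brLam H ξ Φ * brLam H ξ Ψ)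

theorem brLam_memLocalRing (hM : M.IsPrime) (H : Subgroup G) [Fintype H] (ξ : IrrCharacter H)
    (Ψ : IrrCharacter G → ℂ) (hΨ : Ψ ∈ specRing G M hM) : MemLocalRing M (brLam H ξ Ψ) :=
  omega_mem_ring hM ξ (fun x : H => coeffT Ψ (x : G))
    (isClassFunction_restrict _ _ (coeffT_isClassFunction Ψ)) (fun x => hΨ (x : G))

theorem brLam_pow_of_mul (hM : M.IsPrime) (H : Subgroup G) [Fintype H]
    (hmulH : BrLamMul M hM H) (ξ : IrrCharacter H) (Φ : IrrCharacter G → ℂ)
    (hΦ : Φ ∈ specRing G M hM) (N : ℕ) :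
    MemLocalIdeal M (brLam H ξ (Φ ^ (N + 1)) - brLam H ξ Φ ^ (N + 1)) := by
  induction N with
  | zero =>
    rw [zero_add, pow_one, pow_one, sub_self]
    exact MemLocalIdeal.zero hM.ne_top
  | succ N ih =>
    have h1 := hmulH ξ (Φ ^ (N + 1)) Φ (Subring.pow_mem _ hΦ _) hΦ
    have hR := brLam_memLocalRing hM H ξ Φ hΦ
    have h2 := MemLocalIdeal.mul_right hM ih hR
    have h3 := MemLocalIdeal.add hM h1 h2
    rw [pow_succ Φ (N + 1), pow_succ _ (N + 1)]
    convert h3 using 1
    ring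

/-- A block of `H` that does not induce `B` kills the idempotent of `B` under the Brauer map. -/
theorem brLam_mem_of_not_induced_gen (hM : M.IsPrime) (H : Subgroup G) [Fintype H]
    (hmulH : BrLamMul M hM H) (b : Set (IrrCharacter H)) (hb : IsPBlock M b)
    (B : Set (IrrCharacter G)) (hB : IsPBlock M B) [DecidablePred (· ∈ B)]
    (hnot : ¬ IsInducedBlock M H b B) (ψ : IrrCharacter H) (hψ : ψ ∈ b) :
    MemLocalIdeal M (brLam H ψ (fun χ : IrrCharacter G => if χ ∈ B then (1 : ℂ) else 0)) := by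
  obtain ⟨ΦB, hΦBdef⟩ : ∃ ΦB : IrrCharacter G → ℂ,
      ΦB = fun χ : IrrCharacter G => if χ ∈ B then (1 : ℂ) else 0 := ⟨_, rfl⟩
  rw [← hΦBdef]
  have hΦB : ΦB ∈ specRing G M hM := by
    rw [hΦBdef]
    exact block_indicator_mem hM hB
  have hidem : ΦB * ΦB = ΦB := by
    rw [hΦBdef]
    funext χ
    show (if χ ∈ B then (1 : ℂ) else 0) * (if χ ∈ B then (1 : ℂ) else 0) = _
    split_ifs <;> simp
  have hLR : ∀ (ξ : IrrCharacter H) (Ψ : IrrCharacter G → ℂ),
      Ψ ∈ specRing G M hM → MemLocalRing M (brLam H ξ Ψ) := fun ξ Ψ hΨ =>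
    brLam_memLocalRing hM H ξ Ψ hΨ
  have hLmul : ∀ (ξ : IrrCharacter H)
      (Φ Ψ : IrrCharacter G → ℂ), Φ ∈ specRing G M hM → Ψ ∈ specRing G M hM →
      MemLocalIdeal M (brLam H ξ (Φ * Ψ) - brLam H ξ Φ * brLam H ξ Ψ) := hmulH
  have htR := hLR ψ ΦB hΦB
  have hmul := hLmul ψ ΦB ΦB hΦB hΦB
  rw [hidem] at hmul
  have h1 : MemLocalIdeal M (brLam _ ψ ΦB * (1 - brLam _ ψ ΦB)) := by
    convert hmul using 1
    ring
  rcases MemLocalIdeal.of_mul hM htR h1 with h2 | h2
  · exact h2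
  · exfalso
    apply hnot
    refine ⟨hb, hB, fun ξ hξ χ hχ g => ?_⟩
    have hsξψ : SameBlock M (ξ : H → ℂ)
        (ψ : H → ℂ) := by
      obtain ⟨ξ₀, rfl⟩ := hb
      exact sameBlock_trans hM (sameBlock_symm hξ) hψ
    have hΛξ : MemLocalIdeal M (1 - brLam _ ξ ΦB) := by
      have h3 : MemLocalIdeal M (brLam _ ξ ΦB - brLam _ ψ ΦB) :=
        omega_sub_mem hM ξ ψ hsξψ (fun x : H => coeffT ΦB (x : G))
          (isClassFunction_restrict _ _ (coeffT_isClassFunction ΦB)) (fun x => hΦB (x : G))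
      have h4 := MemLocalIdeal.sub hM h2 h3
      convert h4 using 1
      ring
    have hΛξnot : ¬ MemLocalIdeal M (brLam _ ξ ΦB) := by
      intro h
      apply not_memLocalIdeal_one (M := M)
      have h5 := MemLocalIdeal.add hM hΛξ h
      convert h5 using 1
      ring
    obtain ⟨Ψg, hΨg⟩ : ∃ Ψg : IrrCharacter G → ℂ,
        Ψg = fun χ' : IrrCharacter G => centralChar (χ' : G → ℂ) g := ⟨_, rfl⟩
    have hΨgR : Ψg ∈ specRing G M hM := by
      rw [hΨg]
      exact central_mem_specRing hM g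
    obtain ⟨c₀, hc₀⟩ : ∃ c₀ : ℂ, c₀ = centralChar (χ : G → ℂ) g := ⟨_, rfl⟩
    have hc₀R : MemLocalRing M c₀ := by
      rw [hc₀]
      exact memLocalRing_of_isIntegral hM.ne_top (centralChar_isIntegral χ g)
    obtain ⟨Ψd, hΨd⟩ : ∃ Ψd : IrrCharacter G → ℂ,
        Ψd = Ψg - (fun _ => c₀) * (1 : IrrCharacter G → ℂ) := ⟨_, rfl⟩
    have hΨdR : Ψd ∈ specRing G M hM := by
      rw [hΨd]
      exact Subring.sub_mem _ hΨgR
        (Subring.mul_mem _ (const_mem_specRing hM hc₀R) (Subring.one_mem _))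
    have hΨval : ∀ χ' : IrrCharacter G, MemLocalIdeal M ((Ψd * ΦB) χ') := by
      intro χ'
      rw [hΨd, hΦBdef, hΨg]
      show MemLocalIdeal M ((centralChar (χ' : G → ℂ) g - c₀ * 1)
        * (if χ' ∈ B then (1 : ℂ) else 0))
      by_cases hχ' : χ' ∈ B
      · rw [if_pos hχ', mul_one, mul_one, hc₀]
        obtain ⟨χ₀, rfl⟩ := hB
        exact (sameBlock_trans hM (sameBlock_symm hχ') hχ) g
      · rw [if_neg hχ', mul_zero]
        exact MemLocalIdeal.zero hM.ne_top
    have hΨΦ : Ψd * ΦB ∈ specRing G M hM := Subring.mul_mem _ hΨdR hΦB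
    have hpow := pow_mem_specJ hM hΨΦ hΨval
    have : Nonempty (IrrCharacter G) := ⟨χ⟩
    obtain ⟨N, hN⟩ : ∃ N, Fintype.card (IrrCharacter G) = N + 1 :=
      Nat.exists_eq_succ_of_ne_zero Fintype.card_ne_zero
    rw [hN] at hpow
    have h5 : MemLocalIdeal M (brLam _ ξ ((Ψd * ΦB) ^ (N + 1))) :=
      omega_mem_ideal hM ξ
        (fun x : H => coeffT ((Ψd * ΦB) ^ (N + 1)) (x : G))
        (isClassFunction_restrict _ _ (coeffT_isClassFunction _)) (fun x => hpow (x : G))
    have h6 : MemLocalIdeal M (brLam _ ξ ((Ψd * ΦB) ^ (N + 1)) - brLam _ ξ (Ψd * ΦB) ^ (N + 1)) :=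
      brLam_pow_of_mul hM H hmulH ξ (Ψd * ΦB) hΨΦ N
    have h7 : MemLocalIdeal M (brLam _ ξ (Ψd * ΦB) ^ (N + 1)) := by
      have h := MemLocalIdeal.sub hM h5 h6
      convert h using 1
      ring
    have h8 := MemLocalIdeal.of_pow hM (hLR ξ _ hΨΦ) N h7
    have h9 := hLmul ξ Ψd ΦB hΨdR hΦB
    have h10 : MemLocalIdeal M (brLam _ ξ Ψd * brLam _ ξ ΦB) := by
      have h := MemLocalIdeal.sub hM h8 h9
      convert h using 1
      ring
    rcases MemLocalIdeal.of_mul hM (hLR ξ Ψd hΨdR) h10 with h11 | h11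
    · have h12 : brLam _ ξ Ψd
          = inducedCentralChar (H)
            (ξ : H → ℂ) g - centralChar (χ : G → ℂ) g := by
        rw [hΨd, brLam_sub, brLam_const, inducedCentralChar_eq_brLam, ← hΨg, ← hc₀]
      rw [← h12]
      exact h11
    · exact absurd h11 hΛξnot

/-- Under multiplicativity of the Brauer map, every block of `H` induces a block of `G`. -/
theorem inducedBlockDefined_of_mul (hM : M.IsPrime) (H : Subgroup G) [Fintype H]
    (hmulH : BrLamMul M hM H) (b : Set (IrrCharacter H)) (hb : IsPBlock M b) :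
    InducedBlockDefined M H b := by
  classical
  by_contra hnot
  obtain ⟨ψ, hbψ⟩ := id hb
  have hψ : ψ ∈ b := by
    rw [hbψ]
    exact mem_blockOf_self hM.ne_top ψ
  have hall : ∀ χ : IrrCharacter G, MemLocalIdeal M (brLam H ψ
      (fun χ' : IrrCharacter G => if χ' ∈ blockOf M (χ : G → ℂ) then (1 : ℂ) else 0)) :=
    fun χ => brLam_mem_of_not_induced_gen hM H hmulH b hb (blockOf M (χ : G → ℂ)) ⟨χ, rfl⟩
      (fun h => hnot ⟨_, h⟩) ψ hψ
  obtain ⟨S, hS⟩ : ∃ S : Finset (Set (IrrCharacter G)),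
      S = Finset.univ.image (fun χ : IrrCharacter G => blockOf M (χ : G → ℂ)) := ⟨_, rfl⟩
  have hsum : (∑ B ∈ S, fun χ' : IrrCharacter G => if χ' ∈ B then (1 : ℂ) else 0)
      = (fun _ => (1 : ℂ)) * (1 : IrrCharacter G → ℂ) := by
    funext χ
    rw [Finset.sum_apply]
    simp only [Pi.mul_apply, Pi.one_apply, mul_one]
    rw [Finset.sum_eq_single (blockOf M (χ : G → ℂ))]
    · exact if_pos (mem_blockOf_self hM.ne_top χ)
    · intro B hB hne
      rw [if_neg]
      intro hχB
      rw [hS] at hB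
      obtain ⟨χ₁, _, rfl⟩ := Finset.mem_image.1 hB
      exact hne (blockOf_eq_of_mem hM hχB)
    · intro h
      rw [hS] at h
      exact absurd (Finset.mem_image_of_mem _ (Finset.mem_univ χ)) h
  have h1 : brLam H ψ (∑ B ∈ S, fun χ' : IrrCharacter G => if χ' ∈ B then (1 : ℂ) else 0)
      = 1 := by
    rw [hsum]
    exact brLam_const H ψ 1
  rw [brLam_finset_sum] at h1
  apply not_memLocalIdeal_one (M := M)
  rw [← h1]
  refine memLocalIdeal_sum hM _ _ fun B hB => ?_
  rw [hS] at hB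
  obtain ⟨χ₁, _, rfl⟩ := Finset.mem_image.1 hB
  exact hall χ₁

theorem sum_eq_sum_subgroup_add (H : Subgroup G) [Fintype H] [DecidablePred (· ∈ H)]
    (F : G → ℂ) :
    ∑ y : G, F y = ∑ x : H, F (x : G) + ∑ y : G, (if y ∈ H then 0 else F y) := by
  classical
  have e : ∀ y : G, F y = (if y ∈ H then F y else 0) + (if y ∈ H then 0 else F y) := by
    intro y
    split_ifs
    · rw [add_zero]
    · rw [zero_add]
  rw [Finset.sum_congr rfl (fun y _ => e y), Finset.sum_add_distrib]
  congr 1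
  · rw [← Finset.sum_filter]
    exact Finset.sum_subtype (Finset.univ.filter (fun y : G => y ∈ H)) (by simp) F

/-- Multiplicativity of the Brauer map for a subgroup between `P C_G(P)` and `N_G(P)`. -/
theorem brauer_mul_gen [Fact p.Prime] (hpM : IsPModular p M) (P H : Subgroup G)
    (hP : IsPGroup p P) (hPH : P ≤ H) (hCH : Subgroup.centralizer (P : Set G) ≤ H)
    (hHN : H ≤ Subgroup.normalizer (P : Set G)) [Fintype H] :
    BrLamMul M hpM.2.1.isPrime H := by
  classical
  intro ξ Φ Ψ hΦ hΨ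
  have hM := hpM.2.1.isPrime
  have := Helper24.finite_irrCharacter (G := H)
  have : Fintype (IrrCharacter H) := Fintype.ofFinite _
  have hnormal : (P.subgroupOf H).Normal := by
    refine ⟨fun n hn g => ?_⟩
    rw [Subgroup.mem_subgroupOf] at hn ⊢
    have hg := hHN g.2
    rw [Subgroup.mem_normalizer_iff] at hg
    exact (hg (n : G)).1 hn
  have hPsub : IsPGroup p (P.subgroupOf H) := hP.comap_subtype
  obtain ⟨E, hEdef⟩ : ∃ E : H → ℂ, E = fun x : H =>
      ∑ y : G, (if y ∈ H then 0 else coeffT Φ y * coeffT Ψ (y⁻¹ * (x : G))) := ⟨_, rfl⟩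
  have hsplit : ∀ x : H, coeffT (Φ * Ψ) (x : G)
      = (∑ y : H, coeffT Φ (y : G) * coeffT Ψ ((y⁻¹ * x : H) : G)) + E x := by
    intro x
    rw [coeffT_mul, sum_eq_sum_subgroup_add H, hEdef]
    rfl
  have hER : ∀ x, MemLocalRing M (E x) := by
    intro x
    rw [hEdef]
    refine memLocalRing_sum hM _ _ fun y _ => ?_
    split_ifs
    · exact MemLocalRing.zero hM.ne_top
    · exact MemLocalRing.mul hM (hΦ y) (hΨ _)
  have hEJ : ∀ x : H, (x : G) ∈ Subgroup.centralizer (P : Set G) → MemLocalIdeal M (E x) := by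
    intro x hx
    rw [hEdef]
    have hpJ : MemLocalIdeal M (p : ℂ) := (memLocalIdeal_natCast_iff hpM p).2 (dvd_refl p)
    refine pgroup_sum_mem' hP ((MulAut.toPerm G).comp (MulAut.conj.comp P.subtype))
      (localIdeal M hM) _ (fun u y => ?_) (fun y => ?_) (fun y hy => ?_)
    · have e : ((MulAut.toPerm G).comp (MulAut.conj.comp P.subtype)) u y
          = (u : G) * y * (u : G)⁻¹ := rfl
      rw [e]
      have hmem : (u : G) * y * (u : G)⁻¹ ∈ H ↔ y ∈ H := by
        constructor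
        · intro h
          have e' : y = (u : G)⁻¹ * ((u : G) * y * (u : G)⁻¹) * (u : G) := by group
          rw [e']
          exact mul_mem (mul_mem (inv_mem (hPH u.2)) h) (hPH u.2)
        · intro h
          exact mul_mem (mul_mem (hPH u.2) h) (inv_mem (hPH u.2))
      have h1 := coeffT_isClassFunction Φ y (u : G)
      have hxu : (x : G) * (u : G)⁻¹ = (u : G)⁻¹ * (x : G) :=
        (Subgroup.mem_centralizer_iff.1 hx (u : G)⁻¹ (inv_mem u.2)).symm
      have h2 := coeffT_isClassFunction Ψ (y⁻¹ * (x : G)) (u : G)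
      have e2 : ((u : G) * y * (u : G)⁻¹)⁻¹ * (x : G)
          = (u : G) * (y⁻¹ * (x : G)) * (u : G)⁻¹ := by
        calc ((u : G) * y * (u : G)⁻¹)⁻¹ * (x : G)
            = (u : G) * y⁻¹ * ((u : G)⁻¹ * (x : G)) := by group
          _ = (u : G) * y⁻¹ * ((x : G) * (u : G)⁻¹) := by rw [hxu]
          _ = (u : G) * (y⁻¹ * (x : G)) * (u : G)⁻¹ := by group
      by_cases hc : y ∈ H
      · rw [if_pos hc, if_pos (hmem.2 hc)]
      · rw [if_neg hc, if_neg (fun h => hc (hmem.1 h)), h1, e2, h2]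
    · split_ifs
      · rw [mul_zero]
        exact MemLocalIdeal.zero hM.ne_top
      · exact MemLocalIdeal.mul_right hM hpJ (MemLocalRing.mul hM (hΦ y) (hΨ _))
    · have hyC : y ∈ Subgroup.centralizer (P : Set G) := by
        rw [Subgroup.mem_centralizer_iff]
        intro u hu
        have h1 : ((MulAut.toPerm G).comp (MulAut.conj.comp P.subtype)) ⟨u, hu⟩ y = y :=
          hy ⟨u, hu⟩
        have e : ((MulAut.toPerm G).comp (MulAut.conj.comp P.subtype)) ⟨u, hu⟩ y
            = u * y * u⁻¹ := rfl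
        rw [e] at h1
        calc u * y = u * y * u⁻¹ * u := by group
          _ = y * u := by rw [h1]
      rw [if_pos (hCH hyC)]
      exact MemLocalIdeal.zero hM.ne_top
  have hEcl : IsClassFunction H E := by
    intro x k
    rw [hEdef]
    simp only
    refine (Fintype.sum_equiv (MulAut.conj (k : G)).toEquiv _ _ (fun y => ?_)).symm
    have hmem : (k : G) * y * (k : G)⁻¹ ∈ H ↔ y ∈ H := by
      constructor
      · intro h
        have e : y = (k : G)⁻¹ * ((k : G) * y * (k : G)⁻¹) * (k : G) := by group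
        rw [e]
        exact mul_mem (mul_mem (inv_mem k.2) h) k.2
      · intro h
        exact mul_mem (mul_mem k.2 h) (inv_mem k.2)
    have e1 : (MulAut.conj (k : G)).toEquiv y = (k : G) * y * (k : G)⁻¹ := rfl
    rw [e1]
    have e2 : ((k : G) * y * (k : G)⁻¹)⁻¹ * ((k * x * k⁻¹ : H) : G)
        = (k : G) * (y⁻¹ * (x : G)) * (k : G)⁻¹ := by
      have : ((k * x * k⁻¹ : H) : G) = (k : G) * (x : G) * (k : G)⁻¹ := rfl
      rw [this]
      group
    rw [e2, coeffT_isClassFunction Φ y (k : G), coeffT_isClassFunction Ψ (y⁻¹ * (x : G)) (k : G)]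
    by_cases hc : y ∈ H
    · rw [if_pos hc, if_pos (hmem.2 hc)]
    · rw [if_neg hc, if_neg (fun h => hc (hmem.1 h))]
  have hmain := omega_mul ξ (fun y : H => coeffT Φ (y : G)) (fun y : H => coeffT Ψ (y : G))
    (isClassFunction_restrict _ _ (coeffT_isClassFunction Ψ))
  have hfin : brLam H ξ (Φ * Ψ) - brLam H ξ Φ * brLam H ξ Ψ
      = ∑ x : H, E x * ((ξ : H → ℂ) x / (ξ : H → ℂ) 1) := by
    unfold brLam
    rw [← hmain, ← Finset.sum_sub_distrib]
    refine Finset.sum_congr rfl fun x _ => ?_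
    rw [hsplit x]
    ring
  rw [hfin]
  have hcl : IsClassFunction H (fun x => E x * ((ξ : H → ℂ) x / (ξ : H → ℂ) 1)) := by
    intro x k
    show E (k * x * k⁻¹) * ((ξ : H → ℂ) (k * x * k⁻¹) / (ξ : H → ℂ) 1) = _
    rw [hEcl x k, (Helper2.IsIrrCharacter.isClassFunction ξ.2) x k]
  refine sum_class_mem (localIdeal M hM) _ hcl fun x => ?_
  have e : ((Subgroup.centralizer ({x} : Set H)).index : ℂ) *
      (E x * ((ξ : H → ℂ) x / (ξ : H → ℂ) 1)) = E x * centralChar (ξ : H → ℂ) x := by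
    unfold centralChar
    ring
  rw [e]
  by_cases hx : (x : G) ∈ Subgroup.centralizer (P : Set G)
  · exact MemLocalIdeal.mul_right hM (hEJ x hx)
      (memLocalRing_of_isIntegral hM.ne_top (centralChar_isIntegral ξ x))
  · refine MemLocalIdeal.mul_left hM (hER x) ?_
    refine centralChar_mem_of_not_centralizer hpM (P.subgroupOf H) hPsub ξ x ?_
    intro hxc
    apply hx
    rw [Subgroup.mem_centralizer_iff]
    intro u hu
    have h1 := Subgroup.mem_centralizer_iff.1 hxc ⟨u, hPH hu⟩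
      (by rw [SetLike.mem_coe, Subgroup.mem_subgroupOf]; exact hu)
    exact congrArg Subtype.val h1

end Gen

end Cfsg.Agent.Helper25
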