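import Cfsg.Agent.Helper25.InducedGen

set_option autoImplicit false
set_option linter.unusedSectionVars false

/-!
# Induced central characters through the Brauer map (helper25)
-/

namespace Cfsg.Agent.Helper25

open Cfsg
open scoped ComplexConjugate

theorem conj_mem_centralizer_of_mem_normalizer {G : Type*} [Group G] {P : Subgroup G} {k c : G}
    (hk : k ∈ Subgroup.normalizer (P : Set G)) (hc : c ∈ Subgroup.centralizer (P : Set G)) :
    k * c * k⁻¹ ∈ Subgroup.centralizer (P : Set G) := by
  rw [Subgroup.mem_centralizer_iff] at hc ⊢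
  intro u hu
  have h1 : k⁻¹ * u * k ∈ P := by
    have := (Subgroup.mem_normalizer_iff.1 (inv_mem hk) u).1 hu
    simpa using this
  have h2 := hc _ h1
  calc u * (k * c * k⁻¹) = k * ((k⁻¹ * u * k) * c) * k⁻¹ := by group
    _ = k * (c * (k⁻¹ * u * k)) * k⁻¹ := by rw [h2]
    _ = k * c * k⁻¹ * u := by group

theorem conj_mem_centralizer_iff_of_mem_normalizer {G : Type*} [Group G] {P : Subgroup G}
    {k : G} (hk : k ∈ Subgroup.normalizer (P : Set G)) (c : G) :
    k * c * k⁻¹ ∈ Subgroup.centralizer (P : Set G) ↔ c ∈ Subgroup.centralizer (P : Set G) := by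
  constructor
  · intro h
    have h1 := conj_mem_centralizer_of_mem_normalizer (inv_mem hk) h
    have e : k⁻¹ * (k * c * k⁻¹) * k⁻¹⁻¹ = c := by group
    rwa [e] at h1
  · exact conj_mem_centralizer_of_mem_normalizer hk

section Gen2

variable {G : Type*} [Group G] [Fintype G] {M : Ideal AlgInt} {p : ℕ}

/-- The induced central character of a subgroup normalizing `P` agrees modulo the local ideal with
its Brauer truncation to the centralizer of `P`. -/
theorem induced_sub_brauer_mem [Fact p.Prime] (hpM : IsPModular p M) (P H : Subgroup G)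
    (hP : IsPGroup p P) (hPH : P ≤ H) (hHN : H ≤ Subgroup.normalizer (P : Set G)) [Fintype H]
    (ξ : IrrCharacter H) (g : G) :
    MemLocalIdeal M (inducedCentralChar H (ξ : H → ℂ) g
      - brauerCentralChar P H (ξ : H → ℂ) g) := by
  classical
  have hM := hpM.2.1.isPrime
  have := Helper24.finite_irrCharacter (G := H)
  have : Fintype (IrrCharacter H) := Fintype.ofFinite _
  have hnormal : (P.subgroupOf H).Normal := by
    refine ⟨fun n hn g => ?_⟩
    rw [Subgroup.mem_subgroupOf] at hn ⊢
    have hg := hHN g.2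
    rw [Subgroup.mem_normalizer_iff] at hg
    exact (hg (n : G)).1 hn
  have hPsub : IsPGroup p (P.subgroupOf H) := hP.comap_subtype
  unfold inducedCentralChar brauerCentralChar
  rw [finsum_mem_eq_sum_ite, finsum_mem_eq_sum_ite, ← Finset.sum_sub_distrib]
  have hcl : IsClassFunction H (fun h : H =>
      (if h ∈ {h : H | IsConj g (h : G)} then (ξ : H → ℂ) h / (ξ : H → ℂ) 1 else 0)
      - (if h ∈ {h : H | IsConj g (h : G) ∧ (h : G) ∈ Subgroup.centralizer (P : Set G)}
          then (ξ : H → ℂ) h / (ξ : H → ℂ) 1 else 0)) := by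
    intro h k
    have hkk : IsConj (h : G) ((k * h * k⁻¹ : H) : G) := isConj_iff.2 ⟨(k : G), rfl⟩
    have h1 : IsConj g ((k * h * k⁻¹ : H) : G) ↔ IsConj g (h : G) :=
      ⟨fun h' => h'.trans hkk.symm, fun h' => h'.trans hkk⟩
    have h2 : ((k * h * k⁻¹ : H) : G) ∈ Subgroup.centralizer (P : Set G)
        ↔ (h : G) ∈ Subgroup.centralizer (P : Set G) :=
      conj_mem_centralizer_iff_of_mem_normalizer (hHN k.2) (h : G)
    simp only [Set.mem_ofPred_eq]
    rw [(Helper2.IsIrrCharacter.isClassFunction ξ.2) h k]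
    simp only [h1, h2]
  refine sum_class_mem (localIdeal M hM) _ hcl fun h => ?_
  simp only [Set.mem_ofPred_eq]
  by_cases hc : (h : G) ∈ Subgroup.centralizer (P : Set G)
  · have e0 : (if IsConj g (h : G) then (ξ : H → ℂ) h / (ξ : H → ℂ) 1 else 0)
        - (if IsConj g (h : G) ∧ (h : G) ∈ Subgroup.centralizer (P : Set G)
            then (ξ : H → ℂ) h / (ξ : H → ℂ) 1 else 0) = 0 := by
      by_cases hg : IsConj g (h : G)
      · rw [if_pos hg, if_pos ⟨hg, hc⟩, sub_self]
      · rw [if_neg hg, if_neg (fun h' => hg h'.1), sub_self]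
    rw [e0, mul_zero]
    exact MemLocalIdeal.zero hM.ne_top
  · rw [if_neg (show ¬ (IsConj g (h : G) ∧ (h : G) ∈ Subgroup.centralizer (P : Set G)) from
      fun h' => hc h'.2), sub_zero]
    by_cases hg : IsConj g (h : G)
    · rw [if_pos hg]
      have e : ((Subgroup.centralizer ({h} : Set H)).index : ℂ)
          * ((ξ : H → ℂ) h / (ξ : H → ℂ) 1) = centralChar (ξ : H → ℂ) h := by
        unfold centralChar
        ring
      rw [e]
      refine centralChar_mem_of_not_centralizer hpM (P.subgroupOf H) hPsub ξ h ?_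
      intro hxc
      apply hc
      rw [Subgroup.mem_centralizer_iff]
      intro u hu
      have h1 := Subgroup.mem_centralizer_iff.1 hxc ⟨u, hPH hu⟩
        (by rw [SetLike.mem_coe, Subgroup.mem_subgroupOf]; exact hu)
      exact congrArg Subtype.val h1
    · rw [if_neg hg, mul_zero]
      exact MemLocalIdeal.zero hM.ne_top

end Gen2

end Cfsg.Agent.Helper25
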