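import Cfsg.Agent.Helper25.HeightZero3
import Cfsg.Agent.Helper25.ListSum
import Cfsg.Agent.Helper10.VirtualChar

set_option autoImplicit false
set_option linter.unusedSectionVars false

/-!
# The block parts of an induced character at the identity (helper25)
-/

namespace Cfsg.Agent.Helper25

open Cfsg
open scoped ComplexConjugate

section

variable {G : Type*} [Group G] [Fintype G] {M : Ideal AlgInt} {p : ℕ}

theorem blockPart_apply (B : Set (IrrCharacter G)) (ϑ : G → ℂ) (g : G) :
    blockPart B ϑ g = ∑ᶠ χ ∈ B, classInner ϑ (χ : G → ℂ) * (χ : G → ℂ) g := by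
  unfold blockPart
  have : Fintype.ofFinite G = ‹Fintype G› := Subsingleton.elim _ _
  rw [this]

/-- The value at `1` of the `B`-part of an induced irreducible character, through the Brauer
homomorphism applied to the block idempotent. -/
theorem blockPart_ind_one [Fintype (IrrCharacter G)] (H : Subgroup G) [Fintype H]
    (ξ : IrrCharacter H) (B : Set (IrrCharacter G)) [DecidablePred (· ∈ B)] :
    blockPart B (indFun H (ξ : H → ℂ)) 1
      = indFun H (ξ : H → ℂ) 1 * brLam H ξ (fun χ => if χ ∈ B then (1 : ℂ) else 0) := by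
  rw [blockPart_apply, finsum_mem_eq_sum_ite, indFun_one_eq]
  unfold brLam coeffT
  have hG : (Nat.card G : ℂ) ≠ 0 := Nat.cast_ne_zero.mpr Nat.card_pos.ne'
  have hH : (Nat.card H : ℂ) ≠ 0 := Nat.cast_ne_zero.mpr Nat.card_pos.ne'
  have hξ1 := Helper24.irr_one_ne_zero ξ.2
  have e1 : ∀ χ : IrrCharacter G, (if χ ∈ B then
      classInner (indFun H (ξ : H → ℂ)) (χ : G → ℂ) * (χ : G → ℂ) 1 else 0)
      = (Nat.card H : ℂ)⁻¹ * ∑ c : H, (if χ ∈ B then
        (ξ : H → ℂ) c * conj ((χ : G → ℂ) c) * (χ : G → ℂ) 1 else 0) := by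
    intro χ
    by_cases h : χ ∈ B
    · simp only [if_pos h]
      rw [Helper2.frobenius_reciprocity H (ξ : H → ℂ) (χ : G → ℂ)
        (Helper2.IsIrrCharacter.isClassFunction χ.2)]
      unfold classInner
      rw [Finset.mul_sum, Finset.mul_sum, Finset.sum_mul]
      refine Finset.sum_congr rfl fun c _ => ?_
      ring
    · simp only [if_neg h]
      simp
  rw [Finset.sum_congr rfl fun χ _ => e1 χ, ← Finset.mul_sum, Finset.sum_comm,
    Finset.mul_sum, Finset.mul_sum]
  refine Finset.sum_congr rfl fun c _ => ?_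
  have e2 : ∑ χ : IrrCharacter G, (if χ ∈ B then
        (ξ : H → ℂ) c * conj ((χ : G → ℂ) c) * (χ : G → ℂ) 1 else 0)
      = (ξ : H → ℂ) c * ∑ χ : IrrCharacter G, (χ : G → ℂ) 1 * (if χ ∈ B then (1 : ℂ) else 0)
        * conj ((χ : G → ℂ) (c : G)) := by
    rw [Finset.mul_sum]
    refine Finset.sum_congr rfl fun χ _ => ?_
    split_ifs <;> ring
  rw [e2]
  field_simp

/-- The value at `1` of a block part of an induced irreducible character is a natural
number. -/
theorem blockPart_ind_nat (H : Subgroup G) [Fintype H] (ξ : IrrCharacter H)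
    (B : Set (IrrCharacter G)) : ∃ n : ℕ, blockPart B (indFun H (ξ : H → ℂ)) 1 = (n : ℂ) := by
  classical
  have := Helper24.finite_irrCharacter (G := G)
  have : Fintype (IrrCharacter G) := Fintype.ofFinite _
  have hch := Helper2.isCharacter_indFun H (Helper24.isCharacter_of_irr ξ.2)
  have hnat : ∀ χ : IrrCharacter G, ∃ n : ℕ,
      classInner (indFun H (ξ : H → ℂ)) (χ : G → ℂ) = n := fun χ =>
    Cfsg.Agent.Helper10.classInner_char_irr hch χ.2
  choose m hm using hnat
  refine ⟨∑ χ : IrrCharacter G, if χ ∈ B then m χ * charDegree (χ : G → ℂ) else 0, ?_⟩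
  rw [blockPart_apply, finsum_mem_eq_sum_ite]
  push_cast
  refine Finset.sum_congr rfl fun χ _ => ?_
  split_ifs
  · rw [hm χ, Helper24.charDegree_spec (Helper24.isCharacter_of_irr χ.2)]
  · rfl

theorem charDegree_ind_ne_zero (H : Subgroup G) [Fintype H] (ξ : IrrCharacter H) :
    charDegree (indFun H (ξ : H → ℂ)) ≠ 0 := by
  rw [charDegree_indFun H (Helper24.isCharacter_of_irr ξ.2)]
  exact mul_ne_zero Subgroup.index_ne_zero_of_finite (charDegree_irr_ne_zero ξ)

/-- The ratio of the `B`-part of an induced character at `1` by its degree is congruent to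
the value of the indicator of `B` on the induced block. -/
theorem induced_part_ratio [Fact p.Prime] (hpM : IsPModular p M) (H : Subgroup G) [Fintype H]
    {b : Set (IrrCharacter H)} {B₀ : Set (IrrCharacter G)} (hind : IsInducedBlock M H b B₀)
    (ξ : IrrCharacter H) (hξ : ξ ∈ b) (B : Set (IrrCharacter G)) (hB : IsPBlock M B)
    [DecidablePred (· ∈ B)] (χ₀ : IrrCharacter G) (hχ₀ : χ₀ ∈ B₀) (n : ℕ)
    (hn : blockPart B (indFun H (ξ : H → ℂ)) 1 = (n : ℂ)) :
    MemLocalIdeal M ((n : ℂ) / (charDegree (indFun H (ξ : H → ℂ)) : ℂ)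
      - (if χ₀ ∈ B then (1 : ℂ) else 0)) := by
  have hM := hpM.2.1.isPrime
  have := Helper24.finite_irrCharacter (G := G)
  have : Fintype (IrrCharacter G) := Fintype.ofFinite _
  have h1 := brLam_congr_of_induced hM H hind ξ hξ χ₀ hχ₀
    (fun χ => if χ ∈ B then (1 : ℂ) else 0) (block_indicator_mem hM hB)
  have h2 := blockPart_ind_one H ξ B
  rw [hn, Helper24.charDegree_spec
    (Helper2.isCharacter_indFun H (Helper24.isCharacter_of_irr ξ.2))] at h2
  have hd : (charDegree (indFun H (ξ : H → ℂ)) : ℂ) ≠ 0 :=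
    Nat.cast_ne_zero.mpr (charDegree_ind_ne_zero H ξ)
  have h3 : (n : ℂ) / (charDegree (indFun H (ξ : H → ℂ)) : ℂ)
      = brLam H ξ (fun χ => if χ ∈ B then (1 : ℂ) else 0) := by
    rw [h2]
    field_simp
  rw [h3]
  exact h1

/-- The part in the induced block has the same `p`-part as the degree. -/
theorem induced_part_val_eq [Fact p.Prime] (hpM : IsPModular p M) (H : Subgroup G) [Fintype H]
    {b : Set (IrrCharacter H)} {B₀ : Set (IrrCharacter G)} (hind : IsInducedBlock M H b B₀)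
    (ξ : IrrCharacter H) (hξ : ξ ∈ b) (n : ℕ)
    (hn : blockPart B₀ (indFun H (ξ : H → ℂ)) 1 = (n : ℂ)) :
    n ≠ 0 ∧ n.factorization p = (charDegree (indFun H (ξ : H → ℂ))).factorization p := by
  classical
  have hM := hpM.2.1.isPrime
  have hp := hpM.1
  obtain ⟨χ₀, hχ₀⟩ : ∃ χ₀ : IrrCharacter G, χ₀ ∈ B₀ := by
    obtain ⟨χ₁, hBeq⟩ := id hind.2.1
    exact ⟨χ₁, by rw [hBeq]; exact mem_blockOf_self hM.ne_top χ₁⟩
  have h1 := induced_part_ratio hpM H hind ξ hξ B₀ hind.2.1 χ₀ hχ₀ n hn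
  rw [if_pos hχ₀] at h1
  have hR : MemLocalRing M (((n : ℤ) : ℂ) / (charDegree (indFun H (ξ : H → ℂ)) : ℂ)) := by
    have h2 := MemLocalRing.add hM (MemLocalIdeal.memLocalRing h1) (MemLocalRing.one hM.ne_top)
    rw [sub_add_cancel] at h2
    rw [Int.cast_natCast]
    exact h2
  have hu : ¬ MemLocalIdeal M (((n : ℤ) : ℂ) / (charDegree (indFun H (ξ : H → ℂ)) : ℂ)) := by
    intro h
    rw [Int.cast_natCast] at h
    have h2 := MemLocalIdeal.sub hM h h1
    rw [sub_sub_cancel] at h2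
    exact not_memLocalIdeal_one h2
  rw [int_ratio_val hpM _ _ (charDegree_ind_ne_zero H ξ) hR] at hu
  refine ⟨by exact_mod_cast hu.1, ?_⟩
  rw [Nat.factorization_def n hp, ← padicValInt.of_nat]
  exact hu.2

/-- The parts in the other blocks are zero or have a larger `p`-part than the degree. -/
theorem induced_part_val_lt [Fact p.Prime] (hpM : IsPModular p M) (H : Subgroup G) [Fintype H]
    {b : Set (IrrCharacter H)} {B₀ : Set (IrrCharacter G)} (hind : IsInducedBlock M H b B₀)
    (ξ : IrrCharacter H) (hξ : ξ ∈ b) (B : Set (IrrCharacter G)) (hB : IsPBlock M B)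
    (hne : B ≠ B₀) (n : ℕ) (hn : blockPart B (indFun H (ξ : H → ℂ)) 1 = (n : ℂ)) :
    n = 0 ∨ (charDegree (indFun H (ξ : H → ℂ))).factorization p < n.factorization p := by
  classical
  have hM := hpM.2.1.isPrime
  have hp := hpM.1
  obtain ⟨χ₀, hχ₀⟩ : ∃ χ₀ : IrrCharacter G, χ₀ ∈ B₀ := by
    obtain ⟨χ₁, hBeq⟩ := id hind.2.1
    exact ⟨χ₁, by rw [hBeq]; exact mem_blockOf_self hM.ne_top χ₁⟩
  have hχ₀B : χ₀ ∉ B := by
    intro h
    apply hne
    ext χ
    exact ⟨fun hχ => mem_block_of_sameBlock hM hind.2.1 hχ₀ (sameBlock_of_mem_block hM hB h hχ),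
      fun hχ => mem_block_of_sameBlock hM hB h (sameBlock_of_mem_block hM hind.2.1 hχ₀ hχ)⟩
  have h1 := induced_part_ratio hpM H hind ξ hξ B hB χ₀ hχ₀ n hn
  rw [if_neg hχ₀B, sub_zero] at h1
  by_cases hn0 : n = 0
  · exact Or.inl hn0
  right
  have hJ : MemLocalIdeal M (((n : ℤ) : ℂ) / (charDegree (indFun H (ξ : H → ℂ)) : ℂ)) := by
    rw [Int.cast_natCast]
    exact h1
  have hn0' : (n : ℤ) ≠ 0 := by exact_mod_cast hn0
  have hle := int_ratio_val_le hpM _ hn0' _ (charDegree_ind_ne_zero H ξ) (MemLocalIdeal.memLocalRing hJ)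
  have hne' : padicValInt p (n : ℤ) ≠ (charDegree (indFun H (ξ : H → ℂ))).factorization p := by
    intro h
    exact ((int_ratio_val hpM _ _ (charDegree_ind_ne_zero H ξ) (MemLocalIdeal.memLocalRing hJ)).2 ⟨hn0', h⟩) hJ
  rw [Nat.factorization_def n hp, ← padicValInt.of_nat]
  omega

end

end Cfsg.Agent.Helper25
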